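import Cfsg.Agent.Mrg.Omega.IId.Cv.Syl
import Cfsg.Agent.Mrg.Omega.IId.M4.Entry
import Cfsg.Agent.Mrg.Omega.HOneTwo.Basic
import Cfsg.Agent.Mrg.Omega.HTwo.EntryTv
import Cfsg.Agent.Mrg.Omega.HT.Main
import Cfsg.Agent.Mrg.Omega.IId.Cv.SymBigPos
import Cfsg.Agent.Mrg.Omega.IId.Cv.MixThree
import Cfsg.Agent.Mrg.Omega.ThmC.Of
import Cfsg.Agent.Mrg.Omega.IId.ThmCD.Cor
import Cfsg.Agent.Mrg.Omega.IId.ThmCD.Blk
import Cfsg.Agent.Mrg.Omega.IId.ThmCQ.Fix
import Cfsg.Agent.Mrg.Omega.IId.Cv.Cut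
import Cfsg.Agent.Mrg.Omega.HOne.CutT
import Cfsg.Agent.Mrg.Omega.IId.BigFour.NoBig
import Cfsg.Agent.Mrg.Omega.HOneEnd.Known
import Cfsg.Agent.Mrg.Omega.HOne.Cut
import Cfsg.Agent.Mrg.Omega.FFBr.Final
import Cfsg.Agent.Mrg.Omega.HOne.ResOf
import Cfsg.Agent.Mrg.Omega.HOne.StFour
import Cfsg.Agent.Mrg.Omega.IId.Pf.Idx
import Cfsg.Agent.Mrg.ParSys.FreeLie
import Cfsg.Agent.Mrg.Omega.IId.FFour.Two
import Cfsg.Agent.Mrg.Omega.IId.OneOf
import Cfsg.Agent.Mrg.Omega.IId.CaseA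
import Cfsg.Agent.Mrg.Omega.IId.SMain
import Cfsg.Agent.Mrg.Omega.IId.Match
import Cfsg.Agent.Mrg.Omega.IId.Sup
import Cfsg.Agent.Mrg.Omega.SQT.Rank
import Cfsg.Agent.Mrg.Omega.NSix.TkPair
import Cfsg.Agent.Mrg.Omega.IId.LFour.Norm
import Cfsg.Agent.Mrg.Omega.IId.LFour.TwoTypes
import Cfsg.Agent.Mrg.Omega.IId.LFour.SwTwo
import Cfsg.Agent.Mrg.Omega.IId.LFour.LemO
import Cfsg.Agent.Mrg.Omega.IId.LFour.ZTn
import Cfsg.Agent.Mrg.Omega.IId.LFour.LemX
import Cfsg.Agent.Mrg.Omega.IId.LFour.Quarter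
import Cfsg.Agent.Mrg.Omega.NO3b.UMethod
import Cfsg.Agent.Mrg.Omega.IId.MatchSym
import Cfsg.Agent.Mrg.Omega.IId.Big.Of
import Cfsg.Agent.Mrg.Omega.IId.Big.Syl.Final
import Cfsg.Agent.Mrg.Omega.ThmC.TwoEnd
import Cfsg.Agent.Mrg.Omega.IId.SymMany.End
import Cfsg.Agent.Mrg.Omega.NSix.TLg
import Cfsg.Agent.Mrg.Omega.NOne.LemmaT
import Cfsg.Agent.Mrg.Omega.IId.Cv.TwoFourEnd
import Cfsg.Agent.Mrg.Omega.IId.Cv.TwoBTwo
import Cfsg.Agent.Mrg.Omega.IId.Cv.SymPos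
import Cfsg.Agent.Mrg.Omega.F4Leaf.NoWrFree
import Cfsg.Agent.Mrg.Omega.HTwo.EightPos
import Cfsg.Agent.Mrg.Omega.HTwo.SevenMain
import Cfsg.Agent.Mrg.Omega.HOneTwo.MoreMain

-- merged: Cfsg.Agent.Mrg.Omega.IId.Cv.Htt
section

/-!
# WrCv, CASE 1, `q = 2`: the structure `HTT` for `T = stab M i`, `V₁ = fac M i`

`Dat M i j R o` : `R` the points of `V₁ = fac M i`, `R o = line M i`, `T = stab M i` Sylow in `N_G(R o)`.

* `exists_dat` : the data for an unmixed factor;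
* `Dat.half` : HALF LEMMA for `X` : `O₂(H)` centralises `V₁` for `H ≥ T, X` of characteristic 2;
* `Dat.htt` : `HTT T (T ⊔ X) V₁ R o`.
-/

set_option autoImplicit false
set_option linter.unusedSectionVars false

namespace Cfsg.Agent.Omega.IId.NV.Htt

open Subgroup Cfsg Cfsg.Agent.ZN Cfsg.Agent.ZN.ChoiceBase
open Cfsg.Agent.Omega.MinPar Cfsg.Agent.Omega.FFThm
open Cfsg.Agent.MinSimple
open Cfsg.Agent.Omega.BTwo (BT BTS QQ WW XX CenX O2)
open Cfsg.Agent.Omega.IId.Cv (UnM)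
open Cfsg.Agent.Omega.NatPair (NatMod)

universe u

variable {G : Type u} [Group G] [Finite G] {F : Type} [Field F] [Finite F] [CharP F 2] {S : Sylow 2 G}
  {P V D : Subgroup G} {M : NatD F S P V D 2} {i j : Fin 2}
  {ι : Type*} {R : ι → Subgroup G} {o : ι}

/-- the standing data -/
structure Dat (M : NatD F S P V D 2) (i j : Fin 2) (R : ι → Subgroup G) (o : ι) : Prop where
  ne : i ≠ j
  card : Nat.card F = 2
  b : BTS (NV.fac M.toNatV i) R
  Ro : R o = NV.line M.toNatV i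
  Rg : ∀ k, ∃ g ∈ NV.grp M.toNatV {i}, BTwo.cj g (R o) = R k
  odd : ¬ 2 ∣ (NV.stab M.toNatV i).relIndex (normalizer (NV.line M.toNatV i : Set G))

/-- the data of an unmixed factor -/
theorem exists_dat (M : NatD F S P V D 2) (hij : i ≠ j) (hF : Nat.card F = 2) (hu : UnM M i)
    (hd : ¬ 2 ∣ (NV.stab M.toNatV i).relIndex (normalizer (NV.line M.toNatV i : Set G))) :
    ∃ (κ : Type u) (R : κ → Subgroup G) (o : κ), Dat M i j R o := by
  obtain ⟨N, hN⟩ := bts_two M hij hF hu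
  have hw : (![1, 0] : Fin 2 → F) ≠ 0 := fun h => one_ne_zero (congrFun h 0)
  refine ⟨BTwo.Pt N, BTwo.pt N, ⟨N.line ![1, 0], ![1, 0], hw, rfl⟩, hij, hF, hN.bts, hN.line, ?_, hd⟩
  intro k
  obtain ⟨o, ho⟩ : ∃ o : BTwo.Pt N, o = ⟨N.line ![1, 0], ![1, 0], hw, rfl⟩ := ⟨_, rfl⟩
  rw [← ho]
  have hRo : BTwo.pt N o = line M.toNatV i := by rw [ho]; exact hN.line
  have hc : Nat.card (BTwo.pt N o) = 2 := by rw [hRo, card_line, hF]
  obtain ⟨y, -, e⟩ := hN.bts.trans_X_one o k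
  have hck : Nat.card (BTwo.pt N k) = 2 := by rw [← e, BTwo.card_cj, hc]
  obtain ⟨a, ha, ha1⟩ := hN.bts.exists_ne o
  obtain ⟨v, hv, hv1⟩ := hN.bts.exists_ne k
  obtain ⟨g, hg, hgv⟩ := exists_grp M.toNatV (hN.bts.R_le o ha) (hN.bts.R_le k hv) ha1 hv1
  refine ⟨g, hg, ?_⟩
  refine eq_of_le_of_card_ge (BTwo.cj_le_iff.2 fun x hx => ?_) (by rw [BTwo.card_cj, hc, hck])
  rcases Two.eq_or_eq_of_card_two hc ha ha1 hx with rfl | rfl
  · rw [mul_one, mul_inv_cancel]; exact one_mem _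
  · rw [hgv]; exact hv

namespace Dat

variable (h : Dat M i j R o)
include h

theorem card_R (k : ι) : Nat.card (R k) = 2 := by
  obtain ⟨g, -, e⟩ := h.Rg k
  rw [← e, BTwo.card_cj, h.Ro, card_line, h.card]

theorem SR : NV.stab M.toNatV i ≤ normalizer (R o : Set G) := by
  rw [h.Ro]; exact stab_normalizes_line M.toNatV (SP M) i

theorem cenX {z : G} (hz : z ∈ NV.fac M.toNatV j ∨ z ∈ DT M) {x : G} (hx : x ∈ XX (NV.fac M.toNatV i) R) :
    x * z = z * x :=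
  mem_centralizer_iff.1 (mem_CenX M h.ne h.b.toBT h.Ro h.Rg hz) x hx

theorem X_norm : XX (NV.fac M.toNatV i) R ≤ normalizer (NV.fac M.toNatV i : Set G) := h.b.toBT.X_le_NV

/-- an element of `X` which permutes the points cyclically -/
theorem exists_x : ∃ x ∈ XX (NV.fac M.toNatV i) R, ∀ v ∈ NV.fac M.toNatV i, nx x v = 1 := by
  obtain ⟨y, a, b, c, hy⟩ := exists_abc M h.card i
  have hao : a ∈ R o := by rw [h.Ro]; exact hy.a_mem
  obtain ⟨p, hp⟩ := h.b.R_cov b hy.b_mem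
  obtain ⟨q, hq⟩ := h.b.R_cov c hy.c_mem
  have hop : o ≠ p := by
    rintro rfl
    rcases Two.eq_or_eq_of_card_two (h.card_R o) hao hy.a1 hp with h1 | h1
    · exact hy.b1 h1
    · exact hy.ab h1.symm
  have hpq : p ≠ q := by
    rintro rfl
    rcases Two.eq_or_eq_of_card_two (h.card_R p) hp hy.b1 hq with h1 | h1
    · exact hy.c1 h1
    · exact hy.bc h1.symm
  obtain ⟨x, hx, e1, e2⟩ := h.b.toBT.trans_X hop hpq
  have conj1 : ∀ {v : G}, x * v * x⁻¹ = 1 → v = 1 := fun {v} hv => by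
    have e : v = x⁻¹ * (x * v * x⁻¹) * x := by group
    rw [e, hv]; group
  have xa : x * a * x⁻¹ = b := by
    have h1 : x * a * x⁻¹ ∈ R p := by rw [← e1]; exact BTwo.conj_mem_cj hao
    exact (Two.eq_or_eq_of_card_two (h.card_R p) hp hy.b1 h1).resolve_left fun h2 => hy.a1 (conj1 h2)
  have xb : x * b * x⁻¹ = c := by
    have h1 : x * b * x⁻¹ ∈ R q := by rw [← e2]; exact BTwo.conj_mem_cj hp
    exact (Two.eq_or_eq_of_card_two (h.card_R q) hq hy.c1 h1).resolve_left fun h2 => hy.b1 (conj1 h2)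
  have cm : ∀ {v w : G}, v ∈ NV.fac M.toNatV i → w ∈ NV.fac M.toNatV i → v * w = w * v := fun {v w} hv hw =>
    h.b.V_comm v hv w hw
  have sq : ∀ {v : G}, v ∈ NV.fac M.toNatV i → v * v = 1 := fun {v} hv => h.b.V_sq v hv
  have ha := hy.a_fac
  have hb := hy.b_mem
  have hc := hy.c_mem
  have xc : x * c * x⁻¹ = a := by
    have e : x * c * x⁻¹ = (x * a * x⁻¹) * (x * b * x⁻¹) := by rw [← hy.mul]; group
    rw [e, xa, xb, ← hy.mul, ← mul_assoc, cm hb ha, mul_assoc, sq hb, mul_one]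
  refine ⟨x, hx, fun v hv => ?_⟩
  have habc : a * b * c = 1 := by rw [hy.mul, sq hc]
  rcases hy.all v hv with rfl | rfl | rfl | rfl
  · exact nx_one x
  · show v * (x * v * x⁻¹) * (x * (x * v * x⁻¹) * x⁻¹) = 1
    rw [xa, xb, habc]
  · show v * (x * v * x⁻¹) * (x * (x * v * x⁻¹) * x⁻¹) = 1
    rw [xb, xc, cm (mul_mem hb hc) ha, ← mul_assoc, habc]
  · show v * (x * v * x⁻¹) * (x * (x * v * x⁻¹) * x⁻¹) = 1
    rw [xc, xa, mul_assoc, cm hc (mul_mem ha hb), habc]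

/-- `V₁` is irreducible for `X` -/
theorem irr {Y : Subgroup G} (hY : Y ≤ NV.fac M.toNatV i) (hn : XX (NV.fac M.toNatV i) R ≤ normalizer (Y : Set G)) :
    Y = ⊥ ∨ Y = NV.fac M.toNatV i := by
  by_cases h0 : Y = ⊥
  · exact Or.inl h0
  right
  obtain ⟨y, hy, hy1⟩ := (Subgroup.bot_or_exists_ne_one Y).resolve_left h0
  obtain ⟨k, hk⟩ := h.b.R_cov y (hY hy)
  refine le_antisymm hY fun v hv => ?_
  obtain ⟨l, hl⟩ := h.b.R_cov v hv
  obtain ⟨x, hx, e⟩ := h.b.toBT.trans_X_one k l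
  have h1 : R l ≤ Y := by
    rw [← e, BTwo.cj_le_iff]
    intro w hw
    refine BTwo.conj_mem_of_normalizer (hn hx) ?_
    rcases Two.eq_or_eq_of_card_two (h.card_R k) hk hy1 hw with rfl | rfl
    · exact one_mem _
    · exact hy
  exact h1 hl

theorem V_ne : NV.fac M.toNatV i ≠ ⊥ := fac_ne_bot M.toNatV i

theorem V_le_T : NV.fac M.toNatV i ≤ NV.stab M.toNatV i :=
  (fac_le _ _).trans (part_le_stb (blk_two M i))

theorem T_p : IsPGroup 2 (NV.stab M.toNatV i) := S.isPGroup'.to_le (stab_le _ _)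

/-- `O₂(L)` centralises `V₁` for `X ≤ L ≤ N(V₁)` -/
theorem o2_le {L : Subgroup G} (hX : XX (NV.fac M.toNatV i) R ≤ L)
    (hL : L ≤ normalizer (NV.fac M.toNatV i : Set G)) : o2 L ≤ centralizer (NV.fac M.toNatV i : Set G) := by
  have hV2 : IsPGroup 2 (NV.fac M.toNatV i) := h.T_p.to_le h.V_le_T
  obtain ⟨v, hv, hv1, hvc⟩ := Half.exists_fixed hV2 h.V_ne (VModule.o2_isPGroup L) ((VModule.o2_le L).trans hL)
  have hinv : L ≤ normalizer ((NV.fac M.toNatV i ⊓ centralizer (o2 L : Set G) : Subgroup G) : Set G) := by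
    refine Half.le_normalizer_inf hL ?_
    apply Two.le_normalizer_of
    intro k hk v hv
    rw [mem_centralizer_iff] at hv ⊢
    intro y hy
    have h2 := (mem_normalizer_iff.1 (inv_mem (VModule.le_normalizer_o2 _ hk)) y).1 hy
    have h3 := hv _ h2
    rw [inv_inv] at h3
    calc y * (k * v * k⁻¹) = k * (k⁻¹ * y * k * v) * k⁻¹ := by group
      _ = k * (v * (k⁻¹ * y * k)) * k⁻¹ := by rw [h3]
      _ = k * v * k⁻¹ * y := by group
  rcases h.irr inf_le_left (hX.trans hinv) with h1 | h1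
  · exfalso
    apply hv1
    have h2 : v ∈ NV.fac M.toNatV i ⊓ centralizer (o2 L : Set G) := by
      refine mem_inf.2 ⟨hv, mem_centralizer_iff.2 fun t ht => ?_⟩
      exact mul_inv_eq_iff_eq_mul.1 (hvc t ht)
    rwa [h1, mem_bot] at h2
  · intro x hx
    rw [mem_centralizer_iff]
    intro y hy
    rw [SetLike.mem_coe, ← h1] at hy
    exact (mem_centralizer_iff.1 (mem_inf.1 hy).2 x hx).symm

/-- `Ω₁(Z(T)) = (V₁ ∩ Z)(V₂ ∩ Z) DT M` -/
theorem zc_dec {f : G} (hf : f ∈ zc (NV.stab M.toNatV i)) :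
    ∃ u ∈ NV.fac M.toNatV i, ∃ e, e ∈ zc (NV.stab M.toNatV i) ∧ (∀ x ∈ XX (NV.fac M.toNatV i) R, x * e = e * x) ∧
      u ∈ zc (NV.stab M.toNatV i) ∧ f = u * e := by
  obtain ⟨u, hu, w, hw, m, hm, huz, hwz, rfl⟩ := zc_stab_eq h.card h.ne hf
  refine ⟨u, hu, w * m, mul_mem hwz ((mem_DT M (i := i)).1 hm).1, fun x hx => ?_, huz, by rw [mul_assoc]⟩
  have h1 := h.cenX (Or.inl hw) hx
  have h2 := h.cenX (Or.inr hm) hx
  calc x * (w * m) = x * w * m := by group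
    _ = w * (x * m) := by rw [h1]; group
    _ = w * m * x := by rw [h2]; group

/-- an element of `Ω₁(Z(T))` with trivial norm lies in `V₁` -/
theorem mem_of_nx {x f : G} (hx : x ∈ XX (NV.fac M.toNatV i) R) (hx1 : ∀ v ∈ NV.fac M.toNatV i, nx x v = 1)
    (hf : f ∈ zc (NV.stab M.toNatV i)) (h1 : nx x f = 1) : f ∈ NV.fac M.toNatV i := by
  obtain ⟨u, hu, e, he, hxe, -, rfl⟩ := h.zc_dec hf
  have hxV : ∀ v ∈ NV.fac M.toNatV i, x * v * x⁻¹ ∈ NV.fac M.toNatV i := fun v hv =>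
    BTwo.conj_mem_of_normalizer (h.X_norm hx) hv
  have hev : ∀ v ∈ NV.fac M.toNatV i, v * e = e * v := fun v hv => (VModule.mem_zc.1 he).2.1 v (h.V_le_T hv)
  have hee : e * e = 1 := by rw [← pow_two]; exact (VModule.mem_zc.1 he).2.2
  have hxe' := hxe x hx
  have hue : nx x (u * e) = nx x u * e := by
    have k1 : x * (u * e) * x⁻¹ = x * u * x⁻¹ * e := by
      calc x * (u * e) * x⁻¹ = x * u * (e * x⁻¹) := by group
        _ = x * u * (x⁻¹ * (x * e) * x⁻¹) := by group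
        _ = x * u * (x⁻¹ * (e * x) * x⁻¹) := by rw [hxe']
        _ = x * u * x⁻¹ * e := by group
    have k2 : x * (x * u * x⁻¹ * e) * x⁻¹ = x * (x * u * x⁻¹) * x⁻¹ * e := by
      calc x * (x * u * x⁻¹ * e) * x⁻¹ = x * (x * u * x⁻¹) * (e * x⁻¹) := by group
        _ = x * (x * u * x⁻¹) * (x⁻¹ * (x * e) * x⁻¹) := by group
        _ = x * (x * u * x⁻¹) * (x⁻¹ * (e * x) * x⁻¹) := by rw [hxe']
        _ = x * (x * u * x⁻¹) * x⁻¹ * e := by group
    show u * e * (x * (u * e) * x⁻¹) * (x * (x * (u * e) * x⁻¹) * x⁻¹) = _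
    rw [k1, k2]
    have k3 := hev _ (hxV _ hu)
    have k4 := hev _ (hxV _ (hxV _ hu))
    calc u * e * (x * u * x⁻¹ * e) * (x * (x * u * x⁻¹) * x⁻¹ * e)
        = u * (e * (x * u * x⁻¹)) * (e * (x * (x * u * x⁻¹) * x⁻¹)) * e := by group
      _ = u * (x * u * x⁻¹) * (e * (x * (x * u * x⁻¹) * x⁻¹)) * (e * e) := by
          rw [← k3, ← k4]
          calc u * (x * u * x⁻¹ * e) * (x * (x * u * x⁻¹) * x⁻¹ * e) * e
              = u * (x * u * x⁻¹) * (e * (x * (x * u * x⁻¹) * x⁻¹)) * (e * e) := by group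
            _ = u * (x * u * x⁻¹) * (x * (x * u * x⁻¹) * x⁻¹ * e) * (e * e) := by rw [← k4]
      _ = u * (x * u * x⁻¹) * (x * (x * u * x⁻¹) * x⁻¹) * e := by rw [hee, mul_one, ← k4]; group
  rw [hue, hx1 u hu, one_mul] at h1
  rw [h1, mul_one]
  exact hu

/-- `T` is Sylow in `T ⊔ X` -/
theorem odd_sup : ¬ 2 ∣ (NV.stab M.toNatV i).relIndex
    (XX (NV.fac M.toNatV i) R ⊔ NV.stab M.toNatV i : Subgroup G) := by
  have h1 : (XX (NV.fac M.toNatV i) R ⊔ NV.stab M.toNatV i : Subgroup G) ≤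
      normalizer (NV.line M.toNatV j : Set G) := by
    refine sup_le ?_ ?_
    · refine le_trans (fun x hx => ?_) (centralizer_le_normalizer _)
      exact mem_centralizer_iff.2 fun z hz => (h.cenX (Or.inl (line_le _ _ hz)) hx).symm
    · rw [stab_eq M.toNatV (SP M) h.ne]
      exact stab_normalizes_line M.toNatV (SP M) j
  intro h2
  apply syl_other M h.ne h.odd
  rw [← relIndex_mul_relIndex _ _ _ le_sup_right h1]
  exact Dvd.dvd.mul_right h2 _

/-- **HALF LEMMA for `X`** -/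
theorem half {H : Subgroup G} (hH : H ⊓ centralizer (o2 H : Set G) ≤ o2 H) (hS : NV.stab M.toNatV i ≤ H)
    (hX : XX (NV.fac M.toNatV i) R ≤ H) : o2 H ≤ centralizer (NV.fac M.toNatV i : Set G) := by
  have hLV : (XX (NV.fac M.toNatV i) R ⊔ NV.stab M.toNatV i : Subgroup G) ≤
      normalizer (NV.fac M.toNatV i : Set G) := sup_le h.X_norm (stab_normalizes _ i)
  refine (half_of S (stab_le _ _) (card_two M i) hH le_sup_right (sup_le hX hS) h.odd_sup h.V_le_T hLV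
    h.b.V_comm (fun Y hY hn => h.irr hY (le_sup_left.trans hn)) (h.o2_le le_sup_left hLV) ?_).2
  intro w hw hw' heq hc
  obtain ⟨y, a, b, c, hy⟩ := exists_abc M h.card i
  obtain ⟨x, hx, hx1⟩ := h.exists_x
  have ha := hy.a_fac
  have hac : ∀ t ∈ NV.stab M.toNatV i, t * a = a * t := fun t ht => mul_inv_eq_iff_eq_mul.1 (hy.stab_a ht)
  refine ⟨a, ha, hy.a1, ?_⟩
  have haa : a * a = 1 := h.b.V_sq a ha
  have hz2 : w * a * w⁻¹ ∈ NV.stab M.toNatV i := hw a (h.V_le_T ha)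
  have hfz : a * (w * a * w⁻¹) ∈ zc (NV.stab M.toNatV i) := by
    refine VModule.mem_zc.2 ⟨mul_mem (h.V_le_T ha) hz2, fun t ht => ?_, ?_⟩
    · have h1 := hac _ (hw' t ht)
      have h2 : t * (w * a * w⁻¹) = (w * a * w⁻¹) * t := by
        calc t * (w * a * w⁻¹) = w * (w⁻¹ * t * w * a) * w⁻¹ := by group
          _ = w * (a * (w⁻¹ * t * w)) * w⁻¹ := by rw [h1]
          _ = (w * a * w⁻¹) * t := by group
      calc t * (a * (w * a * w⁻¹)) = (t * a) * (w * a * w⁻¹) := by group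
        _ = a * (t * (w * a * w⁻¹)) := by rw [hac t ht, mul_assoc]
        _ = a * (w * a * w⁻¹) * t := by rw [h2, ← mul_assoc]
    · have h1 := hc a ha a ha
      rw [pow_two]
      calc a * (w * a * w⁻¹) * (a * (w * a * w⁻¹)) = a * ((w * a * w⁻¹) * a) * (w * a * w⁻¹) := by group
        _ = a * (a * (w * a * w⁻¹)) * (w * a * w⁻¹) := by rw [h1]
        _ = (a * a) * (w * (a * a) * w⁻¹) := by group
        _ = 1 := by rw [haa]; group
  have hnorm : nx x (a * (w * a * w⁻¹)) = 1 := by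
    have h1 := nx_map (x := x) (fun a => a * (w * a * w⁻¹)) (B := NV.fac M.toNatV i)
      (fun a ha b hb => by
        have h2 := hc b hb a ha
        change a * b * (w * (a * b) * w⁻¹) = a * (w * a * w⁻¹) * (b * (w * b * w⁻¹))
        calc a * b * (w * (a * b) * w⁻¹) = a * (b * (w * a * w⁻¹)) * (w * b * w⁻¹) := by group
          _ = a * ((w * a * w⁻¹) * b) * (w * b * w⁻¹) := by rw [h2]
          _ = _ := by group)
      (h.X_norm hx)
      (fun a ha => by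
        rw [← heq x (mem_sup_left hx) a ha]
        group) ha
    rw [hx1 a ha] at h1
    rw [h1]
    group
  have h1 := h.mem_of_nx hx hx1 hfz hnorm
  have h2 := mul_mem (inv_mem ha) h1
  rwa [inv_mul_cancel_left] at h2

/-- **the structure `HTT`** -/
theorem htt : HT.HTT (NV.stab M.toNatV i) (NV.stab M.toNatV i ⊔ XX (NV.fac M.toNatV i) R)
    (NV.fac M.toNatV i) R o where
  toBT := h.b.toBT
  card_R := h.card_R
  char2 := M.hG
  S_p := h.T_p
  S_odd := by rw [h.Ro]; exact h.odd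
  S_V := stab_normalizes _ i
  S_R := h.SR
  S_P := le_sup_left
  P_V := sup_le (stab_normalizes _ i) h.X_norm
  P_trans := fun k => by
    obtain ⟨x, hx, e⟩ := h.b.toBT.trans_X_one o k
    exact ⟨x, mem_sup_right hx, e⟩
  P_Z := by
    intro x hx z hz
    obtain ⟨u, hu, e, he, hxe, -, rfl⟩ := h.zc_dec hz
    have hPe : NV.stab M.toNatV i ⊔ XX (NV.fac M.toNatV i) R ≤ centralizer ({e} : Set G) := by
      refine sup_le (fun t ht => ?_) fun t ht => ?_
      · exact mem_centralizer_singleton_iff.2 ((VModule.mem_zc.1 he).2.1 t ht)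
      · exact mem_centralizer_singleton_iff.2 (hxe t ht)
    have h1 : x * e = e * x := mem_centralizer_singleton_iff.1 (hPe hx)
    have hxN : x ∈ normalizer (NV.fac M.toNatV i : Set G) :=
      (sup_le (stab_normalizes _ i) h.X_norm : NV.stab M.toNatV i ⊔ XX (NV.fac M.toNatV i) R ≤ _) hx
    have e2 : x * (u * e) * x⁻¹ * (u * e)⁻¹ = x * u * x⁻¹ * u⁻¹ := by
      calc x * (u * e) * x⁻¹ * (u * e)⁻¹ = x * u * (e * x⁻¹) * e⁻¹ * u⁻¹ := by group
        _ = x * u * (x⁻¹ * (x * e) * x⁻¹) * e⁻¹ * u⁻¹ := by group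
        _ = x * u * (x⁻¹ * (e * x) * x⁻¹) * e⁻¹ * u⁻¹ := by rw [h1]
        _ = x * u * x⁻¹ * u⁻¹ := by group
    rw [e2]
    exact mul_mem (BTwo.conj_mem_of_normalizer hxN hu) (inv_mem hu)
  loc := fun H hS hX _ hH => h.half hH hS hX

end Dat

end Cfsg.Agent.Omega.IId.NV.Htt

end

-- merged: Cfsg.Agent.Mrg.Omega.IId.Cv.CvOneTwo
section

/-!
# WrCv, CASE 1, `q = 2`: the socket `CvOneA2`

`T = stab M i` Sylow in `N_G(line M i)`, `V₁ = fac M i` unmixed, `D ≠ 1`: with the structure `HTT` for `V₁` over `T`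
(`Cv/Htt.lean`), `HT.Main.main_core` says `|C_{Ω₁Z(T)}(X)| ≤ 2`; but it contains `D` and `line M j`.
-/

set_option autoImplicit false
set_option linter.unusedSectionVars false

namespace Cfsg.Agent.Omega.IId.NV.Htt

open Subgroup Cfsg Cfsg.Agent.ZN Cfsg.Agent.ZN.ChoiceBase
open Cfsg.Agent.Omega.MinPar Cfsg.Agent.Omega.FFThm
open Cfsg.Agent.MinSimple
open Cfsg.Agent.Omega.BTwo (BT BTS QQ WW XX CenX O2)
open Cfsg.Agent.Omega.IId.Cv (UnM)
open Cfsg.Agent.Omega.HOneTwo (cl UM)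
open Cfsg.Agent.Omega.HTwo.AlphaP (MP)
open Cfsg.Agent.Omega.HOne.TvDef
open Cfsg.Agent.Omega.HTwo.EntryTv (ME ME_z)

universe u

variable {G : Type u} [Group G] [Finite G] {F : Type} [Field F] [Finite F] [CharP F 2] {S : Sylow 2 G}
  {P V D : Subgroup G} (M : NatD F S P V D 2) {i j : Fin 2}

/-- the other factor is unmixed, too -/
theorem unM_other (hij : i ≠ j) (hu : UnM M i) : UnM M j := by
  have hSP := SP M
  obtain ⟨s, hs, hn⟩ : ∃ s ∈ (S : Subgroup G), s ∉ stab M.toNatV i := (blk_two M i).exists_swap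
  have h0 := swap_fac M.toNatV hSP hij hs hn
  have hsg : sg M.toNatV (hSP hs) i = j := (sg_eq_iff M.toNatV (hSP hs)).2 h0
  have h1 : cj s (line M.toNatV i) = line M.toNatV j := by
    rw [conj_line M.toNatV hSP hs, hsg]
  have hm : ∀ {v : G}, v ∈ fac M.toNatV i → s * v * s⁻¹ ∈ fac M.toNatV j := fun {v} hv => by
    rw [← h0, mem_cj_iff]
    have e : s⁻¹ * (s * v * s⁻¹) * s = v := by group
    rwa [e]
  obtain ⟨g, hg, v, hv, w, hw, hne⟩ := hu
  refine ⟨s * g * s⁻¹, ?_, s * v * s⁻¹, hm hv, s * w * s⁻¹, hm hw, fun h => hne ?_⟩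
  · rw [← h1, ← cj_normalizer, mem_cj_iff]
    have e : s⁻¹ * (s * g * s⁻¹) * s = g := by group
    rwa [e]
  · have e1 : s * v * s⁻¹ * (s * g * s⁻¹ * (s * w * s⁻¹) * (s * g * s⁻¹)⁻¹) = s * (v * (g * w * g⁻¹)) * s⁻¹ := by
      group
    have e2 : s * g * s⁻¹ * (s * w * s⁻¹) * (s * g * s⁻¹)⁻¹ * (s * v * s⁻¹) = s * (g * w * g⁻¹ * v) * s⁻¹ := by
      group
    rw [e1, e2] at h
    exact mul_left_cancel (mul_right_cancel h)

variable {M} {ι : Type*} {R : ι → Subgroup G} {o : ι} (h : Dat M i j R o)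
include h

/-- `DT M ≤ Z₀` -/
theorem Dat.DT_le : DT M ≤ zc (stab M.toNatV i) ⊓
    centralizer ((stab M.toNatV i ⊔ XX (fac M.toNatV i) R : Subgroup G) : Set G) := by
  intro z hz
  obtain ⟨h1, -⟩ := (mem_DT M (i := i)).1 hz
  refine ⟨h1, mem_centralizer_iff.2 fun x hx => ?_⟩
  have h2 : (stab M.toNatV i ⊔ XX (fac M.toNatV i) R : Subgroup G) ≤ centralizer ({z} : Set G) := by
    refine sup_le (fun t ht => ?_) fun t ht => ?_
    · exact mem_centralizer_singleton_iff.2 ((VModule.mem_zc.1 h1).2.1 t ht)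
    · exact mem_centralizer_singleton_iff.2 (h.cenX (Or.inr hz) ht)
  exact mem_centralizer_singleton_iff.1 (h2 hx)

/-- `V₂ ∩ Z(T) ≤ Z₀` -/
theorem Dat.fac_le {z : G} (hz : z ∈ fac M.toNatV j) (hz' : z ∈ zc (stab M.toNatV i)) :
    z ∈ zc (stab M.toNatV i) ⊓ centralizer ((stab M.toNatV i ⊔ XX (fac M.toNatV i) R : Subgroup G) : Set G) := by
  refine ⟨hz', mem_centralizer_iff.2 fun x hx => ?_⟩
  have h2 : (stab M.toNatV i ⊔ XX (fac M.toNatV i) R : Subgroup G) ≤ centralizer ({z} : Set G) := by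
    refine sup_le (fun t ht => ?_) fun t ht => ?_
    · exact mem_centralizer_singleton_iff.2 ((VModule.mem_zc.1 hz').2.1 t ht)
    · exact mem_centralizer_singleton_iff.2 (h.cenX (Or.inl hz) ht)
  exact mem_centralizer_singleton_iff.1 (h2 hx)

/-- an element of `Z₀` centralised by `N(V₁) ∩ N(R o)` lies in `DT M` -/
theorem Dat.mem_DT_of {c : G} (hc : c ∈ zc (stab M.toNatV i) ⊓
      centralizer ((stab M.toNatV i ⊔ XX (fac M.toNatV i) R : Subgroup G) : Set G))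
    (hg : ∀ g ∈ normalizer (R o : Set G), g ∈ normalizer (fac M.toNatV i : Set G) → g * c = c * g) : c ∈ DT M := by
  obtain ⟨u, hu, w, hw, m, hm, huz, hwz, rfl⟩ := zc_stab_eq h.card h.ne hc.1
  have hX : ∀ x ∈ XX (fac M.toNatV i) R, x * (u * w * m) = u * w * m * x := fun x hx =>
    mem_centralizer_iff.1 hc.2 x (mem_sup_right hx)
  have hu1 : u = 1 := by
    refine h.b.toBT.cen_VX hu (mem_centralizer_iff.2 fun x hx => ?_)
    have h1 := hX x hx
    have h2 := h.cenX (Or.inl hw) hx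
    have h3 := h.cenX (Or.inr hm) hx
    have h4 : x * u * (w * m) = u * x * (w * m) := by
      calc x * u * (w * m) = x * (u * w * m) := by group
        _ = u * w * (m * x) := by rw [h1]; group
        _ = u * (w * x) * m := by rw [← h3]; group
        _ = u * x * (w * m) := by rw [← h2]; group
    exact mul_right_cancel h4
  subst hu1
  rw [one_mul] at hg ⊢
  have hw1 : w = 1 := by
    have h5 : w ∈ fac M.toNatV j ⊓ centralizer (grp M.toNatV {j} : Set G) := by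
      refine ⟨hw, mem_centralizer_iff.2 fun g hgj => ?_⟩
      have h6 := hg g (by rw [h.Ro]; exact grp_le_line M h.ne hgj) (grp_normalizes M.toNatV {j} {i} hgj)
      have h7 := DT_comm_grp M h.ne.symm hm hgj
      have h8 : g * w * m = w * g * m := by
        calc g * w * m = g * (w * m) := by group
          _ = w * (m * g) := by rw [h6]; group
          _ = w * g * m := by rw [← h7]; group
      exact mul_right_cancel h8
    rwa [fac_inf_centralizer, mem_bot] at h5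
  rw [hw1, one_mul]
  exact hm

/-- `T` has odd index in `C(v₂)`, hence in `MZ` -/
theorem Dat.odd_MZ : ¬ 2 ∣ (stab M.toNatV i).relIndex (HT.JunAB.MZ (stab M.toNatV i) (fac M.toNatV i) R) := by
  obtain ⟨z, hz, hz1, hzT⟩ := exists_fac_zc M h.ne
  have hzl : z ∈ line M.toNatV j := by
    refine fix_le_line M.toNatV (SP M) hz fun t ht => ?_
    rw [stab_eq M.toNatV (SP M) h.ne.symm] at ht
    exact (VModule.mem_zc.1 hzT).2.1 t ht
  have hle : HT.JunAB.MZ (stab M.toNatV i) (fac M.toNatV i) R ≤ normalizer (line M.toNatV j : Set G) := by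
    have hc : Nat.card (line M.toNatV j) = 2 := by rw [card_line, h.card]
    refine (HT.JunAB.MZ_le h.htt (h.fac_le hz hzT)).trans fun g hg => ?_
    have hgz : g * z = z * g := mem_centralizer_singleton_iff.1 hg
    refine centralizer_le_normalizer _ (mem_centralizer_iff.2 fun y hy => ?_)
    rcases Two.eq_or_eq_of_card_two hc hzl hz1 hy with rfl | rfl
    · rw [one_mul, mul_one]
    · exact hgz.symm
  have hT : stab M.toNatV i ≤ HT.JunAB.MZ (stab M.toNatV i) (fac M.toNatV i) R := by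
    refine le_trans (fun t ht => ?_) le_sup_left
    exact mem_centralizer_iff.2 fun y hy => ((VModule.mem_zc.1 hy).2.1 t ht).symm
  intro h2
  apply syl_other M h.ne h.odd
  rw [← relIndex_mul_relIndex _ _ _ hT hle]
  exact Dvd.dvd.mul_right h2 _

/-- every 2-subgroup of `G` has order at most `2 |T|` -/
theorem Dat.hcard (Q : Subgroup G) (hQ : IsPGroup 2 Q) : Nat.card Q ≤ 2 * Nat.card (stab M.toNatV i) := by
  rw [← card_two M i]
  exact Half.card_le_sylow S hQ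

omit h in
/-- **CASE 1, `q = 2`**: contradiction -/
theorem false_of (h : Dat M i j R o) {κ : Type*} {R₂ : κ → Subgroup G} {o₂ : κ} (h₂ : Dat M j i R₂ o₂)
    (hu : UnM M i) (hD : D ≠ ⊥) : False := by
  have b := h.htt
  have b₂ : HT.HTT (stab M.toNatV i) (stab M.toNatV j ⊔ XX (fac M.toNatV j) R₂) (fac M.toNatV j) R₂ o₂ := by
    have := h₂.htt
    rwa [stab_eq M.toNatV (SP M) h.ne.symm] at this ⊢
  have hLE := lemE M h.card h.b h.Ro h.Rg hu h.odd
  obtain ⟨r, hr1, hrr, hr⟩ := b.exists_gen o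
  have hrR : r ∈ R o := (hr r).2 (Or.inr rfl)
  have hrV : r ∈ fac M.toNatV i := b.R_le o hrR
  have hSr : ∀ s ∈ stab M.toNatV i, s * r = r * s := fun s hs =>
    (mem_centralizer_iff.1 (HOneTwo.normalizer_le_cen_of_card (b.card_R o) (b.S_R hs)) r hrR).symm
  obtain ⟨d, hd, hd1⟩ := (Subgroup.bot_or_exists_ne_one D).resolve_left hD
  have hdT : d ∈ DT M := D_le_DT M hd
  have key : ∀ z ∈ DT M, z ≠ 1 → HT.Main.Core (fac M.toNatV i) R o r z ∧
      ∃ Y ≤ centralizer ({z * r} : Set G), HT.TComp.GSysW (centralizer ({z * r} : Set G)) Y r := by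
    intro z hz hz1
    have hzZ := h.DT_le hz
    refine ⟨HT.Core.ho2 b h.hcard hr hr1 hzZ hz1, ?_⟩
    have hSz : ∀ s ∈ stab M.toNatV i, s * z = z * s := (VModule.mem_zc.1 hzZ.1).2.1
    have hzz : z * z = 1 := by rw [← pow_two]; exact (VModule.mem_zc.1 hzZ.1).2.2
    have hzr : z * r = r * z := (hSz r (b.V_le_S hrV)).symm
    refine HT.Core.exists_Y b b₂ h.hcard hr1 hrR ?_ ?_ ?_ ?_
    · calc z * r * (z * r) = z * (r * z) * r := by group
        _ = (z * z) * (r * r) := by rw [← hzr]; group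
        _ = 1 := by rw [hzz, hrr, mul_one]
    · intro h4
      have h1 : z = r := by
        calc z = z * r * r := by rw [mul_assoc, hrr, mul_one]
          _ = r := by rw [h4, one_mul]
      have h3 : r ∈ fac M.toNatV i ⊓ (zc (stab M.toNatV i) ⊓
          centralizer ((stab M.toNatV i ⊔ XX (fac M.toNatV i) R : Subgroup G) : Set G)) := ⟨hrV, h1 ▸ hzZ⟩
      rw [b.R_inf_cz] at h3
      exact hr1 (mem_bot.1 h3)
    · intro s hs
      calc s * (z * r) = (s * z) * r := by group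
        _ = z * (s * r) := by rw [hSz s hs]; group
        _ = z * r * s := by rw [hSr s hs]; group
    · intro x hx
      have k1 := h₂.cenX (Or.inl hrV) hx
      have k2 := h₂.cenX (Or.inr hz) hx
      rw [mem_centralizer_singleton_iff]
      calc x * (z * r) = (x * z) * r := by group
        _ = z * (x * r) := by rw [k2]; group
        _ = z * r * x := by rw [k1]; group
  have hmain := HT.Main.main_core b hLE hr h.odd_MZ (fun c hc hs => by
    have hcT : c ∈ DT M := h.mem_DT_of hc fun g hg hgV => HT.Sig.comm b hr hc hs hg hgV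
    by_cases hc1 : c = 1
    · exact ⟨d, h.DT_le hdT, hd1, Or.inl hc1, key d hdT hd1⟩
    · exact ⟨c, hc, hc1, Or.inr rfl, key c hcT hc1⟩)
  obtain ⟨v, hv, hv1, hvT⟩ := exists_fac_zc M h.ne
  have e := hmain d (h.DT_le hdT) v (h.fac_le hv hvT) hd1 hv1
  apply hd1
  have h5 : d ∈ V ⊓ D := ⟨by rw [e]; exact NV.fac_le _ _ hv, hd⟩
  rwa [M.inf, mem_bot] at h5

end Cfsg.Agent.Omega.IId.NV.Htt

namespace Cfsg.Agent.Omega.IId.Cv

open Subgroup Pointwise Cfsg Cfsg.Agent.ZN Cfsg.Agent.ZN.ChoiceBase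
open Cfsg.Agent.Omega.MinPar Cfsg.Agent.Omega.Frame Cfsg.Agent.Omega.FFThm Cfsg.Agent.Omega.FrameMulti
open Cfsg.Agent.Omega.IId.NV

universe u

/-- **the socket `CvOneA2`** -/
theorem cvOneA2 (K : Cls.{u}) : CvOneA2 K := by
  intro G _ _ S _ P F _ _ _ V D M i hD hu hd hF
  obtain ⟨j, hji⟩ := exists_ne i
  have hij := hji.symm
  have hd₂ : ¬ 2 ∣ (NV.stab M.toNatV j).relIndex (normalizer (NV.line M.toNatV j : Set G)) := by
    rw [NV.stab_eq M.toNatV (NV.SP M) hji]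
    exact syl_other M hij hd
  obtain ⟨κ, R, o, h⟩ := Htt.exists_dat M hij hF hu hd
  obtain ⟨κ₂, R₂, o₂, h₂⟩ := Htt.exists_dat M hji hF (Htt.unM_other M hij hu) hd₂
  exact Htt.false_of h h₂ hu hD

end Cfsg.Agent.Omega.IId.Cv

end

-- merged: Cfsg.Agent.Mrg.Omega.IId.Cv.SymBigMix
section

/-!
# `CvSymMixBig` is proved (helper184, over helper747's MIX3)

`cvSymMixBig : CvSymMixBig`; `cvSymNat_of_unM : CvOneA2 K → CvOneA4 K → CvTwoA K → CvTwoB K → TTPair K → UnMBig K →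
CvSymNat K`.
-/

set_option autoImplicit false
set_option linter.unusedSectionVars false

namespace Cfsg.Agent.Omega.IId.Cv

open Subgroup Pointwise Cfsg Cfsg.Agent.ZN.ChoiceBase
open Cfsg.Agent.ZN (o2 zc zl)
open Cfsg.Agent.Omega.MinPar Cfsg.Agent.Omega.Frame Cfsg.Agent.Omega.FFThm Cfsg.Agent.Omega.FrameMulti
open Cfsg.Agent.Omega.FrameFF (cv Free)
open Cfsg.Agent.Omega.S5.Def
open Cfsg.Agent.Omega.NSix.Base Cfsg.Agent.Omega.NSix.Basic

universe u

/-- **Both mixed is dead**, any number of factors. -/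
theorem mix_false {G : Type u} [Group G] [Finite G] {S S' : Sylow 2 G} {P P' V D : Subgroup G} {F : Type} [Field F]
    [Finite F] [CharP F 2] {k : ℕ} {M : NatD F S P V D k} {m' : ℕ} {A : Subgroup G}
    {ε : (Fin (2 ^ m' + 1) → ZMod 2) → G} {l : Fin k} {i j : Fin (2 ^ m' + 1)}
    (hp : SymD.SPos M S' P' m' A ε l i j) (hD : D ≠ ⊥) (hu : ¬ UnM M l)
    (hw : ∀ g ∈ NN ε i j, ∀ v ∈ zl (S' : Subgroup G) P', ∀ w ∈ zl (S' : Subgroup G) P',
      v * (g * w * g⁻¹) = g * w * g⁻¹ * v) : False := by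
  refine MixThree.mix_three hp (cv_ne_bot_of M l.pos hD hp.sit) ?_ hu hw
  have h1 := NV.fac_le_QL_self M (SymD.hC_two M hp.two) l
  rwa [NV.QL, SymD.nor_line_eq M hp.sit hp.ne hp.mem] at h1

/-- **`CvSymMixBig`** -/
theorem cvSymMixBig : CvSymMixBig.{u} := by
  intro G _ _ S S' P P' V D F _ _ _ k M m' A ε l i j _ hp hD hu hw
  exact mix_false hp hD hu hw

/-- **`CvSymNat` from the unmixed sockets and `TTPair`**. -/
theorem cvSymNat_of_unM {K : Cls.{u}} (h1 : CvOneA2 K) (h2 : CvOneA4 K) (h3 : CvTwoA K) (h4 : CvTwoB K)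
    (hTT : TTPair K) (hU : UnMBig K) : CvSymNat K :=
  cvSymNat_of_all h1 h2 h3 h4 hTT cvSymMix hU cvSymMixBig

end Cfsg.Agent.Omega.IId.Cv

end

-- merged: Cfsg.Agent.Mrg.Omega.IId.CvBig.Line
section

/-!
# CvBig: THEOREM C with `D` for all `q`, all `k`, and the entry

* `QL_le_zc_cent` : `|F| ≥ 4`: `O₂(N_G(line M i))` centralises `Ω₁ Z(S^L)`;
* `hC_all` : `O₂(N_G(line M i)) ≤ S`, any finite `F` of characteristic 2, any `k`, any `D`;
* `exists_ent_all` : the entry data of a mutual pair of `HypN K S`, any `k`, `k'`;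
* `lineBig` : the same as `LineD`.
-/

set_option autoImplicit false
set_option linter.unusedSectionVars false

namespace Cfsg.Agent.Omega.IId.CvBig

open Subgroup Pointwise Cfsg Cfsg.Agent.ZN Cfsg.Agent.ZN.ChoiceBase
open Cfsg.Agent.Omega.MinPar Cfsg.Agent.Omega.Frame Cfsg.Agent.Omega.FFThm Cfsg.Agent.Omega.FrameMulti
open Cfsg.Agent.MinSimple
open Cfsg.Agent.Omega.IId.NV Cfsg.Agent.Omega.IId.Cv
open Cfsg.Agent.MinSimple.VModule (zc_le o2_isPGroup o2_le le_normalizer_o2)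

universe u

section one

variable {G : Type u} [Group G] [Finite G] {F : Type} [Field F] [Finite F] [CharP F 2] {S : Sylow 2 G}
  {P V D : Subgroup G} {k : ℕ} (M : NatD F S P V D k)

/-- **THEOREM C with `D`, `q ≥ 4`**: `O₂(N_G(line M i))` centralises `E = Ω₁ Z(S^L)`. -/
theorem QL_le_cent_E (hF : 4 ≤ Nat.card F) (i : Fin k) :
    QL M i ≤ centralizer (zc (ThmCQ.Sp.LS M) : Set G) := by
  obtain ⟨t, p, h, T⟩ := ThmCQ.Sp.exists_tor (M := M) hF
  exact T.dat.main i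

/-- `O₂(N_G(line M i)) ≤ S`, `q ≥ 4` -/
theorem hC_four (hF : 4 ≤ Nat.card F) (i : Fin k) : QL M i ≤ (S : Subgroup G) := by
  obtain ⟨t, p, h, T⟩ := ThmCQ.Sp.exists_tor (M := M) hF
  have hD := T.dat
  set E : Subgroup G := zc (ThmCQ.Sp.LS M) with hE
  have h1 : QL M i ≤ centralizer (E : Set G) := hD.main i
  have h2 : centralizer (E : Set G) ≤ normalizer (NV.line M.toNatV i : Set G) :=
    (centralizer_le (hD.ZE i)).trans (centralizer_le_normalizer _)
  have h3 : QL M i ≤ o2 (centralizer (E : Set G)) :=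
    MinSimple.VModule.le_o2 h1 (QL_two M i) (h2.trans (nor_line_le M i))
  have h4 : (S : Subgroup G) ≤ normalizer (centralizer (E : Set G) : Set G) := by
    intro s hs
    have h5 : s ∈ normalizer (E : Set G) := hD.S_le hs
    rw [mem_normalizer_iff_cj, cj_centralizer, cj_eq_of_mem_normalizer h5]
  exact h3.trans (ThmCD.le_sylow_of_normalized S (o2_isPGroup _) fun s hs => ThmCD.nor_o2 (h4 hs))

/-- **`O₂(N_G(line M i)) ≤ S`**, all `q`, `k`, `D`. -/
theorem hC_all (i : Fin k) : QL M i ≤ (S : Subgroup G) := by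
  rcases Cfsg.Agent.Omega.ThmC.Of.card_cases (F := F) with hF | hF
  · have hex : ∀ j : Fin k, ∃ z ∈ NV.line M.toNatV j, z ≠ 1 := fun j => ThmCQ.Sp.exists_line M j
    choose z hz hz1 using hex
    exact hC_of M hF hz hz1 (fun j => (thmCD M hF (hz j) (hz1 j)).1) i
  · exact hC_four M hF i

end one

/-- The socket `Cv.ThmCD` of `CvBig/Cut.lean`. -/
theorem thmCD : Cv.ThmCD.{u} := fun _ _ _ _ _ _ _ _ _ _ _ _ M _ i => hC_all M i

/-- **The entry for all `k`, `k'`.** -/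
theorem exists_ent_all {K : Cls.{u}} {G : Type u} [Group G] [Finite G] {S S' : Sylow 2 G} (hH : HypN K S)
    {P P' : Subgroup G} (hp : Pair S S' P P') {F F' : Type} [Field F] [Finite F] [CharP F 2] [Field F'] [Finite F']
    [CharP F' 2] {V V' D D' : Subgroup G} {k k' : ℕ} (M : NatD F S P V D k) (M' : NatD F' S' P' V' D' k') :
    ∃ i i', Ent M M' i i' :=
  exists_entry_of hp (hH.toHyp.typed' hp).1.noOver (hH.toHyp.typed' hp).2.noOver M M' (hC_all M) (hC_all M')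

/-- `|I| = 1`, the line and the entry, all `k`, `k'`. -/
theorem lineBig {K : Cls.{u}} {G : Type u} [Group G] [Finite G] {S S' : Sylow 2 G} (hH : HypN K S)
    {P P' : Subgroup G} (hp : Pair S S' P P') {F F' : Type} [Field F] [Finite F] [CharP F 2] [Field F'] [Finite F']
    [CharP F' 2] {V V' D D' : Subgroup G} {k k' : ℕ} (M : NatD F S P V D k) (M' : NatD F' S' P' V' D' k') :
    ∃ i i', LineD M M' i i' := by
  obtain ⟨i, i', h⟩ := exists_ent_all hH hp M M'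
  exact ⟨i, i', lineD_of_ent h⟩

end Cfsg.Agent.Omega.IId.CvBig

end

-- merged: Cfsg.Agent.Mrg.Omega.IId.Cv.IdT
section

/-!
# II.d, `V_P = V × D`: the identification socket `IdT`

`idT : IdT` from THEOREM ID (`M4.idM4`).
-/

set_option autoImplicit false

namespace Cfsg.Agent.Omega.IId.Cv

open Subgroup Cfsg

universe u

/-- **The identification with the K-facts.** -/
theorem idT : IdT.{u} := by
  intro G _ _ _ T G₀ U R v h _
  rcases M4.idM4 G T G₀ U R v h with h1 | h1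
  · exact Or.inl h1
  · exact Or.inr h1.fk

end Cfsg.Agent.Omega.IId.Cv

end

-- merged: Cfsg.Agent.Mrg.Omega.HOneEnd.KnownCut
section

/-!
# The END of LeafH1: the socket `Cut.EndL`
-/

set_option autoImplicit false

namespace Cfsg.Agent.Omega.HOneEnd

open Subgroup Cfsg Cfsg.Agent.Omega.Frame
open Cfsg.Agent.Omega.FrameLE (AllIn)

universe u

/-- **`Cut.EndL`** -/
theorem endL : Cfsg.Agent.Omega.HOne.Cut.EndL.{u} := by
  intro G _ _ hG S hF hA G₀ U R v h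
  have := hG.simple
  exact h.known FFBr.ffthm hG.char2 hF hA

/-- **`Cut.StEnd`** -/
theorem stEnd (K : Cls.{u}) : Cfsg.Agent.Omega.HOne.Cut.StEnd K := Cfsg.Agent.Omega.HOne.Cut.stEnd_of endL

end Cfsg.Agent.Omega.HOneEnd

end

-- merged: Cfsg.Agent.Mrg.Omega.IId.ChainPlug
section

/-!
# II.d: the chain over `T` (`q ≥ 4`), every socket plugged (assembler: helper36)

* `chainT : Cv.ChainT`; `chainM4 : M4.ChainM4 K`;
* `noTwoEnt` : the unmixed case of `WrMain4` is impossible;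
* `noBigEnt` : the same for more than two factors.
-/

set_option autoImplicit false

namespace Cfsg.Agent.Omega.IId.ChainPlug

open Cfsg Cfsg.Agent.Omega.Frame Cfsg.Agent.Omega.HOne.TLift Cfsg.Agent.Omega.Lie.End

universe u

/-- the K-facts of LAYER -/
theorem kr : Lie.LayerMain.KRows.{u} := HOne.StFour.kRows'

theorem kd : KDT.{u} := HOne.StFour.kdT'

theorem res : ResT.{u} := HOne.StFour.resT'

/-- **The chain over `T`.** -/
theorem chainT : Cv.ChainT.{u} :=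
  Cv.chainT_of kr (frT kd) dT (rsT kSideX kd) (nvT kd) res HOneQ.GaT.gaT

theorem chainM4 (K : Cls.{u}) : M4.ChainM4 K := by
  intro G _ _ S P F _ _ _ M i j N h
  obtain ⟨G₀, U, v, h1, h2, -⟩ := ent_out h kr (frT kd) dT (rsT kSideX kd) (nvT kd) res HOneQ.GaT.gaT
  exact ⟨G₀, U, v, h1, h2⟩

/-- `BigFour.NoTwoEnt K` -/
theorem noTwoEnt (K : Cls.{u}) : BigFour.NoTwoEnt K :=
  M4.noEnt FFBr.ffthm (chainM4 K) M4.idM4

/-- `BigFour.NoBigEnt K` -/
theorem noBigEnt (K : Cls.{u}) : BigFour.NoBigEnt K :=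
  BigFour.noBigEnt kr (frT kd) dT (rsT kSideX kd) (nvT kd) res HOneQ.GaT.gaT

end Cfsg.Agent.Omega.IId.ChainPlug

end

-- merged: Cfsg.Agent.Mrg.Omega.IId.Pf.Main
section

/-!
# II.d, CASE 1, `q = 2`: the end

helper310.  Case B: `⟨C₁, C₂⟩ = F₄(2)` (helper370's `ident`), `s` normalises it: helper370's `false_two`.  Case A:
helper64's `caseA`.  So `NoOne K` for all `K`.
-/

set_option autoImplicit false

namespace Cfsg.Agent.Omega.IId.Pf.Main

open Cfsg.Agent.Omega.TV hiding z2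
open Subgroup Cfsg Cfsg.Agent.ZN Cfsg.Agent.Omega.IId.One
open Cfsg.Agent.Omega.MinPar
open Cfsg.Agent.Omega.IId.Pf.Sys Cfsg.Agent.Omega.IId.Pf.Card
open Cfsg.Agent.ParSys Cfsg.Agent.ParSys.FreeCount

universe u

variable {G : Type u} [Group G]

/-- **CASE B** -/
theorem caseB [Finite G] {T V₁ V₂ L₁ L₂ : Subgroup G} {v₁ v₂ s : G} (h : One.One T V₁ V₂ L₁ L₂ v₁ v₂ s)
    (hnl : NonLoc (cz v₁) (cz v₂)) (hI : ∃ x ∈ nc v₁ {v₂}, ∃ y ∈ nc v₂ {v₁}, x * y ≠ y * x) : False := by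
  have hb := h.toBase
  have hsys := sysL h hnl hI
  have hTG : T ≤ cz v₁ ⊔ cz v₂ := hb.T_le.trans le_sup_left
  have hcT : Nat.card (T.subgroupOf (cz v₁ ⊔ cz v₂)) = Nat.card T :=
    Nat.card_congr (subgroupOfEquivOfLe hTG).toEquiv
  have hge := card_T h hnl hI
  have hQ := hasQ_F4 (M := CoxeterMatrix.F₄) (q := fun _ => 2) (Equiv.refl _) rfl (x := 2) (y := 2)
    (fun i => by simp)
  have hle := FreeLieLoc.card_le hQ hsys
  rw [hcT] at hle
  have hcard : Nat.card T = 2 ^ 24 := by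
    have : (2 : ℕ) ^ 12 * 2 ^ 12 = 2 ^ 24 := by norm_num
    omega
  obtain ⟨e⟩ := FFour.Ident.ident (Equiv.refl _) rfl hsys (by rw [hcT]; exact hge) fun g hg hx => by
    apply Subtype.ext
    exact core h hnl hI hg fun x hxG => hx ⟨x, hxG⟩
  let f : FourTwo.Base.LL →* G := (cz v₁ ⊔ cz v₂ : Subgroup G).subtype.comp e.toMonoidHom
  have hf : Function.Injective f := (cz v₁ ⊔ cz v₂ : Subgroup G).subtype_injective.comp e.injective
  have hr : f.range = cz v₁ ⊔ cz v₂ := by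
    ext x
    constructor
    · rintro ⟨y, rfl⟩
      exact (e y).2
    · intro hx
      exact ⟨e.symm ⟨x, hx⟩, by show ((e (e.symm ⟨x, hx⟩) : (cz v₁ ⊔ cz v₂ : Subgroup G)) : G) = x; simp⟩
  refine FFour.false_two (s := s) (v₁ := v₁) (T := T) h.C2T f hf ?_ ?_ ?_ hcard h.sT h.Tv1 ?_ ?_
  · rw [hr]
    apply Cfsg.Agent.MinSimple.VModule.mem_normalizer_of_map_le
    rw [Subgroup.map_sup, cz_map h.sv1, cz_map h.sv2, sup_comm]
  · rw [hr]
    exact (le_sup_left : cz v₁ ≤ cz v₁ ⊔ cz v₂) (mem_cz.2 rfl)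
  · rw [hr]
    exact hTG
  · rw [h.sv1]
    exact hb.ne.symm
  · rw [hr]
    exact le_sup_left

/-- **no configuration `One` with `⟨C₁, C₂⟩` nonlocal** -/
theorem false_of [Finite G] {T V₁ V₂ L₁ L₂ : Subgroup G} {v₁ v₂ s : G} (h : One.One T V₁ V₂ L₁ L₂ v₁ v₂ s)
    (hnl : NonLoc (cz v₁) (cz v₂)) : False := by
  by_cases hI : ∃ x ∈ nc v₁ {v₂}, ∃ y ∈ nc v₂ {v₁}, x * y ≠ y * x
  · exact caseB h hnl hI
  · push Not at hI
    exact h.caseA hnl hI

/-- **`NoOne K` for all `K`.** -/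
theorem noOne {K : Cfsg.Agent.Omega.Frame.Cls.{u}} : NoOne K := by
  intro G _ _ S hH T V₁ V₂ L₁ L₂ v₁ v₂ s _ _ _ hO hN
  exact false_of hO hN

/-- **CASE 1, `q = 2`** -/
theorem wrMain2 {K : Cfsg.Agent.Omega.Frame.Cls.{u}} : WrMain2 K := IId.wrMain2 noOne

end Cfsg.Agent.Omega.IId.Pf.Main

end

-- merged: Cfsg.Agent.Mrg.Omega.IId.Strq
section

/-!
# II.d in the strongly quasithin case

`WrBig QK` and `SwBig QK` are void (helper243's rank bounds, `Omega/SQT/Rank.lean`); `WrTwo QK` is a theorem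
(HALF LEMMA: helper334, `Match.lean`); `SQT.Multi.Wr2` and `SQT.Multi.SymWr2` from the other sub-leaves for `QK`.
-/

set_option autoImplicit false

namespace Cfsg.Agent.Omega.IId.Strq

open Subgroup Cfsg Cfsg.Agent.ZN Cfsg.Agent.ZN.ChoiceBase
open Cfsg.Agent.Omega.MinPar Cfsg.Agent.Omega.Frame Cfsg.Agent.Omega.FFThm Cfsg.Agent.Omega.FrameMulti
open Cfsg.Agent.Omega.SQT.Main (QK)
open Cfsg.Agent.Omega.FrameFF (cv Free)

universe u

section

variable {G : Type u} [Group G] [Finite G] {S S' : Sylow 2 G} {P : Subgroup G}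

/-- At most two natural factors. -/
theorem nat_le (hH : Hyp QK S) (hP : IsParS (S' : Subgroup G) P) {F : Type} [Field F] [Finite F] [CharP F 2]
    {k : ℕ} (M : NatK F (S' : Subgroup G) P (zl (S' : Subgroup G) P) ⊥ k) : k ≤ 2 := by
  have hf : cv (S' : Subgroup G) P = ⊥ := free_of_nat M
  have M' : NatK F (S' : Subgroup G) P (zl (S' : Subgroup G) P) (cv (S' : Subgroup G) P) k := by
    rw [hf]
    exact M
  exact SQT.Rank.natK_le hH.ctx.char2 S' hP M' (SQT.Multi.three hH.cls)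

theorem isNat_le (hH : Hyp QK S) (hP : IsParS (S' : Subgroup G) P) {k : ℕ}
    (h : IsNat (S' : Subgroup G) P k) : k ≤ 2 :=
  SQT.Multi.isNat_le hH.ctx hH.cls hP h

theorem isSym_le (hH : Hyp QK S) (hP : IsParS (S' : Subgroup G) P) {k m : ℕ} (hk : 1 ≤ k) (hm : 2 ≤ m)
    (h : IsSym (S' : Subgroup G) P k m) : k ≤ 2 ∧ m = 2 :=
  SQT.Multi.isSym_le hH.ctx hH.cls hP hk hm h

end

/-- `WrBig` is void. -/
theorem wrBig : WrBig QK.{u} := by
  intro G _ _ S S' hH P P' hp F F' _ _ _ _ _ _ k k' M M' hk hk' hb hc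
  have h1 := nat_le hH hp.star M
  have h2 := nat_le hH hp.star' M'
  omega

/-- `WrTwo` for `QK`. -/
theorem wrTwo : WrTwo QK.{u} := by
  intro G _ _ S S' hH P P' hp F F' _ _ _ _ _ _ k k' M M' hk hk' hc
  obtain rfl : k = 2 := le_antisymm (nat_le hH hp.star M) hk
  exact wrTwo_of_le hH hp M M' hk' (nat_le hH hp.star' M') hc

/-- `SwBig` is void. -/
theorem swBig : SwBig QK.{u} := by
  intro G _ _ S S' hH P P' hp k m hk hm hN f1 f2 hb
  obtain ⟨h1, h2⟩ := isSym_le hH hp.star (by omega) hm hN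
  rcases hb with hb | hb | ⟨k', hb, hN'⟩ | ⟨k', m', hk', hm', hb, hS'⟩
  · omega
  · omega
  · have := isNat_le hH hp.star' hN'
    omega
  · obtain ⟨h3, h4⟩ := isSym_le hH hp.star' hk' hm' hS'
    omega

/-- The part of `WrSym` with more than two factors or degree at least 7 is void. -/
theorem wrSymBig : Sym.WrSymBig QK.{u} := by
  intro G _ _ S S' hH P P' hp F _ _ _ k m' M M' hk hm' hF hb
  have h1 := nat_le hH hp.star M
  have hf : cv (S' : Subgroup G) P' = ⊥ := free_of_sym M' (by omega)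
  have hS : IsSym (S' : Subgroup G) P' 1 m' := by
    rw [IsSym, hf]
    exact ⟨M'⟩
  have h2 := (isSym_le hH hp.star' le_rfl hm' hS).2
  omega

/-- **`Wr2` from the sub-leaves.** -/
theorem wr2 (h1 : WrCv QK.{u}) (h2 : WrSym QK.{u}) (h5 : WrTri QK.{u}) (h6 : WrMain2 QK.{u})
    (h7 : WrMain4 QK.{u}) : SQT.Multi.Wr2.{u} := by
  intro G _ _ hG hq S hF hA hT P₁ P₂ x hm hN
  exact leafWr h1 h2 wrTwo wrBig h5 h6 h7 G hG hq S hF hA hT P₁ P₂ x hm 2 le_rfl hN

/-- **`Wr2` from the open sub-leaves** (`NO3S.Two` and `LeafSymWr` are other leaves of the tree). -/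
theorem wr2_of (hTwo : Cfsg.Agent.Omega.NO3S.Two QK.{u}) (hSW : LeafSymWr QK.{u}) (h1 : WrCv QK.{u})
    (h2 : Sym.WrSymMain QK.{u}) (h6 : NoOne QK.{u}) (h7 : WrMain4 QK.{u}) : SQT.Multi.Wr2.{u} :=
  wr2 h1 (Sym.wrSym hSW wrSymBig hTwo h2) (wrTri hTwo) (wrMain2 h6) h7

/-- **`SymWr2` from the sub-leaves.** -/
theorem symWr2 (h1 : SwCv QK.{u}) (h3 : SwNat QK.{u}) (h4 : SwTwo QK.{u}) (h5 : SwOne QK.{u}) :
    SQT.Multi.SymWr2.{u} := by
  intro G _ _ hG hq S hF hA hT P₁ P₂ x hm hN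
  exact leafSymWr h1 swBig h3 h4 h5 G hG hq S hF hA hT P₁ P₂ x hm 2 2 le_rfl le_rfl hN

end Cfsg.Agent.Omega.IId.Strq

end

-- merged: Cfsg.Agent.Mrg.Omega.IId.NoOne
section

section


/-!
# II.d, CASE 1, `q = 2` : `NoOne QK` and `WrMain2 QK`

helper774.  Case A (`[N₁, N₂] = 1`): helper64 (`CaseA.lean`).  Case B (`[N₁, N₂] ≠ 1`): `N₁` is an orthogonal
module (helper304, helper110), `|N₁| = 32` by the 3-rank (helper110), and `Sp₄(2)` is killed by helper304's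
`SpPlug.false_of`.
-/

set_option autoImplicit false

namespace Cfsg.Agent.Omega.IId.NoOne

open Subgroup Cfsg Cfsg.Agent.ZN Cfsg.Agent.ZN.ChoiceBase
open Cfsg.Agent.Omega.MinPar Cfsg.Agent.Omega.IId.One
open Cfsg.Agent.Omega.SQT.Main (QK)

universe u

/-- no configuration `One` with `⟨C₁, C₂⟩` nonlocal and `m₃(G) ≤ 2`. -/
theorem false_of {G : Type u} [Group G] [Finite G] {T V₁ V₂ L₁ L₂ : Subgroup G} {v₁ v₂ s : G}
    (h : One.One T V₁ V₂ L₁ L₂ v₁ v₂ s) (hnl : NonLoc (cz v₁) (cz v₂)) (hr : PRankLE 3 2 G) : False := by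
  by_cases hI : ∃ x ∈ nc v₁ {v₂}, ∃ y ∈ nc v₂ {v₁}, x * y ≠ y * x
  · refine SpPlug.false_of h ?_ (h.orth hI) (h.card_N1 hI hr)
    intro hle
    obtain ⟨x, hx, y, hy, hne⟩ := hI
    exact hne (mem_centralizer_iff.1 (hle hx) y hy).symm
  · push Not at hI
    exact h.caseA hnl hI

/-- **`NoOne` for `QK`.** -/
theorem noOne : NoOne QK.{u} := by
  intro G _ _ S hH T V₁ V₂ L₁ L₂ v₁ v₂ s _ _ _ hO hN
  exact false_of hO hN (SQT.Multi.three hH.cls)

/-- **CASE 1, `q = 2`, for `QK`.** -/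
theorem wrMain2 : WrMain2 QK.{u} := IId.wrMain2 noOne

end Cfsg.Agent.Omega.IId.NoOne

end

section


/-!
# II.d: `WrSymMain K` from the final theorem of CASE 1, `q = 2`

* `exists_sit` : the normal form;
* `wrSymMain` : `NoOne K` implies `WrSymMain K`;
* `wrSymMainQK`, `wrSymQK` : the case `QK`.
-/

set_option autoImplicit false
set_option linter.unusedSectionVars false

namespace Cfsg.Agent.Omega.IId.Sym

open Subgroup Cfsg Cfsg.Agent.ZN.ChoiceBase
open Cfsg.Agent.ZN (o2 zc zl)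
open Cfsg.Agent.Omega.MinPar Cfsg.Agent.Omega.FFThm Cfsg.Agent.Omega.Frame
open Cfsg.Agent.Omega.FrameMulti (IsSym IsNat LeafSymWr)
open Cfsg.Agent.Omega.S5.Mod Cfsg.Agent.Omega.S5.TT Cfsg.Agent.Omega.S5.Types
open Cfsg.Agent.Omega.IId.Two
open scoped commutatorElement

universe u

theorem adapt_congr {G : Type u} [Group G] {V L S S₁ : Subgroup G} {N : FiveMod V L} (h : Adapt S N)
    (e : S = S₁) : Adapt S₁ N := e ▸ h

/-- The normal form of CASE 1. -/
theorem exists_sit {G : Type u} [Group G] [Finite G] (hc : IsCharacteristicTwoType G) {S S' : Sylow 2 G}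
    {P P' : Subgroup G} (hp : Pair S S' P P') {F : Type} [Field F] [Finite F] [CharP F 2]
    (M : NatK F (S : Subgroup G) P (zl (S : Subgroup G) P) ⊥ 2)
    (N : FiveMod (zl (S' : Subgroup G) P') P') {i j : Fin 2} (hij : i ≠ j) (hF : Nat.card F = 2)
    (hN : Adapt (S' : Subgroup G) N) (hI : Ind M (zl (S' : Subgroup G) P') {i}) (hn : N.e nn ∈ line M i)
    (hsyl : ¬ 2 ∣ (stab M i).relIndex (centralizer ({N.e nn} : Set G))) {s : G}
    (hs : s ∈ (S : Subgroup G)) (hs1 : s ∉ stab M i) :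
    ∃ g : G, Sit S (stab M i) (fac M i) (fac M j) (grp M {i}) (grp M {j}) (N.e nn) s (N.cj g) := by
  have hn1 := n_ne_one N
  have hpre := pre_of hc hp.star M hF hij hn hn1 hs hs1
  obtain ⟨g, hg1, hg2, hg3⟩ := exists_nf hpre hN rfl hsyl
  have hVP : zl (S' : Subgroup G) P' ≤ P := hp.le.trans hp.star.isLoc.le
  refine ⟨g, ?_⟩
  have hgn : g * N.e nn * g⁻¹ = N.e nn := by rw [hg1, mul_inv_cancel_right]
  refine ⟨base_of hc hp.star M hF hij hn hn1 hs hs1 hsyl, hpre.toTwo, hs, hs1, adapt_congr (hN.cj g) hg2,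
    ?_, ?_, ?_⟩
  · rw [FiveMod.cj_e, hgn]
  · rw [FiveMod.cj_e, hg3]
  · obtain ⟨w, hw, a, ha, -, h3⟩ := exists_move hI hVP (Set.mem_singleton i)
    refine ⟨g⁻¹, ?_, w, hw, g * a * g⁻¹, ⟨a, ha, rfl⟩, ?_⟩
    · rw [One.mem_cz]
      calc g⁻¹ * N.e nn = g⁻¹ * (N.e nn * g) * g⁻¹ := by group
        _ = N.e nn * g⁻¹ := by rw [← hg1]; group
    · have e : g⁻¹ * (g * a * g⁻¹) * g⁻¹⁻¹ = a := by group
      rw [e]
      intro h4
      apply h3
      rw [commutatorElement_eq_one_iff_mul_comm]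
      exact h4

/-- **`WrSymMain K` from `NoOne K`.** -/
theorem wrSymMain {K : Cls.{u}} (hNo : IId.NoOne K) : WrSymMain K := by
  intro G _ _ S S' hH P P' hp F _ _ _ M N i hF hN hI hn _ _ hsyl
  have hc := hH.ctx.char2
  obtain ⟨j, hij⟩ : ∃ j, i ≠ j := ⟨1 - i, by clear * -; revert i; decide⟩
  have hT := two_of hc hp.star M hij
  obtain ⟨s, hs, hs1⟩ := Two.exists_not_mem hT.SoS hT.card
  obtain ⟨g, h⟩ := exists_sit hc hp M N hij hF hN hI hn hsyl hs hs1
  exact hNo G S hH _ _ _ _ _ _ _ s hT.SoS hs hT.card h.one h.nonLoc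

/-- **`WrSym K`** from `LeafSymWr K`, `WrSymBig K`, `NO3S.Two K` and `NoOne K`. -/
theorem wrSym_of {K : Cls.{u}} (hSW : LeafSymWr K) (hBig : WrSymBig K) (hTwo : Cfsg.Agent.Omega.NO3S.Two K)
    (hNo : IId.NoOne K) : WrSym K := wrSym hSW hBig hTwo (wrSymMain hNo)

/-- `WrSym K` without `NO3S.Two K` (there is no triangle). -/
theorem wrSym_of' {K : Cls.{u}} (hSW : LeafSymWr K) (hBig : WrSymBig K) (hNo : IId.NoOne K) : WrSym K :=
  wrSym_free hSW hBig (wrSymMain hNo)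

open Cfsg.Agent.Omega.SQT.Main (QK)

/-- **`WrSymMain` for `QK`.** -/
theorem wrSymMainQK : WrSymMain QK.{u} := wrSymMain NoOne.noOne

/-- **`WrSym` for `QK`** from `LeafSymWr QK` and `NO3S.Two QK`. -/
theorem wrSymQK (hSW : LeafSymWr QK.{u}) (hTwo : Cfsg.Agent.Omega.NO3S.Two QK.{u}) : WrSym QK.{u} :=
  wrSym_of hSW Strq.wrSymBig hTwo NoOne.noOne

/-- `WrSym` for the quasithin half, from `LeafSymWr QK` only. -/
theorem wrSymQK' (hSW : LeafSymWr QK.{u}) : WrSym QK.{u} := wrSym_of' hSW Strq.wrSymBig NoOne.noOne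

end Cfsg.Agent.Omega.IId.Sym

end

section


/-!
# II.d: `WrSymBig K`, the part `k = 2`, `m' ≥ 3`

Two natural factors, `q = 2`, against one factor `S_{2^m'+1}`, `m' ≥ 3`.

* `exists_fac_swap` : a factor of `V` induces the transposition `(i j)` and its line is `{1, r_ij}`;
* `MSit` : CASE 1 against one even-subset module with the facts (F1), (F2), (H1) (`NSix/AllFacts.lean`);
* `MSit.one`, `MSit.nonLoc` : `One` and nonlocality (helper814's trick `S5.NatBig.kill`);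
* `WrSymMany K` : the part with `k ≥ 3` factors;
* `wrSymBig_of'` : `NoOne K` and `WrSymMany K` imply `WrSymBig K` (`wrSymBig_of` : the old interface, with an
  unused `NO3S.Two K`).
-/

set_option autoImplicit false
set_option linter.unusedSectionVars false

namespace Cfsg.Agent.Omega.IId.Sym

open Subgroup Cfsg Cfsg.Agent.ZN.ChoiceBase
open Cfsg.Agent.ZN (o2 zc zl)
open Cfsg.Agent.Omega.MinPar Cfsg.Agent.Omega.FFThm Cfsg.Agent.Omega.Frame
open Cfsg.Agent.Omega.FrameFF (cv Free)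
open Cfsg.Agent.Omega.FrameMulti (IsSym IsNat Typed AllTyped)
open Cfsg.Agent.Omega.S5.Def
open Cfsg.Agent.Omega.S5.NatBig (Facts kill acts_pair)
open Cfsg.Agent.Omega.NSix.Base (zz rr)
open Cfsg.Agent.Omega.NSix.Basic (zz_mem zz_comm zz_sq zz_inv rr_mem zz_conj rr_sq rr_ne_one)
open Cfsg.Agent.MinSimple.VModule (le_normalizer_zl zc_le)
open Cfsg.Agent.Omega.IId.Two
open scoped commutatorElement

universe u

variable {G : Type u} [Group G]

/-! ### The supply -/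

section supply

variable {m : ℕ} {V L : Subgroup G} {ε : (Fin m → ZMod 2) → G}

/-- An element of `O₂(C_G(r_ij))` maps `z_i` to `z_i` or `z_j`. -/
theorem facts_conj (F : Facts ε L) (h : EvenSet m V L ε) (hm : 3 ≤ m) {i j : Fin m} (hij : i ≠ j) {x : G}
    (hx : x ∈ o2 (centralizer ({rr ε i j} : Set G))) :
    x * zz ε i * x⁻¹ = zz ε i ∨ x * zz ε i * x⁻¹ = zz ε j :=
  acts_pair h hm (F.le i j hij hx) fun k h1 h2 => F.pair i j hij k h1 h2 x hx

/-- `[O₂(C_G(r_ij)), V] ≤ ⟨r_ij⟩`. -/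
theorem facts_comm (F : Facts ε L) (h : EvenSet m V L ε) (hm : 3 ≤ m) {i j : Fin m} (hij : i ≠ j) {x v : G}
    (hx : x ∈ o2 (centralizer ({rr ε i j} : Set G))) (hv : v ∈ V) :
    v * x * v⁻¹ * x⁻¹ = 1 ∨ v * x * v⁻¹ * x⁻¹ = rr ε i j := by
  obtain ⟨u, rfl⟩ := h.surj v hv
  -- `x` acts as `1` or as `(i j)`
  obtain ⟨σ, hσ⟩ := h.perm x (F.le i j hij hx)
  have h1 : ∀ k, k ≠ i → k ≠ j → σ k = k := fun k h1 h2 =>
    (h.fixes_iff hm hσ k).1 (F.pair i j hij k h1 h2 x hx)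
  have h2 : σ = 1 ∨ σ = Equiv.swap i j := by
    by_cases h3 : σ i = i
    · left
      ext k
      by_cases hki : k = i
      · rw [hki, h3]; rfl
      by_cases hkj : k = j
      · rw [hkj]
        have h4 : σ j = j := by
          by_contra h5
          by_cases h6 : σ j = i
          · exact hij (σ.injective (h3.trans h6.symm))
          · exact h5 (σ.injective (h1 _ h6 h5))
        rw [h4]; rfl
      · rw [h1 k hki hkj]; rfl
    · right
      have h4 : σ i = j := by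
        by_contra h5
        exact h3 (σ.injective (h1 _ h3 h5))
      have h5 : σ j = i := by
        by_contra h6
        by_cases h7 : σ j = j
        · exact hij (σ.injective (h4.trans h7.symm))
        · exact h7 (σ.injective (h1 _ h6 h7))
      ext k
      by_cases hki : k = i
      · rw [hki, h4, Equiv.swap_apply_left]
      by_cases hkj : k = j
      · rw [hkj, h5, Equiv.swap_apply_right]
      · rw [h1 k hki hkj, Equiv.swap_apply_of_ne_of_ne hki hkj]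
  have e : ε u * x * (ε u)⁻¹ * x⁻¹ = ε u * (x * ε u * x⁻¹)⁻¹ := by group
  rcases h2 with rfl | rfl
  · left
    have h3 : x * ε u * x⁻¹ = ε u := hσ u
    rw [e, h3, mul_inv_cancel]
  · by_cases hu : u i = u j
    · left
      have h3 := (S5.Pair.acts_swap h hσ u).1 hu
      rw [e, h3, mul_inv_cancel_right, mul_inv_cancel]
    · right
      have h3 := (S5.Pair.acts_swap h hσ u).2 hu
      rw [e, h3, mul_inv_rev, h.inv, h.inv, h.comm _ u, ← mul_assoc, h.sq, one_mul, h.add]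
      rfl

/-- `V ≤ Kk n`, `n = r_ij`. -/
theorem facts_le_Kk (F : Facts ε L) (h : EvenSet m V L ε) (hm : 3 ≤ m) {i j : Fin m} (hij : i ≠ j) :
    V ≤ One.Kk (rr ε i j) := by
  intro v hv
  refine ⟨One.mem_cz.2 (h.comm_mem hv (rr_mem h i j)), fun x hx => ?_⟩
  exact (Triangle.mem_zpowers_iff_of_sq (rr_sq h i j)).2 (facts_comm F h hm hij hx hv)

/-- `V ≤ KK n`, `n = r_ij`. -/
theorem facts_le_KK (F : Facts ε L) (h : EvenSet m V L ε) (hm : 3 ≤ m) {i j : Fin m} (hij : i ≠ j) :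
    V ≤ Triangle.KK (rr ε i j) := by
  intro v hv
  refine ⟨h.comm_mem hv (rr_mem h i j), fun x hx => ?_⟩
  exact (Triangle.mem_zpowers_iff_of_sq (rr_sq h i j)).2 (facts_comm F h hm hij hx hv)

/-- An element acting as `(i j)` does not commute with `z_i`. -/
theorem lswap_ne (h : EvenSet m V L ε) (hm : 3 ≤ m) {i j : Fin m} (hij : i ≠ j) {b : G}
    (hb : Acts ε b (Equiv.swap i j)) : zz ε i * b ≠ b * zz ε i := by
  intro e
  have h1 := hb.single i
  rw [Equiv.swap_apply_left] at h1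
  change b * zz ε i * b⁻¹ = zz ε j at h1
  rw [← e, mul_inv_cancel_right] at h1
  exact hij (h.single_inj hm h1)

end supply

/-! ### CASE 1 -/

/-- CASE 1 against one even-subset module of degree `m ≥ 5`. -/
structure MSit [Finite G] (S : Sylow 2 G) (T V₁ V₂ L₁ L₂ : Subgroup G) (n s : G) {m : ℕ} {V L : Subgroup G}
    (ε : (Fin m → ZMod 2) → G) (i j : Fin m) : Prop where
  base : One.Base T V₁ V₂ L₁ L₂ n (s * n * s⁻¹) s
  two : IId.Two (S : Subgroup G) T V₁ V₂ L₁ L₂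
  sS : s ∈ (S : Subgroup G)
  sT : s ∉ T
  ev : EvenSet m V L ε
  m5 : 5 ≤ m
  F : Facts ε L
  ij : i ≠ j
  nn : rr ε i j = n
  b : ∃ b ∈ V₁, Acts ε b (Equiv.swap i j)

namespace MSit

variable [Finite G] {S : Sylow 2 G} {T V₁ V₂ L₁ L₂ : Subgroup G} {n s : G} {m : ℕ} {V L : Subgroup G}
  {ε : (Fin m → ZMod 2) → G} {i j : Fin m} (h : MSit S T V₁ V₂ L₁ L₂ n s (V := V) (L := L) ε i j)

include h

theorem m3 : 3 ≤ m := le_trans (by norm_num) h.m5

theorem s'' {v : G} (hv : v ∈ V₁) : s⁻¹ * v * s ∈ V₂ := by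
  have h1 := h.two.sw1 s⁻¹ (inv_mem h.sS) (fun h1 => h.sT (inv_mem_iff.1 h1)) v hv
  rwa [inv_inv] at h1

theorem le_Kk : V ≤ One.Kk n := by
  have := facts_le_Kk h.F h.ev h.m3 h.ij
  rwa [h.nn] at this

/-- An element of `Kk n` which does not commute with `V₁`. -/
theorem exists_b : ∃ b ∈ One.Kk n, ∃ a ∈ V₁, b * a ≠ a * b := by
  obtain ⟨b, hb, hbs⟩ := h.b
  exact ⟨zz ε i, h.le_Kk (zz_mem h.ev i), b, hb, lswap_ne h.ev h.m3 h.ij hbs⟩

/-- No local subgroup `M = N_G(U) ≥ C_G(n), L₁` -/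
theorem no_local {U : Subgroup G} (hU : IsPGroup 2 U) (hU1 : U ≠ ⊥)
    (h1 : One.cz n ≤ normalizer (U : Set G)) (h2 : L₁ ≤ normalizer (U : Set G)) : False := by
  have hb := h.base
  have hz := hb.vi_mem_zc (fun U hU _ => One.card_le_two h.two U hU) hU hU1 (hb.T_le.trans h1)
    (hb.L2_le.trans h1)
  have hn : normalizer (U : Set G) ≤ normalizer (ZN.zc (ZN.o2 (normalizer (U : Set G))) : Set G) :=
    (MinSimple.VModule.le_normalizer_o2 _).trans (MinSimple.VModule.normalizer_le_normalizer_zc _)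
  have hV1 : V₁ ≤ ZN.zc (ZN.o2 (normalizer (U : Set G))) := hb.V1_le_of (h2.trans hn) hz.1
  obtain ⟨b, hb1, hbs⟩ := h.b
  have hbz := MinSimple.VModule.mem_zc.1 (hV1 hb1)
  have hnz := MinSimple.VModule.mem_zc.1 hz.1
  refine kill h.base.C2T h.ev h.m5 h.F h.ij (M := normalizer (U : Set G))
    (MinSimple.Basic.char2_normalizer h.base.C2T hU hU1) ?_ ?_ hbs hbz.1 hbz.2.1
  · rw [h.nn]; exact h1
  · rw [h.nn]; exact hnz.2.1

theorem n1 : ¬ One.cz n ≤ normalizer (V₂ : Set G) := by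
  intro hn
  have hb := h.base
  refine h.no_local (U := V₂) (hb.pT.to_le hb.V2T) hb.symm.V1_ne_bot hn ?_
  apply le_normalizer_of
  intro l hl v hv
  rw [hb.L12 l hl v hv, mul_inv_cancel_right]
  exact hv

theorem n2 : ¬ One.cz (s * n * s⁻¹) ≤ normalizer (V₁ : Set G) := by
  intro hn
  apply h.n1
  apply le_normalizer_of
  intro c hc v hv
  have h1 := One.conj_cz h.base.sv1 hc
  have h2 := (mem_normalizer_iff.1 (hn h1) _).1 (h.base.s2 v hv)
  have h3 := h.s'' h2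
  have e : s⁻¹ * (s * c * s⁻¹ * (s * v * s⁻¹) * (s * c * s⁻¹)⁻¹) * s = c * v * c⁻¹ := by group
  rwa [e] at h3

/-- **`One`.** -/
theorem one : One.One T V₁ V₂ L₁ L₂ n (s * n * s⁻¹) s := by
  refine ⟨h.base, ?_, ?_, h.n1, h.n2⟩
  · obtain ⟨b, hb, a, ha, hne⟩ := h.exists_b
    exact ⟨b, hb, a, ha, hne⟩
  · obtain ⟨b, hb, a, ha, hne⟩ := h.exists_b
    refine ⟨s * b * s⁻¹, One.conj_Kk h.base.sv1 hb, s * a * s⁻¹, h.base.s1 a ha, fun e => hne ?_⟩
    have e1 : s * b * s⁻¹ * (s * a * s⁻¹) = s * (b * a) * s⁻¹ := by group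
    have e2 : s * a * s⁻¹ * (s * b * s⁻¹) = s * (a * b) * s⁻¹ := by group
    rw [e1, e2] at e
    exact mul_left_cancel (mul_right_cancel e)

/-- **`⟨C₁, C₂⟩` is nonlocal.** -/
theorem nonLoc : NonLoc (One.cz n) (One.cz (s * n * s⁻¹)) := by
  intro U hU h1 h2
  by_contra hU1
  exact h.no_local hU hU1 h1 (h.base.L1_le.trans h2)

end MSit

/-! ### The transposition in a factor -/

/-- **A factor of `V` induces the transposition `(i j)`, and its line is `{1, r_ij}`.** -/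
theorem exists_fac_swap [Finite G] (hc : IsCharacteristicTwoType G) {S : Sylow 2 G} {P V' L : Subgroup G}
    {F : Type} [Field F] (M : NatK F (S : Subgroup G) P (zl (S : Subgroup G) P) ⊥ 2)
    (hP : IsLoc (S : Subgroup G) P) {I : Set (Fin 2)} (hI : Ind M V' I) (hVP : V' ≤ P) {m : ℕ}
    {ε : (Fin m → ZMod 2) → G} (h : EvenSet m V' L ε) (hm : 3 ≤ m) (Fa : Facts ε L) {i j : Fin m}
    (hij : i ≠ j) {b : G} (hb : b ∈ zl (S : Subgroup G) P) (hbs : Acts ε b (Equiv.swap i j)) :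
    ∃ i₀ : Fin 2, rr ε i j ∈ line M i₀ ∧ ∃ a ∈ fac M i₀, Acts ε a (Equiv.swap i j) := by
  -- the coordinate
  have hne : b * zz ε i ≠ zz ε i * b := Ne.symm (lswap_ne h hm hij hbs)
  obtain ⟨i₀, hi₀, h1⟩ := exists_coord hI hVP hb (zz_mem h i) hne
  obtain ⟨w, hw, h2, h3, h4⟩ := exists_root hI hVP hb hi₀ 1
  have h5 : ⁅b, w⁆ = rr ε i j := by
    obtain ⟨u, rfl⟩ := h.surj w hw
    have h6 : ⁅b, ε u⁆ ≠ 1 := root_ne one_ne_zero h1 h3
    by_cases hu : u i = u j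
    · exfalso
      apply h6
      rw [commutatorElement_eq_one_iff_mul_comm]
      exact (S5.Pair.acts_swap h hbs u).1 hu
    · rw [commutatorElement_def, (S5.Pair.acts_swap h hbs u).2 hu, h.comm, mul_inv_cancel_right, h.add]
      rfl
  have hn : rr ε i j ∈ line M i₀ := by
    rw [← h5, mem_line]
    exact ⟨h2, h4⟩
  refine ⟨i₀, hn, ?_⟩
  obtain ⟨j₀, hij₀⟩ : ∃ j, i₀ ≠ j := ⟨1 - i₀, by clear * -; revert i₀; decide⟩
  obtain ⟨a, ha, h6, h7⟩ := exists_component M hb i₀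
  rw [compl_eq hij₀] at h7
  -- the other factor centralises `V'`
  have hnV := line_le M i₀ hn
  have key : ∀ c ∈ fac M j₀, ∀ v ∈ V', v * c * v⁻¹ * c⁻¹ = 1 := by
    intro c hc' v hv
    have h8 := (Half.NatA.app_two' hc S M hP hij₀ hnV.1 (fun x hx => hnV.2 x hx) (rr_ne_one h hm hij) hc'.1
      (fun x hx => hc'.2 x hx)).1
    refine (facts_comm Fa h hm hij h8 hv).resolve_right fun h9 => ?_
    obtain ⟨d, -, h10⟩ := hI.act v hv
    have h11 := e_comm hc'.1 (hVP hv) h10 i₀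
    have h12 : ⁅c, v⁆ = (rr ε i j)⁻¹ := by
      rw [← h9, commutatorElement_def]; group
    rw [h12, NSix.Basic.rr_inv h] at h11
    have h13 : M.e c i₀ = 0 := hc'.2 i₀ hij₀
    have h14 : M.e (rr ε i j) i₀ = 0 := by
      apply NatPair.ext2
      · rw [h11.2.1, h13]; simp
      · rw [h11.2.2]; rfl
    apply rr_ne_one h hm hij
    refine (e_eq_zero M hnV.1).1 (funext fun x => ?_)
    by_cases hx : x = i₀
    · rw [hx, h14]; rfl
    · exact hnV.2 x hx
  refine ⟨a, ha, fun x => ?_⟩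
  have h8 := key (a⁻¹ * b) h7 (ε x) (h.mem x)
  have h9 : ε x * (a⁻¹ * b) = (a⁻¹ * b) * ε x := by
    rw [mul_inv_eq_one, mul_inv_eq_iff_eq_mul] at h8
    exact h8
  rw [← hbs x]
  calc a * ε x * a⁻¹ = a * (ε x * (a⁻¹ * b)) * b⁻¹ := by group
    _ = b * ε x * b⁻¹ := by rw [h9]; group

/-! ### `WrSymBig` -/

/-- The part of `WrSymBig` with more than two factors. -/
def WrSymMany (K : Cls.{u}) : Prop :=
  ∀ (G : Type u) [Group G] [Finite G] (S S' : Sylow 2 G), Hyp K S → ∀ (P P' : Subgroup G), Pair S S' P P' →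
    ∀ (F : Type) [Field F] [Finite F] [CharP F 2] (k m' : ℕ)
      (_ : NatK F (S : Subgroup G) P (zl (S : Subgroup G) P) ⊥ k)
      (_ : SymK (S' : Subgroup G) P' (zl (S' : Subgroup G) P') ⊥ 1 m'), 2 < k → 2 ≤ m' → Nat.card F = 2 →
      IsKnownSimple' G

/-- **`WrSymBig K`** from `NoOne K` and `WrSymMany K`. -/
theorem wrSymBig_of' {K : Cls.{u}} (hNo : IId.NoOne K) (hMany : WrSymMany K) : WrSymBig K := by
  intro G _ _ S S' hH P P' hp F _ _ _ k m' M M' hk hm' hF hb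
  by_cases hk2 : 2 < k
  · exact hMany G S S' hH P P' hp F k m' M M' hk2 hm' hF
  obtain rfl : k = 2 := by omega
  have hm3 : 3 ≤ m' := by omega
  have hc := hH.ctx.char2
  obtain ⟨t1, t2⟩ := typed_of hH.typed hp
  have f2 : Free (S' : Subgroup G) P' := free_of_sym M' (by omega)
  have hS' : IsSym (S' : Subgroup G) P' 1 m' := by
    refine ⟨?_⟩
    rw [show cv (S' : Subgroup G) P' = ⊥ from f2]
    exact M'
  have o1 := hp.off hc t2.noOver
  have o2 := hp.symm.off hc t1.noOver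
  obtain ⟨ε, hε, h0, hs⟩ := S5.Pair.exists_lab (S' : Subgroup G) hm' hp.star'.isLoc.le hS' f2
  have hn5 : 5 ≤ 2 ^ m' + 1 := S5.Syl.five_le hm'
  have hn3 : 3 ≤ 2 ^ m' + 1 := (by norm_num : 3 ≤ 5).trans hn5
  have Fa : Facts ε P' := NSix.AllFacts.allFacts G hc S' P' m' ε hm3 hp.star' hε h0
  obtain ⟨b, hb, i, j, hij, hbs⟩ := S5.Nat.exists_swap hε (hs _ hp.le' o2) o2.ne
  obtain ⟨I, hI⟩ := exists_ind M hp.le o1
  have hVP : zl (S' : Subgroup G) P' ≤ P := hp.le.trans hp.star.isLoc.le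
  obtain ⟨i₀, hn, a, ha, has⟩ := exists_fac_swap hc M hp.star.isLoc hI hVP hε hn3 Fa hij hb hbs
  obtain ⟨j₀, hij₀⟩ : ∃ j, i₀ ≠ j := ⟨1 - i₀, by clear * -; revert i₀; decide⟩
  have hn1 : rr ε i j ≠ 1 := rr_ne_one hε hn3 hij
  by_cases h2 : 2 ∣ (stab M i₀).relIndex (centralizer ({rr ε i j} : Set G))
  · obtain ⟨T, s, hT⟩ := exists_tri hc hp.star M hF hij₀ hn hn1 h2
    exact (TriFalse.false_of hT hc).elim
  · exfalso
    have hT := two_of hc hp.star M hij₀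
    obtain ⟨s, hs1, hs2⟩ := Two.exists_not_mem hT.SoS hT.card
    have h : MSit S (stab M i₀) (fac M i₀) (fac M j₀) (grp M {i₀}) (grp M {j₀}) (rr ε i j) s
        (V := zl (S' : Subgroup G) P') (L := P') ε i j :=
      ⟨base_of hc hp.star M hF hij₀ hn hn1 hs1 hs2 h2, hT, hs1, hs2, hε, hn5, Fa, hij, rfl, a, ha, has⟩
    exact hNo G S hH _ _ _ _ _ _ _ s hT.SoS hs1 hT.card h.one h.nonLoc

/-- The old interface of `wrSymBig_of'`, with the unused `NO3S.Two K`. -/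
theorem wrSymBig_of {K : Cls.{u}} (_hTwo : Cfsg.Agent.Omega.NO3S.Two K) (hNo : IId.NoOne K)
    (hMany : WrSymMany K) : WrSymBig K := wrSymBig_of' hNo hMany

end Cfsg.Agent.Omega.IId.Sym

end

end

-- merged: Cfsg.Agent.Mrg.Omega.IId.LFour.SwOne
section

section


/-!
# `SwOne K` (project OMEGA, II.d L4; helper644 #19215, helper242 #19319)

`(P, P')` a pair, `P` of type `S₅ wr 2`, `P'` of type `S₅` or `S₅ wr 2`.

* `SylN` : `T = C_S(n)` is a Sylow 2-subgroup of `C_G(n)`;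
* `JTF` : `[V₁, V₁ ^ k] = 1` for `k ∈ C_G(n)` (h1 over `T`);
* `false_one` : `k' = 1` is impossible;
* `swOne_of : SylN → JTF → SwOne K`.
-/

set_option autoImplicit false
set_option linter.unusedSectionVars false

namespace Cfsg.Agent.Omega.IId.LFour

open Subgroup Pointwise Cfsg Cfsg.Agent.Omega.MinPar Cfsg.Agent.Omega.FFThm
open Cfsg.Agent.ZN (o2 zc zl)
open Cfsg.Agent.ZN.ChoiceBase (mem_cj cj_cj cj_inv_cj cj_cj_inv)
open Cfsg.Agent.Omega.S5.Mod Cfsg.Agent.Omega.S5.TT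
open Cfsg.Agent.Omega.S5.TT.Pos (na ns as sn n_ne s_ne a_ne n_ne_a n_ne_s a_ne_s e_sq' mem_C)
open Cfsg.Agent.Omega.Half (Amb amb_of_loc)
open Cfsg.Agent.MinSimple.VModule (mem_zc zc_le zc_comm zc_sq zc_le_zl le_normalizer_o2 o2_isPGroup o2_le
  normalizer_le_normalizer_zc le_normalizer_zl)
open Cfsg.Agent.Omega.TwoFFour (Syl2)
open Cfsg.Agent.Omega.Frame
open scoped commutatorElement

universe u

/-- `T` is a Sylow 2-subgroup of `C_G(n)`. -/
def SylN : Prop :=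
  ∀ (G : Type u) [Group G] [Finite G] (S : Sylow 2 G) (P V₁ V₂ L₁ L₂ : Subgroup G) (M₁ : FiveMod V₁ L₁)
    (M₂ : FiveMod V₂ L₂), Wr S P M₁ M₂ →
      ¬ 2 ∣ ((S : Subgroup G) ⊓ centralizer ({M₁.e nn} : Set G)).relIndex (centralizer ({M₁.e nn} : Set G))

/-- `[V₁, V₁ ^ k] = 1` for `k ∈ C_G(n)`. -/
def JTF : Prop :=
  ∀ (G : Type u) [Group G] [Finite G] (S : Sylow 2 G) (P V₁ V₂ L₁ L₂ : Subgroup G) (M₁ : FiveMod V₁ L₁)
    (M₂ : FiveMod V₂ L₂), Wr S P M₁ M₂ → ∀ k v u : G, k * M₁.e nn = M₁.e nn * k → v ∈ V₁ → u ∈ V₁ →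
      k * v * k⁻¹ * u = u * (k * v * k⁻¹)

variable {G : Type u} [Group G]

section one

variable [Finite G] {S S' : Sylow 2 G} {P P' V₁ V₂ L₁ L₂ : Subgroup G} {M₁ : FiveMod V₁ L₁}
  {M₂ : FiveMod V₂ L₂}

theorem tt_two : ∀ p : Equiv.Perm (Fin 5), p * dd = dd * p →
    (nn ∘ p.symm = nn ∨ nn ∘ p.symm = nn + 1) ∨ (nn ∘ p.symm = aa ∨ nn ∘ p.symm = aa + 1) := by
  decide +kernel

/-- a 2-subgroup which induces a subgroup of `D₈` on `V`: half of it centralises `n` -/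
theorem card_le_two_mul_cent {V L R : Subgroup G} (N : FiveMod V L)
    (hd : ∀ g ∈ R, ∃ p, N.Ind g p ∧ p * dd = dd * p) :
    Nat.card R ≤ 2 * Nat.card (centralizer ({N.e nn} : Set G) ⊓ R : Subgroup G) := by
  have h1 : (centralizer ({N.e nn} : Set G)).relIndex R ≤ 2 := by
    rw [NO1.Nat.SevenA.orb]
    refine (Set.ncard_le_ncard (t := {N.e nn, N.e aa}) ?_ (Set.toFinite _)).trans ?_
    · rintro _ ⟨g, hg, rfl⟩
      obtain ⟨p, hi, hp⟩ := hd g hg
      rw [hi]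
      rcases tt_two p hp with h | h
      · left; exact N.e_eq_iff.2 h
      · right; exact N.e_eq_iff.2 h
    · refine (Set.ncard_insert_le _ _).trans ?_
      rw [Set.ncard_singleton]
  have c1 := Half.card_mul_relIndex (inf_le_right : centralizer ({N.e nn} : Set G) ⊓ R ≤ R)
  rw [inf_relIndex_right] at c1
  rw [← c1, mul_comm]
  exact Nat.mul_le_mul_right _ h1

/-- **`k' = 1` is impossible.** -/
theorem false_one (w : Wr S P M₁ M₂)
    (hsyl : ¬ 2 ∣ ((S : Subgroup G) ⊓ centralizer ({M₁.e nn} : Set G)).relIndex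
      (centralizer ({M₁.e nn} : Set G))) {g n : G} (hn : n = g * M₁.e nn * g⁻¹)
    (hP' : IsParS (S' : Subgroup G) P')
    (M' : SymK (S' : Subgroup G) P' (zl (S' : Subgroup G) P') ⊥ 1 2) {p q : Half.SymA.Pt 1 2}
    (hd : Duad M' n p q) : False := by
  have hA' := amb_of_loc w.hG S' hP'.isLoc
  obtain ⟨-, ρ, hρ⟩ := exists_relabel_eq M' hA' hd
  set i := p.1 with hi
  have hcof : SymF.cof M' i = ⊥ := by
    rw [eq_bot_iff]
    intro v hv
    rw [mem_bot]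
    refine SymF.eq_one M' hv.1 (funext fun j => ?_)
    rw [Subsingleton.elim j i]
    exact hv.2
  have hL : SymF.grp M' i = P' := by
    rw [SymF.grp, hcof]
    refine inf_eq_left.2 fun x _ => mem_centralizer_iff.2 fun y hy => ?_
    rw [mem_bot.1 hy]; group
  have hSL : (S' : Subgroup G) ≤ SymF.grp M' i := by rw [hL]; exact hP'.isLoc.le
  obtain ⟨σ, hσ, -⟩ := exists_relabel (md M' hA' i) S'.isPGroup' hSL
    (MinSimple.Basic.not_dvd_relIndex S' hSL)
  set N := (md M' hA' i).relabel σ with hN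
  obtain ⟨l, hl, hil⟩ := N.exists_lift (σ⁻¹ * ρ)
  have hnl : n = l * N.e nn * l⁻¹ := by
    have hil' : N.Ind l (σ⁻¹ * ρ) := hil
    rw [hil' nn, hN, FiveMod.relabel_e, hρ]
    congr 1
    funext x
    change nn (ρ⁻¹ x) = nn ((σ⁻¹ * ρ)⁻¹ (σ⁻¹ x))
    rw [← Equiv.Perm.mul_apply]
    congr 2
    group
  have h1 := card_le_two_mul_cent (R := (S' : Subgroup G)) N fun y hy => by
    obtain ⟨r, hr⟩ := N.exists_ind (hSL hy)
    exact ⟨r, hr, hσ y hy r hr⟩
  set X := centralizer ({N.e nn} : Set G) ⊓ (S' : Subgroup G) with hX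
  have h2 : ZN.ChoiceBase.cj (g⁻¹ * l) X ≤ centralizer ({M₁.e nn} : Set G) := by
    rintro _ ⟨x, hx, rfl⟩
    have h3 := mem_C.1 hx.1
    have e : M₁.e nn = g⁻¹ * l * N.e nn * (g⁻¹ * l)⁻¹ := by
      calc M₁.e nn = g⁻¹ * (g * M₁.e nn * g⁻¹) * g := by group
        _ = g⁻¹ * (l * N.e nn * l⁻¹) * g := by rw [← hn, hnl]
        _ = g⁻¹ * l * N.e nn * (g⁻¹ * l)⁻¹ := by group
    refine mem_C.2 ?_
    change g⁻¹ * l * x * (g⁻¹ * l)⁻¹ * M₁.e nn = M₁.e nn * (g⁻¹ * l * x * (g⁻¹ * l)⁻¹)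
    rw [e]
    calc g⁻¹ * l * x * (g⁻¹ * l)⁻¹ * (g⁻¹ * l * N.e nn * (g⁻¹ * l)⁻¹)
        = g⁻¹ * l * (x * N.e nn) * (g⁻¹ * l)⁻¹ := by group
      _ = g⁻¹ * l * (N.e nn * x) * (g⁻¹ * l)⁻¹ := by rw [h3]
      _ = g⁻¹ * l * N.e nn * (g⁻¹ * l)⁻¹ * (g⁻¹ * l * x * (g⁻¹ * l)⁻¹) := by group
  have h3 := card_le_of_syl ⟨inf_le_right, S.isPGroup'.to_le inf_le_left, hsyl⟩ h2
    (ZN.ChoiceBase.isPGroup_cj _ (S'.isPGroup'.to_le inf_le_right))
  rw [ZN.ChoiceBase.card_cj] at h3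
  have h4 := w.card_T
  have h5 := Sym.card_eq_sylow S S'
  have h6 : 0 < Nat.card ((S : Subgroup G) ⊓ centralizer ({M₁.e nn} : Set G) : Subgroup G) := Nat.card_pos
  omega

end one

/-- **`SwOne K` from `SylN` and `JTF`.** -/
theorem swOne_of (hsy : SylN.{u}) (hjt : JTF.{u}) (K : Cls.{u}) : SwOne K := by
  intro G _ _ S S' hH P P' hp k' M M' hk hk' _
  exfalso
  obtain ⟨t1, t2⟩ := Sym.typed_of hH.typed hp
  have hc := hH.ctx.char2
  obtain ⟨n, ⟨p, q, hd⟩, p', q', hd'⟩ := exists_duad hc hp t1.noOver t2.noOver M M'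
  obtain ⟨V₁, V₂, L₁, L₂, M₁, M₂, w, g, hg, hng⟩ := exists_wr_duad hc hp.star M hd
  have hsyl := hsy G S P V₁ V₂ L₁ L₂ M₁ M₂ w
  obtain rfl | rfl : k' = 1 ∨ k' = 2 := by omega
  · exact false_one w hsyl hng hp.star' M' hd'
  obtain ⟨V₁', V₂', L₁', L₂', M₁', M₂', w', g', hg', hng'⟩ := exists_wr_duad hc hp.star' M' hd'
  have w₁ := w'.cj (g⁻¹ * g')
  have hn₁ : (M₁'.cj (g⁻¹ * g')).e nn = M₁.e nn := by
    rw [FiveMod.cj_e]
    calc g⁻¹ * g' * M₁'.e nn * (g⁻¹ * g')⁻¹ = g⁻¹ * (g' * M₁'.e nn * g'⁻¹) * g := by group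
      _ = g⁻¹ * (g * M₁.e nn * g⁻¹) * g := by rw [← hng', ← hng]
      _ = M₁.e nn := by group
  obtain ⟨v₀, hv₀, a₀, ha₀, hne⟩ : ∃ v ∈ zl (S : Subgroup G) P, ∃ a ∈ zl (S' : Subgroup G) P',
      a * v ≠ v * a := by
    by_contra hcon
    push Not at hcon
    apply hp.ne
    rw [eq_bot_iff, commutator_le]
    intro v hv a ha
    rw [mem_bot, commutatorElement_eq_one_iff_mul_comm]
    exact (hcon v hv a ha).symm
  have hA := amb_of_loc hc S hp.star.isLoc
  have hA' := amb_of_loc hc S' hp.star'.isLoc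
  have hu : g⁻¹ * v₀ * g ∈ zl (S : Subgroup G) P := by
    have := hA.conj_mem (inv_mem hg) hv₀
    rwa [inv_inv] at this
  have hb : g'⁻¹ * a₀ * g' ∈ zl (S' : Subgroup G) P' := by
    have := hA'.conj_mem (inv_mem hg') ha₀
    rwa [inv_inv] at this
  obtain ⟨d, hdC, T2⟩ := exists_two w w₁ hn₁ hsyl
  have hb' : d * (g⁻¹ * a₀ * g) * d⁻¹ ∈
      zl ((sy d (sy (g⁻¹ * g') S') : Sylow 2 G) : Subgroup G)
        (ZN.ChoiceBase.cj d (ZN.ChoiceBase.cj (g⁻¹ * g') P')) := by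
    rw [sy_coe, sy_coe, zl_cj, zl_cj, mem_cj, mem_cj]
    have e : (g⁻¹ * g')⁻¹ * (d⁻¹ * (d * (g⁻¹ * a₀ * g) * d⁻¹) * d) * (g⁻¹ * g') = g'⁻¹ * a₀ * g' := by group
    rw [e]
    exact hb
  have hdn : d⁻¹ * M₁.e nn = M₁.e nn * d⁻¹ := mem_C.1 (inv_mem hdC)
  have hne' : d⁻¹ * (d * (g⁻¹ * a₀ * g) * d⁻¹) * d⁻¹⁻¹ * (g⁻¹ * v₀ * g) ≠
      g⁻¹ * v₀ * g * (d⁻¹ * (d * (g⁻¹ * a₀ * g) * d⁻¹) * d⁻¹⁻¹) := by
    intro h
    apply hne
    calc a₀ * v₀ = g * (d⁻¹ * (d * (g⁻¹ * a₀ * g) * d⁻¹) * d⁻¹⁻¹ * (g⁻¹ * v₀ * g)) * g⁻¹ := by group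
      _ = g * (g⁻¹ * v₀ * g * (d⁻¹ * (d * (g⁻¹ * a₀ * g) * d⁻¹) * d⁻¹⁻¹)) * g⁻¹ := by rw [h]
      _ = v₀ * a₀ := by group
  obtain ⟨k, hk, v, hv, u, hu', hvu⟩ := T2.w.exists_one' T2.w' T2.n T2.a T2.S₁.symm hdn hb' hu hne'
  exact hvu (hjt _ _ _ _ _ _ _ _ _ T2.w' k v u hk hv hu')

end Cfsg.Agent.Omega.IId.LFour

end

section


/-!
# `S₅ wr 2`, the pure pair (project OMEGA, II.d L4; text 644 #19215 (B), LEMMA O: helper430)

* `fr` : the hypotheses `HttLE.Fr` of the end;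
* `not_ex` : `V₁` commutes with its conjugates under `C_G(n)`;
* `tn_of_syl` : `HttLE.Tn` if `T = C_S(n)` is Sylow in `C_G(n)`;
* `jtf_of_sylN : SylN → JTF`; `swOne_of_sylN : SylN → SwOne K`.
-/

set_option autoImplicit false
set_option linter.unusedSectionVars false

namespace Cfsg.Agent.Omega.IId.LFour.Htt

open Subgroup Pointwise Cfsg Cfsg.Agent.ZN Cfsg.Agent.Omega.MinPar
open Cfsg.Agent.Omega.BTwo Cfsg.Agent.Omega.HT
open Cfsg.Agent.Omega.S5.Mod Cfsg.Agent.Omega.S5.TT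
open Cfsg.Agent.Omega.S5.TT.Pos (na ns as sn n_ne s_ne a_ne n_ne_a n_ne_s a_ne_s e_sq' mem_C)
open Cfsg.Agent.Omega.IId.LFour.Crux (du)

universe u

variable {G : Type u} [Group G] [Finite G] {S : Sylow 2 G} {P V₁ V₂ L₁ L₂ : Subgroup G}
  {M₁ : FiveMod V₁ L₁} {M₂ : FiveMod V₂ L₂} (wr : Wr S P M₁ M₂)
include wr

/-- an element of `X` inducing `sw i` -/
theorem exists_x (ex : Ex M₁) (i : Fin 3) : ∃ g ∈ XX (Vl M₁) (Rl M₁), M₁.Ind g (sw i) := by
  obtain ⟨h, hn, ⟨u, hu, hui⟩, -⟩ := exists_Mv wr ex i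
  exact ⟨_, W_le_X _ _ i (cj_le_WW hn ⟨u, hu, rfl⟩), hui⟩

theorem loc_of (ex : Ex M₁) (t : HttLE.Tn S M₁) : Loc S M₁ := by
  intro M hT hX _ _
  refine t.loc wr (X := XX (Vl M₁) (Rl M₁)) (fun x hx => X_comm_a wr ex hx) ?_ ?_ (MinSimple.VModule.o2_isPGroup M)
    (hT.trans (le_normalizer_o2 M)) (hX.trans (le_normalizer_o2 M)) ?_
  · obtain ⟨x, hx, hi⟩ := exists_x wr ex 2
    refine ⟨x, hx, ?_⟩
    rw [hi, ← pt_zero]
    exact congrArg M₁.e ((pt_sw 2 0 1 (by decide) (by decide)).resolve_left (by decide))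
  · obtain ⟨x, hx, hi⟩ := exists_x wr ex 1
    refine ⟨x, hx, ?_⟩
    rw [hi, ← pt_zero]
    exact congrArg M₁.e ((pt_sw 1 0 2 (by decide) (by decide)).resolve_left (by decide))
  · rintro v (rfl | ⟨i, rfl⟩)
    · exact Or.inl rfl
    · fin_cases i
      · exact Or.inr (Or.inl (congrArg M₁.e pt_zero))
      · exact Or.inr (Or.inr (Or.inl rfl))
      · exact Or.inr (Or.inr (Or.inr rfl))

theorem fr (ex : Ex M₁) (t : HttLE.Tn S M₁) :
    HttLE.Fr M₁ M₂ (Tn S M₁) (Pn S M₁) (Vl M₁) (Rl M₁) (0 : Fin 3) where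
  htt := htt wr ex t.syl (loc_of wr ex t)
  Ro x := by rw [mem_Rl, pt_zero]
  Ri i := by
    obtain ⟨a, b, hab, h1, -⟩ := pt_du i
    exact ⟨a, b, hab, fun x => by rw [mem_Rl, h1]⟩
  V_le := Vl_le
  P'_le := le_rfl
  cz _ hx := (mem_cz wr ex).1 hx

/-- **the pure pair** -/
theorem not_ex (t : HttLE.Tn S M₁) : ¬ Ex M₁ := fun ex =>
  HttLE.false_of_fr wr t (fr wr ex t) (a_mem_cz wr ex) (t_mem_cz wr ex)

end Cfsg.Agent.Omega.IId.LFour.Htt

namespace Cfsg.Agent.Omega.IId.LFour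

open Subgroup Cfsg Cfsg.Agent.Omega.MinPar
open Cfsg.Agent.Omega.S5.Mod Cfsg.Agent.Omega.S5.TT
open Cfsg.Agent.Omega.Frame

universe u

/-- `HttLE.Tn` from (A) -/
theorem tn_of_syl {G : Type u} [Group G] [Finite G] {S : Sylow 2 G} {P V₁ V₂ L₁ L₂ : Subgroup G}
    {M₁ : FiveMod V₁ L₁} {M₂ : FiveMod V₂ L₂} (wr : Wr S P M₁ M₂)
    (syl : ¬ 2 ∣ ((S : Subgroup G) ⊓ centralizer ({M₁.e nn} : Set G)).relIndex
      (centralizer ({M₁.e nn} : Set G))) : HttLE.Tn S M₁ where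
  syl := syl
  cor g hg := by
    rcases wr.conj_n syl hg with h | h
    · exact Or.inl (mul_inv_eq_iff_eq_mul.1 h)
    · refine Or.inr ⟨h, ?_⟩
      have e : g * g * M₁.e nn * (g * g)⁻¹ = g * M₁.e aa * g⁻¹ := by
        rw [← h]; group
      rcases wr.conj_n syl (mul_mem hg hg) with h1 | h1
      · rwa [e] at h1
      · exfalso
        rw [e] at h1
        exact Pos.n_ne_a M₁ (mul_left_cancel (mul_right_cancel (h.trans h1.symm)))

theorem jtf_of_sylN (h : SylN.{u}) : JTF.{u} := by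
  intro G _ _ S P V₁ V₂ L₁ L₂ M₁ M₂ wr k v w hk hv hw
  by_contra hne
  exact Htt.not_ex wr (tn_of_syl wr (h G S P V₁ V₂ L₁ L₂ M₁ M₂ wr)) ⟨k, hk, w, hw, v, hv, fun h1 => hne h1.symm⟩

/-- **`SwOne K` from (A).** -/
theorem swOne_of_sylN (h : SylN.{u}) (K : Cls.{u}) : SwOne K := swOne_of h (jtf_of_sylN h) K

end Cfsg.Agent.Omega.IId.LFour

end

end

-- merged: Cfsg.Agent.Mrg.Omega.IId.LFour.SwOneFin
section

/-!
# `SwOne K` (project OMEGA, II.d)
-/

set_option autoImplicit false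

namespace Cfsg.Agent.Omega.IId.LFour

open Cfsg Cfsg.Agent.Omega.Frame

universe u

theorem sylN : SylN.{u} := fun _ _ _ _ _ _ _ _ _ _ _ wr => wr.not_two_dvd

/-- **`SwOne K`.** -/
theorem swOne (K : Cls.{u}) : SwOne K := swOne_of_sylN sylN K

end Cfsg.Agent.Omega.IId.LFour

end

-- merged: Cfsg.Agent.Mrg.Omega.IId.SwNat
section

section


/-!
# II.d, `SwNat K` : `S₅ wr 2` against one or two natural factors

helper341 (head of `SwNat`), text of helper84 #16986 (2), referee helper930 #17244.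

* `sn_nn` : `V₁ ≤ K_n` (A (3)) and LEMMA X for the adapted pair `n = M₁.e nn`;
* `SN.conj` : conjugates;
* `exists_sn` : for a mutual pair, the data of `SwNatOne.lean`;
* `swNat'` : `SwNat K` from `NodeN2 K` and `NoOne K` (`swNat` : the old interface, with an unused `NO3S.Two K`).
-/

set_option autoImplicit false
set_option linter.unusedSectionVars false

namespace Cfsg.Agent.Omega.IId.SwN

open Subgroup Pointwise Cfsg Cfsg.Agent.ZN.ChoiceBase
open Cfsg.Agent.ZN (o2 zc zl)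
open Cfsg.Agent.Omega.MinPar Cfsg.Agent.Omega.FFThm Cfsg.Agent.Omega.Frame
open Cfsg.Agent.Omega.S5.Mod Cfsg.Agent.Omega.S5.TT
open Cfsg.Agent.Omega.Half.SymA (E)
open Cfsg.Agent.Omega.Half (Amb amb_of_loc)
open Cfsg.Agent.Omega.IId.LFour (Wr md exists_wr)
open Cfsg.Agent.Omega.IId.One (cz Kk)

universe u

variable {G : Type u} [Group G] [Finite G] {S : Sylow 2 G} {P V₁ V₂ L₁ L₂ : Subgroup G} {M₁ : FiveMod V₁ L₁}
  {M₂ : FiveMod V₂ L₂}

/-- The supply. -/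
theorem le_Kk (wr : Wr S P M₁ M₂) : V₁ ≤ Kk (M₁.e nn) := by
  intro v hv
  obtain ⟨y, rfl⟩ := (M₁.mem_iff v).1 hv
  refine ⟨One.mem_cz.2 (M₁.e_comm y nn), fun x hx => ?_⟩
  have h1 : M₁.e y * x * (M₁.e y)⁻¹ * x⁻¹ = (x * M₁.e y * x⁻¹ * (M₁.e y)⁻¹)⁻¹ := by group
  rw [h1]
  apply inv_mem
  rcases wr.Q_ind hx with h2 | h2
  · rw [h2.comm_eq]
    have e : y ∘ (1 : Equiv.Perm (Fin 5)).symm + y = 0 := add_self y
    rw [e, M₁.e_zero]
    exact one_mem _
  · rw [h2.comm_eq]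
    rcases LFour.swap_add y with h3 | h3
    · rw [h3, M₁.e_zero]
      exact one_mem _
    · rw [h3]
      exact mem_zpowers _

theorem sn_nn (wr : Wr S P M₁ M₂) : SN V₁ (M₁.e nn) where
  kk := le_Kk wr
  x := fun _ hU hU1 hC ho => wr.lemX hU hU1 hC ho

omit [Finite G] in
theorem cj_cz (g n : G) : cj g⁻¹ (cz (g * n * g⁻¹)) = cz n := by
  ext x
  rw [mem_cj, inv_inv, One.mem_cz, One.mem_cz]
  have e1 : g * x * g⁻¹ * (g * n * g⁻¹) = g * (x * n) * g⁻¹ := by group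
  have e2 : g * n * g⁻¹ * (g * x * g⁻¹) = g * (n * x) * g⁻¹ := by group
  rw [e1, e2]
  exact ⟨fun h => mul_left_cancel (mul_right_cancel h), fun h => by rw [h]⟩

theorem SN.conj {n g : G} (h : SN V₁ n) (hg : g ∈ normalizer (V₁ : Set G)) : SN V₁ (g * n * g⁻¹) where
  kk := by
    intro u hu
    have h1 : g⁻¹ * u * g ∈ V₁ := by
      have := (mem_normalizer_iff.1 (inv_mem hg) u).1 hu
      rwa [inv_inv] at this
    have h2 := One.conj_Kk (s := g) rfl (h.kk h1)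
    have e : g * (g⁻¹ * u * g) * g⁻¹ = u := by group
    rwa [e] at h2
  x := by
    intro U hU hU1 hC ho
    have h1 : cz n ≤ normalizer ((cj g⁻¹ U : Subgroup G) : Set G) := by
      rw [← cj_normalizer, ← cj_cz g n]
      exact cj_mono _ hC
    have e1 : o2 (normalizer ((cj g⁻¹ U : Subgroup G) : Set G)) = cj g⁻¹ (o2 (normalizer (U : Set G))) := by
      rw [← cj_normalizer, ZN.ChoiceSit.o2_cj]
    have h2 : o2 (normalizer ((cj g⁻¹ U : Subgroup G) : Set G)) ≤ cz n := by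
      rw [e1, ← cj_cz g n]
      exact cj_mono _ ho
    have h3 : cj g⁻¹ U ≠ ⊥ := by
      intro h0
      apply hU1
      rw [← cj_cj_inv g U, h0]
      exact Subgroup.map_bot _
    have h4 := h.x _ (isPGroup_cj _ hU) h3 h1 h2
    rw [e1] at h4
    have h5 := cj_mono g h4
    rwa [cj_cj_inv, cj_eq_of_mem_normalizer hg] at h5

/-! ### Pairs of letters -/

theorem exists_nn : ∀ a b : Fin 5, a ≠ b → ∃ ρ : Equiv.Perm (Fin 5),
    nn ∘ ρ.symm = Pi.single a 1 + Pi.single b 1 := by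
  decide +kernel

theorem sn_pair (wr : Wr S P M₁ M₂) {a b : Fin 5} (hab : a ≠ b) :
    SN V₁ (M₁.e (Pi.single a 1 + Pi.single b 1)) := by
  obtain ⟨ρ, hρ⟩ := exists_nn a b hab
  obtain ⟨g, hg, hi⟩ := M₁.exists_lift ρ
  have h1 := (sn_nn wr).conj (M₁.le_normalizer hg)
  rwa [hi nn, hρ] at h1

/-! ### The mutual pair -/

theorem comp_single (σ : Equiv.Perm (Fin 5)) (a : Fin 5) :
    (Pi.single (σ⁻¹ a) (1 : ZMod 2) : Fin 5 → ZMod 2) ∘ σ.symm = Pi.single a 1 := by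
  funext x
  change (Pi.single (σ⁻¹ a) (1 : ZMod 2) : Fin 5 → ZMod 2) (σ⁻¹ x) = _
  by_cases h : x = a
  · rw [h, Pi.single_eq_same, Pi.single_eq_same]
  · rw [Pi.single_eq_of_ne h, Pi.single_eq_of_ne fun h0 => h (σ⁻¹.injective h0)]

/-- The data of `SwNatOne.lean`. -/
theorem exists_sn {F : Type} [Field F] [Finite F] {S' : Sylow 2 G} {P' : Subgroup G} {k : ℕ}
    {M : SymK (S : Subgroup G) P (zl (S : Subgroup G) P) ⊥ 2 2}
    {M' : NatK F (S' : Subgroup G) P' (zl (S' : Subgroup G) P') ⊥ k} {I : Set (Fin k)} (h : Mix M' M I)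
    {i : Fin k} (hi : i ∈ I) :
    ∃ (W : Subgroup G) (n : G), n ∈ line M' i ∧ n ≠ 1 ∧ SN W n ∧ ∃ w ∈ fac M' i, ∃ u ∈ W, w * u ≠ u * w := by
  obtain ⟨w, hw, hwe⟩ := exists_fac M' i ![0, 1]
  have hwi : M'.e w i 1 ≠ 0 := by rw [hwe]; exact one_ne_zero
  obtain ⟨p, q, hpq, hpq1, hp2, hq2, hact, hz⟩ := h.exists_pair hi hw hwi
  obtain ⟨n, hn, hn1⟩ : ∃ n ∈ line M' i, n ≠ 1 := by
    by_contra hcon
    push Not at hcon
    exact line_ne_bot (M := M') i ((eq_bot_iff_forall _).2 hcon)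
  have hE := hz n hn hn1
  obtain ⟨a₀, ha₀, hna⟩ := (h.ind.mem_line_iff h.V'P hi hw hwi).1 hn
  have hnV : n ∈ zl (S : Subgroup G) P := hna ▸ comm_mem h.amb' (h.VP' hw.1) ha₀
  obtain ⟨i₀, a⟩ := p
  obtain ⟨i₁, b⟩ := q
  obtain rfl : i₀ = i₁ := hpq1
  have hab : a ≠ b := fun h0 => hpq (by rw [h0])
  obtain ⟨j₀, hij⟩ : ∃ j : Fin 2, i₀ ≠ j := ⟨i₀ + 1, by omega⟩
  obtain ⟨σ₁, σ₂, wr⟩ := exists_wr h.c2 S h.pair.star' M hij
  have hA := amb_of_loc h.c2 S h.pair.star'.isLoc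
  -- `n` in the labels of the first summand
  have hnf : n ∈ LFour.SymF.fac M i₀ := by
    refine ⟨hnV, fun j hj => funext fun y => ?_⟩
    have h1 := hE (j, y)
    rw [if_neg (fun h0 => hj (congrArg Prod.fst h0)), if_neg (fun h0 => hj (congrArg Prod.fst h0)), add_zero] at h1
    exact h1
  have hne : M.e n i₀ = Pi.single a 1 + Pi.single b 1 := by
    funext y
    have h1 := hE (i₀, y)
    have h2 : E M n (i₀, y) = M.e n i₀ y := rfl
    rw [← h2, h1]
    by_cases hya : y = a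
    · have hyb : y ≠ b := fun h0 => hab (hya.symm.trans h0)
      rw [hya] at hyb ⊢
      rw [if_pos rfl, if_neg (fun h0 => hyb (congrArg Prod.snd h0)), Pi.add_apply, Pi.single_eq_same,
        Pi.single_eq_of_ne hyb]
    · by_cases hyb : y = b
      · rw [hyb] at hya ⊢
        rw [if_neg (fun h0 => hya (congrArg Prod.snd h0)), if_pos rfl, Pi.add_apply, Pi.single_eq_same,
          Pi.single_eq_of_ne hya]
      · rw [if_neg (fun h0 => hya (congrArg Prod.snd h0)), if_neg (fun h0 => hyb (congrArg Prod.snd h0)),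
          Pi.add_apply, Pi.single_eq_of_ne hya, Pi.single_eq_of_ne hyb]
  have hn' : n = ((md M hA i₀).relabel σ₁).e (Pi.single (σ₁⁻¹ a) 1 + Pi.single (σ₁⁻¹ b) 1) := by
    rw [FiveMod.relabel_e]
    have e : (Pi.single (σ₁⁻¹ a) 1 + Pi.single (σ₁⁻¹ b) 1 : Vec) ∘ σ₁.symm = Pi.single a 1 + Pi.single b 1 := by
      rw [← comp_single σ₁ a, ← comp_single σ₁ b]
      rfl
    rw [e, LFour.md_e]
    rw [← LFour.SymF.lab_e M (by norm_num) hnf, hne]
  have hsn := sn_pair wr (a := σ₁⁻¹ a) (b := σ₁⁻¹ b) fun h0 => hab (σ₁⁻¹.injective h0)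
  rw [← hn'] at hsn
  refine ⟨_, n, hn, hn1, hsn, w, hw, LFour.SymF.lab M (by norm_num) i₀ (Pi.single a 1 + Pi.single 0 1),
    LFour.SymF.lab_mem_fac M (by norm_num) i₀ _, fun hcom => ?_⟩
  set u := LFour.SymF.lab M (by norm_num) i₀ (Pi.single a 1 + Pi.single 0 1) with hu
  have huV : u ∈ zl (S : Subgroup G) P := LFour.SymF.lab_mem M (by norm_num) i₀ _
  have h1 := hact u huV (i₀, b)
  rw [hcom, mul_inv_cancel_right, Equiv.swap_apply_right] at h1
  have hs : (∑ y, (Pi.single a 1 + Pi.single 0 1 : Fin (2 ^ 2 + 1) → ZMod 2) y) = 0 := by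
    simp only [Pi.add_apply, Finset.sum_add_distrib, Finset.sum_pi_single', Finset.mem_univ, if_true]
    decide
  have h2 : M.e u i₀ = Pi.single a 1 + Pi.single 0 1 := by
    rw [hu, LFour.SymF.e_lab, Pi.single_eq_same, LFour.SymF.hat_of_even hs]
  have h3 : M.e u i₀ a = M.e u i₀ b := h1
  rw [h2, Pi.add_apply, Pi.add_apply, Pi.single_eq_same, Pi.single_eq_of_ne hp2, Pi.single_eq_of_ne hab.symm,
    Pi.single_eq_of_ne hq2] at h3
  simp at h3

/-- **`SwNat K`** (no `NO3S.Two K`). -/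
theorem swNat' {K : Cls.{u}} (hN2 : S5.Main.NodeN2 K) (hNo : NoOne K) : SwNat K := by
  intro G _ _ S S' hH P P' hp F' _ _ _ k' M M' hk' hk2
  have hc := hH.ctx.char2
  obtain ⟨t1, t2⟩ := hH.typed' hp
  obtain ⟨I, hI⟩ := exists_ind M' hp.symm.le (hp.symm.off hc t1.noOver)
  have hX : Mix M' M I := ⟨hp.symm, hc, by norm_num, hp.off hc t2.noOver, hI⟩
  have hIne : I.Nonempty := lines_ne_bot (M := M') ((hI.commutator_eq hX.V'P) ▸ hp.symm.ne)
  obtain ⟨i, hi⟩ := hIne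
  obtain ⟨W, n, hn, hn1, hsn, hne⟩ := exists_sn hX hi
  exact known' hN2 hNo (hH.conj S') hp.star' hk' hk2 M' hX.card_two hn hn1 hsn hne

/-- The old interface of `swNat'`, with the unused `NO3S.Two K`. -/
theorem swNat {K : Cls.{u}} (hN2 : S5.Main.NodeN2 K) (_hTwo : NO3S.Two K) (hNo : NoOne K) : SwNat K :=
  swNat' hN2 hNo

end Cfsg.Agent.Omega.IId.SwN

end

section


/-!
# II.d, `SwNat` is void (helper612): `S₅ wr 2` has no natural partner with one or two factors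

`T = C_S(n)` has index 4 in `S` and is a Sylow 2-subgroup of `C_G(n)` (helper774 `Wr.T_syl_n`, text helper644
#19215 (A)).  For a natural partner with `k' ≤ 2` factors `n ∈ line M' i` is centralised by `N_{S'}(V'_i)`, of index
`k'` in `S'`.

* `exists_bound` : the light vector `n ∈ line M' i` has `4 |R| ≤ |S|` for every 2-subgroup `R ≤ C_G(n)`;
* `swNat0` : `SwNat K`, no input.
-/

set_option autoImplicit false
set_option linter.unusedSectionVars false

namespace Cfsg.Agent.Omega.IId.SwN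

open Subgroup Pointwise Cfsg Cfsg.Agent.ZN.ChoiceBase
open Cfsg.Agent.ZN (o2 zc zl)
open Cfsg.Agent.Omega.MinPar Cfsg.Agent.Omega.FFThm Cfsg.Agent.Omega.Frame
open Cfsg.Agent.Omega.S5.Mod Cfsg.Agent.Omega.S5.TT
open Cfsg.Agent.Omega.Half.SymA (E)
open Cfsg.Agent.Omega.Half (Amb amb_of_loc)
open Cfsg.Agent.Omega.IId.LFour (Wr md exists_wr)
open Cfsg.Agent.Omega.IId.One (cz Kk)

universe u

variable {G : Type u} [Group G] [Finite G] {S : Sylow 2 G} {P V₁ V₂ L₁ L₂ : Subgroup G} {M₁ : FiveMod V₁ L₁}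
  {M₂ : FiveMod V₂ L₂}

/-- `4 |R| ≤ |S|` for every 2-subgroup `R` of `C_G(n)`. -/
theorem wr_bound (w : Wr S P M₁ M₂) {R : Subgroup G} (h2 : IsPGroup 2 R)
    (hR : R ≤ centralizer ({M₁.e nn} : Set G)) : 4 * Nat.card R ≤ Nat.card (S : Subgroup G) := by
  have h1 := LFour.card_le_of_syl w.T_syl_n hR h2
  rw [w.card_S₁, w.card_T₁]
  omega

/-- The data of `exists_sn`: the light vector is conjugate to `M₁.e nn`. -/
theorem exists_bound {F : Type} [Field F] [Finite F] {S' : Sylow 2 G} {P' : Subgroup G} {k : ℕ}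
    {M : SymK (S : Subgroup G) P (zl (S : Subgroup G) P) ⊥ 2 2}
    {M' : NatK F (S' : Subgroup G) P' (zl (S' : Subgroup G) P') ⊥ k} {I : Set (Fin k)} (h : Mix M' M I)
    {i : Fin k} (hi : i ∈ I) :
    ∃ n : G, n ∈ line M' i ∧ n ≠ 1 ∧ ∀ R : Subgroup G, IsPGroup 2 R → R ≤ centralizer ({n} : Set G) →
      4 * Nat.card R ≤ Nat.card (S : Subgroup G) := by
  obtain ⟨w, hw, hwe⟩ := exists_fac M' i ![0, 1]
  have hwi : M'.e w i 1 ≠ 0 := by rw [hwe]; exact one_ne_zero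
  obtain ⟨p, q, hpq, hpq1, hp2, hq2, hact, hz⟩ := h.exists_pair hi hw hwi
  obtain ⟨n, hn, hn1⟩ : ∃ n ∈ line M' i, n ≠ 1 := by
    by_contra hcon
    push Not at hcon
    exact line_ne_bot (M := M') i ((eq_bot_iff_forall _).2 hcon)
  have hE := hz n hn hn1
  obtain ⟨a₀, ha₀, hna⟩ := (h.ind.mem_line_iff h.V'P hi hw hwi).1 hn
  have hnV : n ∈ zl (S : Subgroup G) P := hna ▸ comm_mem h.amb' (h.VP' hw.1) ha₀
  obtain ⟨i₀, a⟩ := p
  obtain ⟨i₁, b⟩ := q
  obtain rfl : i₀ = i₁ := hpq1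
  have hab : a ≠ b := fun h0 => hpq (by rw [h0])
  obtain ⟨j₀, hij⟩ : ∃ j : Fin 2, i₀ ≠ j := ⟨i₀ + 1, by omega⟩
  obtain ⟨σ₁, σ₂, wr⟩ := exists_wr h.c2 S h.pair.star' M hij
  have hA := amb_of_loc h.c2 S h.pair.star'.isLoc
  have hnf : n ∈ LFour.SymF.fac M i₀ := by
    refine ⟨hnV, fun j hj => funext fun y => ?_⟩
    have h1 := hE (j, y)
    rw [if_neg (fun h0 => hj (congrArg Prod.fst h0)), if_neg (fun h0 => hj (congrArg Prod.fst h0)), add_zero] at h1
    exact h1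
  have hne : M.e n i₀ = Pi.single a 1 + Pi.single b 1 := by
    funext y
    have h1 := hE (i₀, y)
    have h2 : E M n (i₀, y) = M.e n i₀ y := rfl
    rw [← h2, h1]
    by_cases hya : y = a
    · have hyb : y ≠ b := fun h0 => hab (hya.symm.trans h0)
      rw [hya] at hyb ⊢
      rw [if_pos rfl, if_neg (fun h0 => hyb (congrArg Prod.snd h0)), Pi.add_apply, Pi.single_eq_same,
        Pi.single_eq_of_ne hyb]
    · by_cases hyb : y = b
      · rw [hyb] at hya ⊢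
        rw [if_neg (fun h0 => hya (congrArg Prod.snd h0)), if_pos rfl, Pi.add_apply, Pi.single_eq_same,
          Pi.single_eq_of_ne hya]
      · rw [if_neg (fun h0 => hya (congrArg Prod.snd h0)), if_neg (fun h0 => hyb (congrArg Prod.snd h0)),
          Pi.add_apply, Pi.single_eq_of_ne hya, Pi.single_eq_of_ne hyb]
  have hn' : n = ((md M hA i₀).relabel σ₁).e (Pi.single (σ₁⁻¹ a) 1 + Pi.single (σ₁⁻¹ b) 1) := by
    rw [FiveMod.relabel_e]
    have e : (Pi.single (σ₁⁻¹ a) 1 + Pi.single (σ₁⁻¹ b) 1 : Vec) ∘ σ₁.symm = Pi.single a 1 + Pi.single b 1 := by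
      rw [← comp_single σ₁ a, ← comp_single σ₁ b]
      rfl
    rw [e, LFour.md_e]
    rw [← LFour.SymF.lab_e M (by norm_num) hnf, hne]
  obtain ⟨ρ, hρ⟩ := exists_nn (σ₁⁻¹ a) (σ₁⁻¹ b) fun h0 => hab (σ₁⁻¹.injective h0)
  obtain ⟨g, -, hgi⟩ := ((md M hA i₀).relabel σ₁).exists_lift ρ
  have hg : g * ((md M hA i₀).relabel σ₁).e nn * g⁻¹ = n := by rw [hgi nn, hρ, ← hn']
  refine ⟨n, hn, hn1, fun R hR2 hR => ?_⟩
  have h1 : cj g⁻¹ R ≤ centralizer ({((md M hA i₀).relabel σ₁).e nn} : Set G) := by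
    intro x hx
    rw [mem_cj, inv_inv] at hx
    have h2 := mem_centralizer_singleton_iff.1 (hR hx)
    rw [mem_centralizer_singleton_iff]
    rw [← hg] at h2
    have e1 : g * x * g⁻¹ * (g * ((md M hA i₀).relabel σ₁).e nn * g⁻¹) =
        g * (x * ((md M hA i₀).relabel σ₁).e nn) * g⁻¹ := by group
    have e2 : g * ((md M hA i₀).relabel σ₁).e nn * g⁻¹ * (g * x * g⁻¹) =
        g * (((md M hA i₀).relabel σ₁).e nn * x) * g⁻¹ := by group
    rw [e1, e2] at h2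
    exact mul_left_cancel (mul_right_cancel h2)
  have h3 := wr_bound wr (isPGroup_cj g⁻¹ hR2) h1
  rwa [card_cj] at h3

/-- **`SwNat K`, void.** -/
theorem swNat0 {K : Cls.{u}} : SwNat K := by
  intro G _ _ S S' hH P P' hp F' _ _ _ k' M M' hk' hk2
  have hc := hH.ctx.char2
  obtain ⟨t1, t2⟩ := hH.typed' hp
  obtain ⟨I, hI⟩ := exists_ind M' hp.symm.le (hp.symm.off hc t1.noOver)
  have hX : Mix M' M I := ⟨hp.symm, hc, by norm_num, hp.off hc t2.noOver, hI⟩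
  have hIne : I.Nonempty := lines_ne_bot (M := M') ((hI.commutator_eq hX.V'P) ▸ hp.symm.ne)
  obtain ⟨i, hi⟩ := hIne
  obtain ⟨n, hn, hn1, hb⟩ := exists_bound hX hi
  exfalso
  have hF := hX.card_two
  have hst : stab M' i ≤ centralizer ({n} : Set G) := fun x hx =>
    mem_centralizer_singleton_iff.2 (stab_comm_line M' hp.star'.isLoc.le hF hn hx)
  have h4 := hb (stab M' i) (S'.isPGroup'.to_le (stab_le M' i)) hst
  have hSS : Nat.card (S' : Subgroup G) = Nat.card (S : Subgroup G) := by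
    have : Fact (Nat.Prime 2) := ⟨Nat.prime_two⟩
    rw [S'.card_eq_multiplicity, S.card_eq_multiplicity]
  have h5 : Nat.card (S' : Subgroup G) ≤ 2 * Nat.card (stab M' i) := by
    obtain rfl | rfl : k' = 1 ∨ k' = 2 := by omega
    · obtain rfl : i = 0 := Subsingleton.elim i 0
      have h6 := stab_eq_one M' hp.star'.isLoc.le
      have h7 := Subgroup.card_le_of_le h6
      omega
    · obtain ⟨j, hij⟩ : ∃ j : Fin 2, i ≠ j := ⟨i + 1, by omega⟩
      exact (two_of hc hp.star' M' hij).card.le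
  have h8 : 0 < Nat.card (stab M' i) := Nat.card_pos
  omega

end Cfsg.Agent.Omega.IId.SwN

end

end

-- merged: Cfsg.Agent.Mrg.Omega.IId.SymMany.Two
section

/-!
# `q = 2`: at least three natural factors against one `O₄⁻(2)`-module

`n = ` the pair `{0, 1}`, `{1, n} = line M i`: `|S' : C_{S'}(n)| = 2`, but `N_S(V_i)`, of index `k` in `S`, is a Sylow
2-subgroup of `C_G(n)` (`Big.Syl.stab_sylow` of helper245).
-/

set_option autoImplicit false
set_option linter.unusedSectionVars false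

namespace Cfsg.Agent.Omega.IId.SymMany

open Subgroup Cfsg Cfsg.Agent.ZN.ChoiceBase
open Cfsg.Agent.ZN (o2 zc zl)
open Cfsg.Agent.Omega.MinPar Cfsg.Agent.Omega.FFThm Cfsg.Agent.Omega.Frame
open Cfsg.Agent.Omega.FrameFF (cv Free)
open Cfsg.Agent.Omega.FrameMulti (IsSym IsNat Typed AllTyped)
open Cfsg.Agent.Omega.S5.Mod Cfsg.Agent.Omega.S5.TT Cfsg.Agent.Omega.S5.Types
open Cfsg.Agent.Omega.IId.Sym
open Cfsg.Agent.Omega.IId.Big (Fr)
open Triangle (KK mem_cent mem_KK mem_zpowers_iff_of_sq)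
open scoped commutatorElement

universe u

variable {G : Type u} [Group G]

/-- The component of `b` in the factor `i` is moved by `w`, if `[b, w]` has a coordinate `i`. -/
theorem comp_move {S P V' : Subgroup G} {F : Type} [Field F] {k : ℕ} (M : NatK F S P (zl S P) ⊥ k)
    {I : Set (Fin k)} (hI : Ind M V' I) (hVP : V' ≤ P) {b w : G} (hb : b ∈ zl S P) (hw : w ∈ V') {i : Fin k}
    (h : M.e ⁅b, w⁆ i 0 ≠ 0) : ∃ a ∈ fac M i, w * a ≠ a * w := by
  obtain ⟨a, ha, h7, -⟩ := exists_component M hb i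
  refine ⟨a, ha, fun h0 => h ?_⟩
  obtain ⟨d, -, h10⟩ := hI.act w hw
  have h11 := (e_comm ha.1 (hVP hw) h10 i).2.1
  have h12 := (e_comm hb (hVP hw) h10 i).2.1
  have h13 : ⁅a, w⁆ = 1 := commutatorElement_eq_one_iff_mul_comm.2 h0.symm
  rw [h13, e_one, h7, ← h12] at h11
  exact h11.symm

/-- A 2-subgroup of `C` is not larger than a Sylow 2-subgroup. -/
theorem card_le_of_odd [Finite G] {T C U : Subgroup G} (hTC : T ≤ C) (h : ¬ 2 ∣ T.relIndex C) (hU : IsPGroup 2 U)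
    (hUC : U ≤ C) : Nat.card U ≤ Nat.card T := by
  have hf : Fact (Nat.Prime 2) := ⟨Nat.prime_two⟩
  obtain ⟨a, ha⟩ := IsPGroup.iff_card.1 hU
  have h1 : Nat.card U ∣ Nat.card T * T.relIndex C := by
    rw [Half.card_mul_relIndex hTC]
    exact card_dvd_of_le hUC
  refine Nat.le_of_dvd Nat.card_pos (Nat.Coprime.dvd_of_dvd_mul_right ?_ h1)
  rw [ha]
  exact Nat.Coprime.pow_left a ((Nat.prime_two.coprime_iff_not_dvd).2 h)

variable [Finite G]

/-- **`q = 2`: three or more natural factors against one `O₄⁻(2)`-module.** -/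
theorem two_false {K : Cls.{u}} {S S' : Sylow 2 G}
    (hH : Hyp K S) {P P' : Subgroup G} (hp : Pair S S' P P') {F : Type} [Field F] [Finite F] [CharP F 2]
    {k : ℕ} (M : NatK F (S : Subgroup G) P (zl (S : Subgroup G) P) ⊥ k)
    (M' : SymK (S' : Subgroup G) P' (zl (S' : Subgroup G) P') ⊥ 1 2) (hk : 2 < k)
    (hF : Nat.card F = 2) : False := by
  have hc := hH.ctx.char2
  obtain ⟨t1, t2⟩ := typed_of hH.typed hp
  have f2 : Free (S' : Subgroup G) P' := free_of_sym M' (by omega)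
  have hS' : IsSym (S' : Subgroup G) P' 1 2 := by
    refine ⟨?_⟩
    rw [show cv (S' : Subgroup G) P' = ⊥ from f2]
    exact M'
  have o1 := hp.off hc t2.noOver
  have o2 := hp.symm.off hc t1.noOver
  obtain ⟨N, hN, ⟨b, hb, has⟩, -⟩ := exists_lab5 S' hp.star' hS' f2 hp.le' o2
  obtain ⟨I, hI⟩ := exists_ind M hp.le o1
  have hVP : zl (S' : Subgroup G) P' ≤ P := hp.le.trans hp.star.isLoc.le
  obtain ⟨i, hi, h1⟩ := exists_coord hI hVP hb (N.e_mem (Pi.single 0 1)) (swap_ne has)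
  obtain ⟨w, hw, h2, h3, h4⟩ := Sym.exists_root hI hVP hb hi 1
  have h5 : ⁅b, w⁆ = N.e nn := (Sym.comm_swap has hw).resolve_left (root_ne one_ne_zero h1 h3)
  have hn : N.e nn ∈ line M i := by
    rw [← h5, mem_line]
    exact ⟨h2, h4⟩
  have hn1 : N.e nn ≠ 1 := n_ne_one N
  obtain ⟨a, ha, hne⟩ := comp_move M hI hVP hb hw (i := i) (by
    rw [h3, one_mul]
    exact neg_ne_zero.2 h1)
  have hKK : w ∈ KK (N.e nn) := by
    refine mem_KK.2 ⟨N.comm hw (N.e_mem nn), fun x hx => ?_⟩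
    exact (mem_zpowers_iff_of_sq (by rw [← pow_two]; exact n_sq N)).2 (Sym.supply hN hc hx hw)
  have hC : CC M := ThmC.TwoOf.cc ThmC.stmt hc hp.star M hF
  have hZ := MinSimple.VModule.zc_le_zl (S : Subgroup G) P
  have hnf := line_le M i hn
  have fr : Fr (S : Subgroup G) (fac M) := Big.fr_of hc hp.star hC hF hZ hnf hn1 ⟨a, ha, w, hKK, hne⟩
  have hSP : (S : Subgroup G) ≤ P := hp.star.isLoc.le
  have hSyl := Big.Syl.stab_sylow hc hp.star hC hF fr (by omega) i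
  have hle := card_le_of_odd (stab_normalizes_line M hSP i) hSyl
    (U := (S' : Subgroup G) ⊓ centralizer ({N.e nn} : Set G)) (S'.isPGroup'.to_le inf_le_left) (by
      rw [normalizer_line_eq M hF hn hn1]
      exact inf_le_right)
  have h6 := card_T hN
  have h7 := card_stab M hSP i
  have h8 : Nat.card (S : Subgroup G) = Nat.card (S' : Subgroup G) := Nat.card_congr (Sylow.equiv S S').toEquiv
  have h9 : 0 < Nat.card (stab M i) := Nat.card_pos
  have h10 : k * Nat.card (stab M i) ≤ 2 * Nat.card (stab M i) := by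
    rw [← h7, h8, h6]
    exact Nat.mul_le_mul_left _ hle
  have h11 := Nat.le_of_mul_le_mul_right h10 h9
  omega

end Cfsg.Agent.Omega.IId.SymMany

end

-- merged: Cfsg.Agent.Mrg.Omega.IId.SymMany.Three
section

section


/-!
# `q = 2`: at least two natural factors against one factor `S_{2^m'+1}`, `m' ≥ 3`

* `exists_mover` : the line and an element of the factor moved by `V'`;
* `le_zl_of` : `V_l ≤ V'` for the other factors;
* `three_false`.
-/

set_option autoImplicit false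
set_option linter.unusedSectionVars false

namespace Cfsg.Agent.Omega.IId.SymMany

open Subgroup Cfsg Cfsg.Agent.ZN.ChoiceBase
open Cfsg.Agent.ZN (o2 zc zl)
open Cfsg.Agent.Omega.MinPar Cfsg.Agent.Omega.FFThm Cfsg.Agent.Omega.Frame
open Cfsg.Agent.Omega.FrameFF (cv Free)
open Cfsg.Agent.Omega.FrameMulti (IsSym IsNat Typed AllTyped)
open Cfsg.Agent.Omega.S5.Def
open Cfsg.Agent.Omega.S5.NatBig (Facts)
open Cfsg.Agent.Omega.NSix.Base (zz rr NN)
open Cfsg.Agent.Omega.NSix.Basic (zz_mem rr_mem rr_sq rr_ne_one)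
open Cfsg.Agent.Omega.NSix.Zero (WP)
open Cfsg.Agent.Omega.IId.Sym
open Cfsg.Agent.Omega.IId.Big (Fr Rd)
open Triangle (KK KK_conj KK_le_o2 mem_cent mem_KK mem_zpowers_iff_of_sq cent_conj o2_cent_conj)
open scoped commutatorElement

universe u

variable {G : Type u} [Group G]

/-- The line, and an element of the factor moved by `V'`. -/
theorem exists_mover {S P V' L : Subgroup G} {F : Type} [Field F] {k : ℕ} (M : NatK F S P (zl S P) ⊥ k)
    {I : Set (Fin k)} (hI : Ind M V' I) (hVP : V' ≤ P) {m : ℕ} {ε : (Fin m → ZMod 2) → G}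
    (h : EvenSet m V' L ε) (hm : 3 ≤ m) {i j : Fin m} (hij : i ≠ j) {b : G} (hb : b ∈ zl S P)
    (hbs : Acts ε b (Equiv.swap i j)) :
    ∃ i₀ : Fin k, rr ε i j ∈ line M i₀ ∧ ∃ a ∈ fac M i₀, ∃ w ∈ V', w * a ≠ a * w := by
  have hne : b * zz ε i ≠ zz ε i * b := Ne.symm (lswap_ne h hm hij hbs)
  obtain ⟨i₀, hi₀, h1⟩ := exists_coord hI hVP hb (zz_mem h i) hne
  obtain ⟨w, hw, h2, h3, h4⟩ := Sym.exists_root hI hVP hb hi₀ 1
  have h6 : ⁅b, w⁆ ≠ 1 := root_ne one_ne_zero h1 h3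
  have h5 : ⁅b, w⁆ = rr ε i j := by
    obtain ⟨u, rfl⟩ := h.surj w hw
    by_cases hu : u i = u j
    · exfalso
      apply h6
      rw [commutatorElement_eq_one_iff_mul_comm]
      exact (S5.Pair.acts_swap h hbs u).1 hu
    · rw [commutatorElement_def, (S5.Pair.acts_swap h hbs u).2 hu, h.comm, mul_inv_cancel_right, h.add]
      rfl
  have hn : rr ε i j ∈ line M i₀ := by
    rw [← h5, mem_line]
    exact ⟨h2, h4⟩
  refine ⟨i₀, hn, ?_⟩
  obtain ⟨a, ha, h7, -⟩ := exists_component M hb i₀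
  refine ⟨a, ha, w, hw, fun h0 => h1 ?_⟩
  -- the coordinates
  obtain ⟨d, -, h10⟩ := hI.act w hw
  have h11 := (e_comm ha.1 (hVP hw) h10 i₀).2.1
  have h12 := (e_comm hb (hVP hw) h10 i₀).2.1
  have h13 : ⁅a, w⁆ = 1 := commutatorElement_eq_one_iff_mul_comm.2 h0.symm
  rw [h13, e_one, h7, ← h12, h3] at h11
  have h14 : (0 : F) = - (1 * M.e b i₀ 1) := h11
  rw [one_mul] at h14
  exact neg_eq_zero.1 h14.symm

variable [Finite G]

/-- **`V_l ≤ V'`** for the factors `l ≠ i₀`, if `C_G(r_ij) ≤ N_G(V')`, `{1, r_ij} = line M i₀`. -/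
theorem le_zl_of {S' : Sylow 2 G} {V' P' T : Subgroup G} {ι : Type} {V : ι → Subgroup G}
    (hc : IsCharacteristicTwoType G) (fr : Fr T V) {m : ℕ}
    (hm : 5 ≤ m) {ε : (Fin m → ZMod 2) → G} (h : NSix.OmegaOne.Hyp V' P' S' ε) {i j : Fin m} (hij : i ≠ j)
    (hN : NN ε i j ≤ normalizer (V' : Set G)) (hKK : V' ≤ KK (rr ε i j)) {i₀ l : ι} (hl : l ≠ i₀)
    (hr : rr ε i j ∈ V i₀) : V l ≤ V' := by
  have hr1 : rr ε i j ≠ 1 := rr_ne_one h.ev (by omega) hij
  have hQ : V' ≤ o2 (centralizer ({rr ε i j} : Set G)) := hKK.trans (fr.KK_le_q hr hr1)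
  have hVC : V' ≤ centralizer (V' : Set G) := fun v hv => by
    rw [mem_centralizer_iff]
    exact fun v' hv' => h.ev.comm_mem hv' hv
  have hcz : centralizer (V' : Set G) ≤ centralizer ({rr ε i j} : Set G) :=
    centralizer_le (Set.singleton_subset_iff.2 (rr_mem h.ev i j))
  have hNN : NN ε i j = centralizer ({rr ε i j} : Set G) := rfl
  have hnC : centralizer ({rr ε i j} : Set G) ≤ normalizer (centralizer (V' : Set G) : Set G) := by
    rw [← hNN]
    exact hN.trans (NOne.LemmaT.normalizer_le_normalizer_centralizer _)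
  have h1 := Big.o2_le_o2_of hcz hnC
  -- `V_l` centralises `V'`
  have h2 : V l ≤ centralizer (V' : Set G) := fun x hx => by
    rw [mem_centralizer_iff]
    exact fun v hv => fr.Qc i₀ l hl _ hr hr1 v (hQ hv) x hx
  have h3 : V l ≤ o2 (centralizer (V' : Set G)) := by
    refine le_trans (le_inf h2 fun x hx => ?_) (NOne.LemmaT.char2_centralizer hc h.ev.isPGroup ?_)
    · rw [mem_centralizer_iff]
      exact fun y hy => fr.Qc i₀ l hl _ hr hr1 y (h1 hy) x hx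
    · intro h0
      have h4 := rr_mem h.ev i j
      rw [h0, mem_bot] at h4
      exact hr1 h4
  rw [← h.zc_o2_centralizer hc hm]
  intro x hx
  refine MinSimple.VModule.mem_zc.2 ⟨h3 hx, fun y hy => ?_, ?_⟩
  · exact fr.Qc i₀ l hl _ hr hr1 y (h1 hy) x hx
  · rw [pow_two]
    exact fr.sq l x hx

/-- **`q = 2`: two or more natural factors against one factor `S_{2^m'+1}`, `m' ≥ 3`.** -/
theorem three_false {K : Cls.{u}} {S S' : Sylow 2 G}
    (hH : Hyp K S) {P P' : Subgroup G} (hp : Pair S S' P P') {F : Type} [Field F] [Finite F] [CharP F 2]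
    {k m' : ℕ} (M : NatK F (S : Subgroup G) P (zl (S : Subgroup G) P) ⊥ k)
    (M' : SymK (S' : Subgroup G) P' (zl (S' : Subgroup G) P') ⊥ 1 m') (hk : 2 ≤ k) (hm : 3 ≤ m')
    (hF : Nat.card F = 2) : False := by
  have hc := hH.ctx.char2
  obtain ⟨t1, t2⟩ := typed_of hH.typed hp
  have f2 : Free (S' : Subgroup G) P' := free_of_sym M' (by omega)
  have hS' : IsSym (S' : Subgroup G) P' 1 m' := by
    refine ⟨?_⟩
    rw [show cv (S' : Subgroup G) P' = ⊥ from f2]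
    exact M'
  have o1 := hp.off hc t2.noOver
  have o2 := hp.symm.off hc t1.noOver
  obtain ⟨ε, hε, h0, hs⟩ := S5.Pair.exists_lab (S' : Subgroup G) (by omega) hp.star'.isLoc.le hS' f2
  have hn5 : 5 ≤ 2 ^ m' + 1 := S5.Syl.five_le (by omega)
  have hn3 : 3 ≤ 2 ^ m' + 1 := (by norm_num : 3 ≤ 5).trans hn5
  have hn9 : 9 ≤ 2 ^ m' + 1 := by
    have : 2 ^ 3 ≤ 2 ^ m' := Nat.pow_le_pow_right (by norm_num) hm
    omega
  have Fa : Facts ε P' := NSix.AllFacts.allFacts G hc S' P' m' ε hm hp.star' hε h0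
  obtain ⟨b, hb, i, j, hij, hbs⟩ := S5.Nat.exists_swap hε (hs _ hp.le' o2) o2.ne
  obtain ⟨I, hI⟩ := exists_ind M hp.le o1
  have hVP : zl (S' : Subgroup G) P' ≤ P := hp.le.trans hp.star.isLoc.le
  obtain ⟨i₀, hn, a, ha, w, hw, hne⟩ := exists_mover M hI hVP hε hn3 hij hb hbs
  have hn1 : rr ε i j ≠ 1 := rr_ne_one hε hn3 hij
  have hKK : zl (S' : Subgroup G) P' ≤ KK (rr ε i j) := facts_le_KK Fa hε hn3 hij
  have hC : CC M := ThmC.TwoOf.cc ThmC.stmt hc hp.star M hF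
  have hZ := MinSimple.VModule.zc_le_zl (S : Subgroup G) P
  have hnf := line_le M i₀ hn
  have fr : Fr (S : Subgroup G) (fac M) := Big.fr_of hc hp.star hC hF hZ hnf hn1 ⟨a, ha, w, hKK hw, hne⟩
  have haV : ¬ a ∈ centralizer (zl (S' : Subgroup G) P' : Set G) := fun h => hne
    (mem_centralizer_iff.1 h w hw)
  have haW : a ∈ WP ε i j := by
    have h1 := mem_KK.1 (Big.Supply.zl_le_KK hp.star hC hF hnf hn1 (fac_le M i₀ ha))
    rw [NSix.Zero.mem_WP]
    exact ⟨mem_cent.2 h1.1, h1.2⟩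
  have hNN := nn_le hc S' hp.star' hm hε h0 Fa
    ⟨i, j, hij, a, haW, by rw [Big.Supply.fac_sq ha]; exact one_mem _, haV⟩
  have hO : NSix.OmegaOne.Hyp (zl (S' : Subgroup G) P') P' S' ε :=
    { ev := hε
      le := hp.star'.isLoc.le
      zS := MinSimple.VModule.zc_le_zl _ _
      pair := fun i j k hij hki hkj q hq => Fa.pair i j hij k hki hkj q hq
      hle := Fa.le
      hN := ⟨i, j, hij, a, haW, haV⟩ }
  have hι : ∀ i : Fin k, ∃ j, j ≠ i := by
    have : Nontrivial (Fin k) := Fin.nontrivial_iff_two_le.2 hk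
    exact fun i => exists_ne i
  obtain ⟨l, hl⟩ := hι i₀
  have hVl := le_zl_of hc fr hn5 hO hij (hNN i j hij) hKK hl hnf
  obtain ⟨Z, x, z, D, R, hz⟩ := Big.exists_rd_of_fr hc hp.star hC hF (by omega) fr
  have hzi : z i₀ = rr ε i j := (mem_line_two M hF hn hn1 (hz i₀)).resolve_left (D.z1 i₀)
  have hodd : Odd (2 ^ m' + 1) := Even.add_one (Nat.even_pow.mpr ⟨even_two, by omega⟩)
  refine end_false R (NSix.Norm.evenSet' (by omega) S' hε hp.star'.isLoc.le h0) hodd hn9 hl hι hij hzi ?_ hVl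
  rw [hzi]
  exact hNN i j hij

end Cfsg.Agent.Omega.IId.SymMany

end

section


/-!
# II.d: `WrSymMany K`

* `wrSymMany` : `Sym.WrSymMany K`;
* `wrSymBig` : `Sym.WrSymBig K`.
There is no configuration (`k = 2`, `m' ≥ 3` included).  No hypotheses.
-/

set_option autoImplicit false

namespace Cfsg.Agent.Omega.IId.SymMany

open Subgroup Cfsg Cfsg.Agent.ZN.ChoiceBase
open Cfsg.Agent.ZN (o2 zc zl)
open Cfsg.Agent.Omega.MinPar Cfsg.Agent.Omega.FFThm Cfsg.Agent.Omega.Frame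
open Cfsg.Agent.Omega.IId.Sym

universe u

/-- **`WrSymBig K`**: there is no configuration. -/
theorem wrSymBig {K : Cls.{u}} : WrSymBig K := by
  intro G _ _ S S' hH P P' hp F _ _ _ k m' M M' hk hm' hF hb
  exfalso
  rcases Nat.lt_or_ge 2 m' with h | h
  · exact three_false hH hp M M' hk h hF
  · obtain rfl : m' = 2 := by omega
    exact two_false hH hp M M' (by omega) hF

/-- **`WrSymMany K`** -/
theorem wrSymMany {K : Cls.{u}} : WrSymMany K := by
  intro G _ _ S S' hH P P' hp F _ _ _ k m' M M' hk hm' hF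
  exfalso
  rcases Nat.lt_or_ge 2 m' with h | h
  · exact three_false hH hp M M' (by omega) h hF
  · obtain rfl : m' = 2 := by omega
    exact two_false hH hp M M' hk hF

/-- the old form -/
theorem wrSymMany_of {K : Cls.{u}} (_ : NSix.HTwo.Main.Steps K) (_ : NO3S.SN.Two K) : WrSymMany K := wrSymMany

/-- the old form -/
theorem wrSymBig_of {K : Cls.{u}} (_ : NSix.HTwo.Main.Steps K) (_ : NO3S.SN.Two K) : WrSymBig K := wrSymBig

end Cfsg.Agent.Omega.IId.SymMany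

end

end

-- merged: Cfsg.Agent.Mrg.Omega.IId.Fin
section

/-!
# II.d: `LeafWr K`, `LeafSymWr K` from the sub-leaves which are still open (assembler: helper36)

`In K` lists the open Props of the node, for any class `K`; `In.wr'`, `In.symWr'`.  For `QK` (strongly quasithin)
`InQ`, `InQ.wr2'`, `InQ.symWr2'` need fewer.
-/

set_option autoImplicit false

namespace Cfsg.Agent.Omega.IId

open Subgroup Cfsg Cfsg.Agent.ZN.ChoiceBase
open Cfsg.Agent.ZN (o2 zc zl)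
open Cfsg.Agent.Omega.MinPar Cfsg.Agent.Omega.Frame Cfsg.Agent.Omega.FFThm Cfsg.Agent.Omega.FrameMulti
open Cfsg.Agent.Omega.SQT.Main (QK)

universe u

/-- `WrMain4N K` (helper441, helper400). -/
theorem wrMain4N (K : Cls.{u}) : Cv.WrMain4N K := by
  intro G _ _ S S' hH P P' hp F F' _ _ _ _ _ _ k' M M' hk' hk2 i hi hd h4
  obtain ⟨S₀, P₀, F₀, _, _, _, M₀, i₀, j₀, N, hN⟩ := FourSide.entry M4.mixedFalse hH hp M M' hk' hk2 hi hd h4
  exact ChainPlug.noTwoEnt K G S₀ P₀ F₀ M₀ i₀ j₀ N hN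

/-- **THEOREM C** (helper610; Lean: helper732, helper522, helper131, helper334 and others). -/
theorem thmC : ThmC.{u} := ThmC.Of.thmC_of fun _ _ _ _ => ThmC.stmt

/-- **`WrTwo K`**. -/
theorem wrTwo (K : Cls.{u}) : WrTwo K := wrTwo_of thmC K

/-- **`WrBigTwo K`** (THEOREM C; CASE 2: helper245; CASE 1: helper110, helper924, helper349 and others). -/
theorem wrBigTwo (K : Cls.{u}) : WrBigTwo K :=
  Big.wrBigTwo_of_all (fun _ _ _ => ThmC.stmt) Big.Syl.caseBN Big.unmTwo (Big.Syl.mixTwo K)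

/-- **`WrBigFour K`** (THEOREM C; CASE 1: helper43, helper400; CASE 2: helper873 and others). -/
theorem wrBigFour (K : Cls.{u}) : WrBigFour K :=
  BigFour.wrBigFour_of thmC (ChainPlug.noTwoEnt K) (ChainPlug.noBigEnt K) (BigFour.SylFour.caseTwo K)

/-- The open Props of `WrCvN` (helper958: `Cv/Cut.lean`; helper592: `Cv/SymPlug.lean`). -/
structure CvIn (K : Cls.{u}) : Prop where
  /-- LeafF4, several fixed points, without `NoWr` (helper816, helper257) -/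
  memH2 : F4Leaf.NoWrFree.MemH2 K
  nonsplit : Cv.CvNonsplit K
  /-- more than two factors (helper958: `CvBig/Cut.lean`) -/
  big : Cv.BigIn K

theorem cvOneA4 (K : Cls.{u}) : Cv.CvOneA4 K := Cv.cvOneA4_of ChainPlug.chainT Cv.idT

theorem cvTwoB (K : Cls.{u}) : Cv.CvTwoB K :=
  Cv.cvTwoB_of (Cv.cvTwoB2 HTwo.TSMain.ts0 HTwo.Seven.three0 HOneTwo.Trans.more0 HOneEnd.endL)
    (Cv.cvTwoB4 ChainPlug.chainT HOneEnd.endL)

theorem cvOne (K : Cls.{u}) : Cv.CvOne K :=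
  Cv.cvOne_of (Cv.cvOne2 HTwo.TSMain.ts0 HTwo.Seven.three0 HOneTwo.Trans.more0 HOneEnd.endL)
    (Cv.cvOne4 ChainPlug.chainT HOneEnd.endL Cv.dNe_lit)

/-- the exit into II.0h1, `q = 2` -/
theorem posExit : F4Leaf.Cen.Main.PosExit.{u} :=
  F4Leaf.Cen.Main.posExit_of HTwo.TSMain.ts0 HTwo.Seven.three0 HOneTwo.Trans.more0 HOneEnd.endL

theorem CvIn.symNat {K : Cls.{u}} (I : CvIn K) : Cv.CvSymNat K :=
  Cv.cvSymNat_of_unM (Cv.cvOneA2 K) (cvOneA4 K) (Cv.cvTwoA K) (cvTwoB K) (Cv.ttPair_of posExit I.memH2)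
    fun _ _ _ _ hH _ _ _ _ _ _ _ _ M i hk _ hD hu => Cv.unM_big I.big hH M hk (CvBig.hC_all M) i hD hu

theorem CvIn.cv {K : Cls.{u}} (I : CvIn K) (hSW : LeafSymWr K) : Cv.WrCvN K :=
  Cv.wrCvN_of' (Cv.cvSym_of hSW (Cv.cvSymOne_of I.symNat)) I.nonsplit
    (Cv.cvBigN_of CvBig.thmCD I.big (Cv.cvOneA2 K) (cvOneA4 K) (Cv.cvTwoA K) (cvTwoB K)) (Cv.cvLine K) (Cv.cvMix K)
    (Cv.cvOneA2 K) (cvOneA4 K) (Cv.cvTwoA K) (cvTwoB K) (cvOne K)

/-- The open Props of II.d. -/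
structure In (K : Cls.{u}) : Prop where
  cv : CvIn K
  swCv : SwCv K
  swBig : SwBig K

/-- **`LeafSymWr K`**. -/
theorem In.symWr' {K : Cls.{u}} (I : In K) : LeafSymWr K :=
  leafSymWr I.swCv I.swBig SwN.swNat0 (LFour.swTwo K) (LFour.swOne K)

/-- **`LeafWr K`**. -/
theorem In.wr' {K : Cls.{u}} (I : In K) : LeafWr K :=
  Cv.leafWrN (I.cv.cv I.symWr') (Sym.wrSym_of' I.symWr' SymMany.wrSymBig Pf.Main.noOne) (wrTwo K)
    (wrBig_of (wrBigTwo K) (wrBigFour K)) TriFalse.wrTri (wrMain2 Pf.Main.noOne) (wrMain4N K)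

/-- old interface -/
theorem In.symWr {K : Cls.{u}} (I : In K) (_hN2 : S5.Main.NodeN2 K) (_hTwo : NO3S.Two K) : LeafSymWr K := I.symWr'

/-- old interface -/
theorem In.wr {K : Cls.{u}} (I : In K) (_hN2 : S5.Main.NodeN2 K) (_hTwo : NO3S.Two K) : LeafWr K := I.wr'

/-! ### The strongly quasithin case -/

/-- The open Props of II.d for `QK`. -/
structure InQ : Prop where
  cv : CvIn QK.{u}
  swCv : SwCv QK.{u}

theorem InQ.symWr2' (I : InQ.{u}) : SQT.Multi.SymWr2.{u} :=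
  Strq.symWr2 I.swCv SwN.swNat0 (LFour.swTwo QK) (LFour.swOne QK)

theorem InQ.leafSymWr' (I : InQ.{u}) : LeafSymWr QK.{u} := SQT.Multi.leafSymWr I.symWr2'

theorem InQ.leafWr' (I : InQ.{u}) : LeafWr QK.{u} :=
  Cv.leafWrN (I.cv.cv I.leafSymWr') (Sym.wrSymQK' I.leafSymWr') Strq.wrTwo Strq.wrBig TriFalse.wrTri
    NoOne.wrMain2 (wrMain4N QK)

theorem InQ.wr2' (I : InQ.{u}) : SQT.Multi.Wr2.{u} := by
  intro G _ _ hG hq S hF hA hT P₁ P₂ x hm hN
  exact I.leafWr' G hG hq S hF hA hT P₁ P₂ x hm 2 le_rfl hN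

/-! the old interface -/

theorem InQ.symWr2 (I : InQ.{u}) (_hN2 : S5.Main.NodeN2 QK.{u}) (_hTwo : NO3S.Two QK.{u}) : SQT.Multi.SymWr2.{u} :=
  I.symWr2'

theorem InQ.leafSymWr (I : InQ.{u}) (_hN2 : S5.Main.NodeN2 QK.{u}) (_hTwo : NO3S.Two QK.{u}) : LeafSymWr QK.{u} :=
  I.leafSymWr'

theorem InQ.leafWr (I : InQ.{u}) (_hN2 : S5.Main.NodeN2 QK.{u}) (_hTwo : NO3S.Two QK.{u}) : LeafWr QK.{u} :=
  I.leafWr'

theorem InQ.wr2 (I : InQ.{u}) (_hN2 : S5.Main.NodeN2 QK.{u}) (_hTwo : NO3S.Two QK.{u}) : SQT.Multi.Wr2.{u} :=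
  I.wr2'

end Cfsg.Agent.Omega.IId

end
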