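import Cfsg.Agent.Mrg.Omega.IId.ThmJFull
import Cfsg.Agent.Mrg.Omega.TV.Sym
import Cfsg.Agent.Omega.NoFF.Basic
import Cfsg.Agent.ZN.Facts
import Cfsg.Agent.Mrg.Omega.IId.OneBase

-- merged: Cfsg.Agent.Mrg.Omega.IId.OrthB
section

/-!
# (B1) of II.d, case 1, `q = 2`: `N_p` is the orthogonal module

helper304 (helper478 #12430 (B1), helper895 #13722 USE), on THEOREM J and THEOREM TV.  If `[N_p, N_q] ≠ 1`
(`p ∈ V₁#`, `q ∈ V₂#` centralised by a Sylow 2-subgroup `T` of `C(p)` with `C_{N_p}(T) ≤ {1, p, q, pq}`),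
then `Qg (C(p)) q` is a quadratic form on `N_p` with radical `{1, p}` of the polar form and `C(p)`
induces all reflections in nonsingular vectors; every element of `N_q` acts on `N_p` trivially or as the
reflection in `pq`.
-/

set_option autoImplicit false

namespace Cfsg.Agent.Omega.IId.ThmJ

open Subgroup Cfsg Cfsg.Agent.ZN Cfsg.Agent.ZN.ChoiceBase Cfsg.Agent.Omega.TV

universe u

variable {G : Type u} [Group G]

/-- `[n, y] ∈ {1, p, q, pq}` for `n ∈ N_p`, `y ∈ N_q`. -/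
theorem Ctx.comm_cases [Finite G] {V₁ V₂ : Subgroup G} (h : Ctx V₁ V₂)
    (htr₁ : ∀ p ∈ V₁, p ≠ 1 → ∀ p' ∈ V₁, p' ≠ 1 →
      ∃ l ∈ centralizer (V₂ : Set G) ⊓ normalizer (V₁ : Set G), l * p' * l⁻¹ = p)
    (htr₂ : ∀ q ∈ V₂, q ≠ 1 → ∀ q' ∈ V₂, q' ≠ 1 →
      ∃ l ∈ centralizer (V₁ : Set G) ⊓ normalizer (V₂ : Set G), l * q' * l⁻¹ = q)
    {p q : G} (hp : p ∈ V₁) (hp1 : p ≠ 1) (hq : q ∈ V₂) (hq1 : q ≠ 1)
    {T : Subgroup G} (hTp : T ≤ CC p) (hT : IsPGroup 2 T) (hi : ¬ 2 ∣ T.relIndex (CC p))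
    (hTq : T ≤ CC q) {n y : G} (hn : n ∈ NN V₂ p) (hy : y ∈ NN V₁ q) :
    y * n * y⁻¹ = n ∨ y * n * y⁻¹ = n * p ∨ y * n * y⁻¹ = n * q ∨ y * n * y⁻¹ = n * (q * p) := by
  have hyp : y ∈ CC p := centralizer_le_CC hp (h.s2.NN_le_cent_two hq hq1 hy)
  have hnq : n ∈ CC q := centralizer_le_CC hq (h.s1.NN_le_cent_two hp hp1 hn)
  have e1 : y * n * y⁻¹ ∈ NN V₂ p := (mem_normalizer_iff.1 (CC_le_normalizer_NN V₂ p hyp) n).1 hn
  have e2 : n⁻¹ * y * n⁻¹⁻¹ ∈ NN V₁ q :=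
    (mem_normalizer_iff.1 (CC_le_normalizer_NN V₁ q (inv_mem hnq)) y).1 hy
  rw [inv_inv] at e2
  have h1 : n⁻¹ * (y * n * y⁻¹) ∈ NN V₂ p := mul_mem (inv_mem hn) e1
  have h2 : n⁻¹ * (y * n * y⁻¹) ∈ NN V₁ q := by
    have e : n⁻¹ * (y * n * y⁻¹) = (n⁻¹ * y * n) * y⁻¹ := by group
    rw [e]
    exact mul_mem e2 (inv_mem hy)
  have hpq : p * q = q * p :=
    EA.comm_of (h.s1.NN_sq h.s2 hp hp1) (h.s1.mem p hp hp1) (le_NN V₂ p hq)
  have key : ∀ x, n⁻¹ * (y * n * y⁻¹) = x → y * n * y⁻¹ = n * x := fun x hx => by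
    rw [← hx]; group
  rcases h.inter htr₁ htr₂ hp hp1 hq hq1 hTp hT hi hTq h1 h2 with e | e | e | e
  · left; rw [key _ e, mul_one]
  · exact Or.inr (Or.inl (key _ e))
  · exact Or.inr (Or.inr (Or.inl (key _ e)))
  · exact Or.inr (Or.inr (Or.inr (by rw [← hpq]; exact key _ e)))

/-- An element of `N_q` acting nontrivially on `N_p` gives the orthogonal structure, and acts as the
reflection in `q p`. -/
theorem Ctx.orth_of [Finite G] {V₁ V₂ : Subgroup G} (h : Ctx V₁ V₂)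
    (htr₁ : ∀ p ∈ V₁, p ≠ 1 → ∀ p' ∈ V₁, p' ≠ 1 →
      ∃ l ∈ centralizer (V₂ : Set G) ⊓ normalizer (V₁ : Set G), l * p' * l⁻¹ = p)
    (htr₂ : ∀ q ∈ V₂, q ≠ 1 → ∀ q' ∈ V₂, q' ≠ 1 →
      ∃ l ∈ centralizer (V₁ : Set G) ⊓ normalizer (V₂ : Set G), l * q' * l⁻¹ = q)
    {p q : G} (hp : p ∈ V₁) (hp1 : p ≠ 1) (hq : q ∈ V₂) (hq1 : q ≠ 1)
    {T : Subgroup G} (hTp : T ≤ CC p) (hT : IsPGroup 2 T) (hi : ¬ 2 ∣ T.relIndex (CC p))
    (hTq : T ≤ CC q)
    (hfix : ∀ n ∈ NN V₂ p, (∀ t ∈ T, t * n = n * t) → n = 1 ∨ n = p ∨ n = q ∨ n = p * q)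
    {y n : G} (hy : y ∈ NN V₁ q) (hn : n ∈ NN V₂ p) (hne : y * n * y⁻¹ ≠ n) :
    GOrth (CC p) (NN V₂ p) q p ∧ (∀ q' ∈ V₂, Bg (CC p) q q q' = 0) ∧ ∀ n ∈ NN V₂ p,
      (Bg (CC p) q q n = 0 ∧ y * n * y⁻¹ = n) ∨
        (Bg (CC p) q q n = 1 ∧ y * n * y⁻¹ = n * (q * p)) := by
  have hg := h.gsys hp hp1 hq hq1 htr₂ hTp hT hi hTq
  have hyp : y ∈ CC p := centralizer_le_CC hp (h.s2.NN_le_cent_two hq hq1 hy)
  have hyV : y ∈ centralizer (V₂ : Set G) := h.s2.NN_le_cent_one hq hq1 hy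
  have hyq : ∀ q' ∈ V₂, y * q' * y⁻¹ = q' := fun q' hq' => by
    rw [← mem_centralizer_iff.1 hyV q' hq']
    group
  have hpN : p ∈ NN V₂ p := h.s1.mem p hp hp1
  have hpq : p * q = q * p := EA.comm_of hg.sq hpN (le_NN V₂ p hq)
  have conj : ∀ q' ∈ V₂, q' ≠ 1 → ∃ g ∈ CC p, q' = g * q * g⁻¹ := by
    intro q' hq' hq1'
    obtain ⟨l, ⟨hl, -⟩, e⟩ := htr₂ q' hq' hq1' q hq hq1
    exact ⟨l, centralizer_le_CC hp hl, e.symm⟩
  obtain ⟨q₁, hq₁, hq₁1, hqq₁⟩ := four_exists h.s2.card q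
  have main := hg.gorth (T := T) (c := p) (p := q₁) (t := y) hTp hT hi hpN hp1
    (fun g hg' => by rw [← mem_CC.1 hg']; group)
    (fun t ht => by rw [← mem_CC.1 (hTq ht)]; group)
    (fun n hn hc => by
      rcases hfix n hn (fun t ht => by
        have := hc t ht
        rwa [mul_inv_eq_iff_eq_mul] at this) with e | e | e | e
      · exact Or.inl e
      · exact Or.inr (Or.inl e)
      · exact Or.inr (Or.inr (Or.inl e))
      · exact Or.inr (Or.inr (Or.inr (by rw [← hpq]; exact e))))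
    (conj q₁ hq₁ hq₁1) (conj (q * q₁) (mul_mem hq hq₁) (h.s2.third hq hqq₁)) hyp
    (fun n hn => h.comm_cases htr₁ htr₂ hp hp1 hq hq1 hTp hT hi hTq hn hy) ⟨n, hn, hne⟩ (hyq q₁ hq₁)
  obtain ⟨h1, -, h3⟩ := main
  refine ⟨h1, fun q' hq' => ?_, h3⟩
  rcases h3 q' (le_NN V₂ p hq') with ⟨e, -⟩ | ⟨-, e⟩
  · exact e
  · exfalso
    rw [hyq q' hq'] at e
    have e1 : q * p = 1 := by
      have := e.symm
      rwa [mul_eq_left] at this
    have e2 := h1.Qmulc hg.mem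
    rw [e1, Qg_one, Qg_self, zero_add] at e2
    exact zero_ne_one e2

/-- **(B1)**: if `[N_p, N_q] ≠ 1`, then `N_p` is the orthogonal module of `C(p)`, and every element of `N_q`
acts on it trivially or as the reflection in `q p`. -/
theorem Ctx.orth [Finite G] {V₁ V₂ : Subgroup G} (h : Ctx V₁ V₂)
    (htr₁ : ∀ p ∈ V₁, p ≠ 1 → ∀ p' ∈ V₁, p' ≠ 1 →
      ∃ l ∈ centralizer (V₂ : Set G) ⊓ normalizer (V₁ : Set G), l * p' * l⁻¹ = p)
    (htr₂ : ∀ q ∈ V₂, q ≠ 1 → ∀ q' ∈ V₂, q' ≠ 1 →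
      ∃ l ∈ centralizer (V₁ : Set G) ⊓ normalizer (V₂ : Set G), l * q' * l⁻¹ = q)
    {p q : G} (hp : p ∈ V₁) (hp1 : p ≠ 1) (hq : q ∈ V₂) (hq1 : q ≠ 1)
    {T : Subgroup G} (hTp : T ≤ CC p) (hT : IsPGroup 2 T) (hi : ¬ 2 ∣ T.relIndex (CC p))
    (hTq : T ≤ CC q)
    (hfix : ∀ n ∈ NN V₂ p, (∀ t ∈ T, t * n = n * t) → n = 1 ∨ n = p ∨ n = q ∨ n = p * q)
    (hne : ∃ n ∈ NN V₂ p, ∃ y ∈ NN V₁ q, n * y ≠ y * n) :
    GOrth (CC p) (NN V₂ p) q p ∧ (∀ q' ∈ V₂, Bg (CC p) q q q' = 0) ∧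
      (∀ y ∈ NN V₁ q, (∀ n ∈ NN V₂ p, y * n * y⁻¹ = n) ∨ ∀ n ∈ NN V₂ p,
        (Bg (CC p) q q n = 0 ∧ y * n * y⁻¹ = n) ∨
          (Bg (CC p) q q n = 1 ∧ y * n * y⁻¹ = n * (q * p))) := by
  obtain ⟨n₀, hn₀, y₀, hy₀, hne⟩ := hne
  have hne' : y₀ * n₀ * y₀⁻¹ ≠ n₀ := fun e => hne (by
    rw [mul_inv_eq_iff_eq_mul] at e
    exact e.symm)
  obtain ⟨h1, h2, -⟩ := h.orth_of htr₁ htr₂ hp hp1 hq hq1 hTp hT hi hTq hfix hy₀ hn₀ hne'
  refine ⟨h1, h2, fun y hy => ?_⟩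
  by_cases hc : ∀ n ∈ NN V₂ p, y * n * y⁻¹ = n
  · exact Or.inl hc
  · push Not at hc
    obtain ⟨n, hn, e⟩ := hc
    exact Or.inr (h.orth_of htr₁ htr₂ hp hp1 hq hq1 hTp hT hi hTq hfix hy hn e).2.2

end Cfsg.Agent.Omega.IId.ThmJ

end

-- merged: Cfsg.Agent.Mrg.Omega.IId.PlaneSy
section

section


/-!
# II.d, CASE 1, `q = 2`: symplectic systems (bb OMEGA #15930)

helper310.  `Sy M P Y B`: `P` elementary abelian, `B` an `M`-invariant alternating form with radical `Y`, `M`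
induces all transvections of `P / Y`.  `St M Y p` : the stabiliser of the point `pY`.

* `norm_trans` : a normal subgroup of `M` moving the point `pY` is transitive on the points;
* `perp_gen` : if `H ≥ St` moves `pY` to a perpendicular point then `M ≤ H`;
* `dc_np`, `dc_p` : `St` is transitive on the points perpendicular (not perpendicular) to `pY`;
* `pigeon` : three elements of `M ∖ St` lie in at most two double cosets of `St`.
-/

set_option autoImplicit false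

namespace Cfsg.Agent.Omega.IId.PlaneSy

open Subgroup

variable {G : Type*} [Group G]

/-- A symplectic system. -/
structure Sy (M P Y : Subgroup G) (B : G → G → ZMod 2) : Prop where
  sq : ∀ x ∈ P, x * x = 1
  nor : ∀ g ∈ M, ∀ x ∈ P, g * x * g⁻¹ ∈ P
  YP : Y ≤ P
  add : ∀ x ∈ P, ∀ y ∈ P, ∀ z ∈ P, B x (y * z) = B x y + B x z
  comm : ∀ x ∈ P, ∀ y ∈ P, B x y = B y x
  self : ∀ x ∈ P, B x x = 0
  inv : ∀ g ∈ M, ∀ x ∈ P, ∀ y ∈ P, B (g * x * g⁻¹) (g * y * g⁻¹) = B x y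
  zero : ∀ x ∈ Y, ∀ y ∈ P, B x y = 0
  rad : ∀ x ∈ P, (∀ y ∈ P, B x y = 0) → x ∈ Y
  tv : ∀ z ∈ P, z ∉ Y → ∃ z' ∈ P, z * z' ∈ Y ∧ ∃ g ∈ M, ∀ n ∈ P,
    (B z n = 0 ∧ g * n * g⁻¹ = n) ∨ (B z n = 1 ∧ g * n * g⁻¹ = n * z')

/-- An elementary abelian 2-group is commutative. -/
theorem comm_of_sq {P : Subgroup G} (h : ∀ x ∈ P, x * x = 1) {x y : G} (hx : x ∈ P) (hy : y ∈ P) : x * y = y * x := by
  have h1 : x * y = (x * y)⁻¹ := eq_inv_of_mul_eq_one_left (h _ (mul_mem hx hy))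
  have h2 : x⁻¹ = x := inv_eq_of_mul_eq_one_left (h x hx)
  have h3 : y⁻¹ = y := inv_eq_of_mul_eq_one_left (h y hy)
  rw [h1, mul_inv_rev, h2, h3]

theorem z2 (a : ZMod 2) : a = 0 ∨ a = 1 := by
  revert a; decide

theorem z2_self (a : ZMod 2) : a + a = 0 := by
  revert a; decide

namespace Sy

variable {M P Y : Subgroup G} {B : G → G → ZMod 2} (h : Sy M P Y B)
include h

theorem mc {x y : G} (hx : x ∈ P) (hy : y ∈ P) : x * y = y * x := comm_of_sq h.sq hx hy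

theorem iv {x : G} (hx : x ∈ P) : x⁻¹ = x := inv_eq_of_mul_eq_one_left (h.sq x hx)

theorem add_left {x y z : G} (hx : x ∈ P) (hy : y ∈ P) (hz : z ∈ P) : B (x * y) z = B x z + B y z := by
  rw [h.comm _ (mul_mem hx hy) _ hz, h.add z hz x hx y hy, h.comm z hz x hx, h.comm z hz y hy]

theorem one_right {x : G} (hx : x ∈ P) : B x 1 = 0 := by
  have := h.add x hx 1 P.one_mem 1 P.one_mem
  rw [one_mul, z2_self] at this
  exact this

theorem nor' {g x : G} (hg : g ∈ M) (hx : x ∈ P) : g⁻¹ * x * g ∈ P := by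
  have := h.nor _ (inv_mem hg) x hx
  rwa [inv_inv] at this

theorem inv_left {g x y : G} (hg : g ∈ M) (hx : x ∈ P) (hy : y ∈ P) : B (g * x * g⁻¹) y = B x (g⁻¹ * y * g) := by
  have e : y = g * (g⁻¹ * y * g) * g⁻¹ := by group
  conv_lhs => rw [e]
  rw [h.inv g hg x hx _ (h.nor' hg hy)]

theorem inv_right {g x y : G} (hg : g ∈ M) (hx : x ∈ P) (hy : y ∈ P) : B x (g * y * g⁻¹) = B (g⁻¹ * x * g) y := by
  rw [h.comm _ hx _ (h.nor g hg y hy), h.inv_left hg hy hx, h.comm _ hy _ (h.nor' hg hx)]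

/-- `M` normalises `Y`. -/
theorem norY {g y : G} (hg : g ∈ M) (hy : y ∈ Y) : g * y * g⁻¹ ∈ Y := by
  refine h.rad _ (h.nor g hg y (h.YP hy)) fun x hx => ?_
  rw [h.inv_left hg (h.YP hy) hx]
  exact h.zero y hy _ (h.nor' hg hx)

theorem norY' {g y : G} (hg : g ∈ M) (hy : y ∈ Y) : g⁻¹ * y * g ∈ Y := by
  have := h.norY (inv_mem hg) hy
  rwa [inv_inv] at this

/-- `x ≡ x'`: the forms agree. -/
theorem congr {x x' y : G} (hx : x ∈ P) (hx' : x' ∈ P) (hy : y ∈ P) (e : x * x' ∈ Y) : B x y = B x' y := by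
  have h1 := h.zero _ e y hy
  rw [h.add_left hx hx' hy] at h1
  rcases z2 (B x y) with h2 | h2 <;> rcases z2 (B x' y) with h3 | h3
  · rw [h2, h3]
  · rw [h2, h3] at h1; exact absurd h1 (by decide)
  · rw [h2, h3] at h1; exact absurd h1 (by decide)
  · rw [h2, h3]

theorem eqv_symm {x y : G} (hx : x ∈ P) (hy : y ∈ P) (e : x * y ∈ Y) : y * x ∈ Y := by
  rwa [← h.mc hx hy]

theorem eqv_trans {x y z : G} (hy : y ∈ P) (e : x * y ∈ Y) (e' : y * z ∈ Y) : x * z ∈ Y := by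
  have := mul_mem e e'
  have h1 : x * y * (y * z) = x * (y * y) * z := by group
  rwa [h1, h.sq y hy, mul_one] at this

theorem eqv_conj {g x y : G} (hg : g ∈ M) (e : x * y ∈ Y) : g * x * g⁻¹ * (g * y * g⁻¹) ∈ Y := by
  have := h.norY hg e
  have h1 : g * (x * y) * g⁻¹ = g * x * g⁻¹ * (g * y * g⁻¹) := by group
  rwa [h1] at this

/-- The step of the duality. -/
theorem radstep {Z : Subgroup G} (hZ : Z ≤ P) {b x : G} (hb : b ∈ P) (hx : x ∈ P)
    (hz : ∀ z ∈ Z, B b z = 0 → B x z = 0) : (∀ z ∈ Z, B x z = 0) ∨ (∀ z ∈ Z, B (x * b) z = 0) := by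
  by_cases hb0 : ∀ z ∈ Z, B b z = 0
  · exact Or.inl fun z hz' => hz z hz' (hb0 z hz')
  push Not at hb0
  obtain ⟨z₁, hz₁, hb₁⟩ := hb0
  have hb₁ : B b z₁ = 1 := (z2 _).resolve_left hb₁
  have key : ∀ z ∈ Z, B b z = 1 → B x z = B x z₁ := by
    intro z hz' hbz
    have h1 := hz (z * z₁) (mul_mem hz' hz₁) (by
      rw [h.add b hb z (hZ hz') z₁ (hZ hz₁), hbz, hb₁]; decide)
    rw [h.add x hx z (hZ hz') z₁ (hZ hz₁)] at h1
    rcases z2 (B x z) with h2 | h2 <;> rcases z2 (B x z₁) with h3 | h3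
    · rw [h2, h3]
    · rw [h2, h3] at h1; exact absurd h1 (by decide)
    · rw [h2, h3] at h1; exact absurd h1 (by decide)
    · rw [h2, h3]
  rcases z2 (B x z₁) with h2 | h2
  · left
    intro z hz'
    rcases z2 (B b z) with h3 | h3
    · exact hz z hz' h3
    · rw [key z hz' h3, h2]
  · right
    intro z hz'
    rw [h.add_left hx hb (hZ hz')]
    rcases z2 (B b z) with h3 | h3
    · rw [hz z hz' h3, h3, add_zero]
    · rw [key z hz' h3, h2, h3]; decide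

theorem sep1 {a : G} (ha : a ∈ P) (ha' : a ∉ Y) : ∃ z ∈ P, B a z = 1 := by
  by_contra hcon
  push Not at hcon
  exact ha' (h.rad a ha fun z hz => (z2 _).resolve_right (hcon z hz))

theorem sep2 {a b : G} (ha : a ∈ P) (hb : b ∈ P) (h1 : a ∉ Y) (h2 : a * b ∉ Y) :
    ∃ z ∈ P, B a z = 1 ∧ B b z = 0 := by
  by_contra hcon
  push Not at hcon
  rcases h.radstep le_rfl hb ha (fun z hz hbz => (z2 _).resolve_right fun e => hcon z hz e hbz) with h3 | h3
  · exact h1 (h.rad a ha h3)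
  · exact h2 (h.rad _ (mul_mem ha hb) h3)

/-- `b^⊥` -/
def pp {b : G} (hb : b ∈ P) : Subgroup G where
  carrier := {z | z ∈ P ∧ B b z = 0}
  one_mem' := ⟨P.one_mem, h.one_right hb⟩
  mul_mem' := by
    rintro x y ⟨hx, hx'⟩ ⟨hy, hy'⟩
    exact ⟨mul_mem hx hy, by rw [h.add b hb x hx y hy, hx', hy', add_zero]⟩
  inv_mem' := by
    rintro x ⟨hx, hx'⟩
    exact ⟨inv_mem hx, by rw [h.iv hx, hx']⟩

theorem sep3 {a b c : G} (ha : a ∈ P) (hb : b ∈ P) (hc : c ∈ P) (h1 : a ∉ Y) (h2 : a * b ∉ Y) (h3 : a * c ∉ Y)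
    (h4 : a * b * c ∉ Y) : ∃ z ∈ P, B a z = 1 ∧ B b z = 0 ∧ B c z = 0 := by
  by_contra hcon
  push Not at hcon
  rcases h.radstep (Z := h.pp hc) (fun z hz => hz.1) hb ha
    (fun z hz hbz => (z2 _).resolve_right fun e => hcon z hz.1 e hbz hz.2) with h5 | h5
  · rcases h.radstep le_rfl hc ha (fun z hz hcz => h5 z ⟨hz, hcz⟩) with h6 | h6
    · exact h1 (h.rad a ha h6)
    · exact h3 (h.rad _ (mul_mem ha hc) h6)
  · rcases h.radstep le_rfl hc (mul_mem ha hb) (fun z hz hcz => h5 z ⟨hz, hcz⟩) with h6 | h6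
    · exact h2 (h.rad _ (mul_mem ha hb) h6)
    · exact h4 (h.rad _ (mul_mem (mul_mem ha hb) hc) h6)

/-- two prescribed values -/
theorem val2 {a b : G} (ha : a ∈ P) (hb : b ∈ P) (h1 : a ∉ Y) (h2 : b ∉ Y) (h3 : a * b ∉ Y) (α β : ZMod 2) :
    ∃ z ∈ P, B a z = α ∧ B b z = β := by
  obtain ⟨u, hu, ua, ub⟩ := h.sep2 ha hb h1 h3
  obtain ⟨w, hw, wb, wa⟩ := h.sep2 hb ha h2 (by rwa [h.mc hb ha])
  rcases z2 α with rfl | rfl <;> rcases z2 β with rfl | rfl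
  · exact ⟨1, P.one_mem, h.one_right ha, h.one_right hb⟩
  · exact ⟨w, hw, wa, wb⟩
  · exact ⟨u, hu, ua, ub⟩
  · exact ⟨u * w, mul_mem hu hw, by rw [h.add a ha u hu w hw, ua, wa, add_zero],
      by rw [h.add b hb u hu w hw, ub, wb, zero_add]⟩

/-- three prescribed values -/
theorem val3 {a b c : G} (ha : a ∈ P) (hb : b ∈ P) (hc : c ∈ P) (h1 : a ∉ Y) (h2 : b ∉ Y) (h3 : c ∉ Y)
    (h4 : a * b ∉ Y) (h5 : a * c ∉ Y) (h6 : b * c ∉ Y) (h7 : a * b * c ∉ Y) (α β γ : ZMod 2) :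
    ∃ z ∈ P, B a z = α ∧ B b z = β ∧ B c z = γ := by
  obtain ⟨u, hu, ua, ub, uc⟩ := h.sep3 ha hb hc h1 h4 h5 h7
  have e1 : b * a * c = a * b * c := by rw [h.mc hb ha]
  have e2 : b * c * a = a * b * c := by rw [h.mc (mul_mem hb hc) ha, mul_assoc]
  obtain ⟨w, hw, wb, wc, wa⟩ := h.sep3 hb hc ha h2 h6 (by rwa [h.mc hb ha]) (by rwa [e2])
  have e3 : c * a * b = a * b * c := by rw [mul_assoc, h.mc hc (mul_mem ha hb)]
  obtain ⟨x, hx, xc, xa, xb⟩ := h.sep3 hc ha hb h3 (by rwa [h.mc hc ha]) (by rwa [h.mc hc hb]) (by rwa [e3])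
  have step : ∀ (ε : ZMod 2) (t : G), t ∈ P → ∃ t' ∈ P, ∀ y ∈ P, B y t' = ε * B y t := by
    intro ε t ht
    rcases z2 ε with rfl | rfl
    · exact ⟨1, P.one_mem, fun y hy => by rw [h.one_right hy, zero_mul]⟩
    · exact ⟨t, ht, fun y hy => by rw [one_mul]⟩
  obtain ⟨u', hu', e4⟩ := step α u hu
  obtain ⟨w', hw', e5⟩ := step β w hw
  obtain ⟨x', hx', e6⟩ := step γ x hx
  have add3 : ∀ y ∈ P, B y (u' * w' * x') = α * B y u + β * B y w + γ * B y x := by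
    intro y hy
    rw [h.add y hy _ (mul_mem hu' hw') _ hx', h.add y hy _ hu' _ hw', e4 y hy, e5 y hy, e6 y hy]
  refine ⟨u' * w' * x', mul_mem (mul_mem hu' hw') hx', ?_, ?_, ?_⟩
  · rw [add3 a ha, ua, wa, xa]; ring
  · rw [add3 b hb, ub, wb, xb]; ring
  · rw [add3 c hc, uc, wc, xc]; ring

theorem not_mem_of {a z : G} (hz : z ∈ P) (e : B a z = 1) : a ∉ Y := fun ha => by
  have := h.zero a ha z hz
  rw [e] at this
  exact one_ne_zero this

/-- one transvection: `q₁ → q₂` fixing `p` -/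
theorem tr {q₁ q₂ : G} (h1 : q₁ ∈ P) (h2 : q₂ ∈ P) (h12 : B q₁ q₂ = 1) :
    ∃ g ∈ M, (∀ p ∈ P, B p q₁ = B p q₂ → g * p * g⁻¹ = p) ∧ g * q₁ * g⁻¹ * q₂ ∈ Y := by
  have hz : q₁ * q₂ ∈ P := mul_mem h1 h2
  have hzB : B (q₁ * q₂) q₁ = 1 := by
    rw [h.add_left h1 h2 h1, h.self _ h1, h.comm _ h2 _ h1, h12, zero_add]
  obtain ⟨z', hz', hzz, g, hg, hgn⟩ := h.tv _ hz (h.not_mem_of h1 hzB)
  refine ⟨g, hg, fun p hp e => ?_, ?_⟩
  · rcases hgn p hp with ⟨-, h3⟩ | ⟨h3, -⟩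
    · exact h3
    · rw [h.add_left h1 h2 hp, h.comm _ h1 _ hp, h.comm _ h2 _ hp, e, z2_self] at h3
      exact absurd h3 (by decide)
  · rcases hgn q₁ h1 with ⟨h3, -⟩ | ⟨-, h3⟩
    · rw [hzB] at h3; exact absurd h3 (by decide)
    · rw [h3]
      have e : q₁ * z' * q₂ = q₁ * q₂ * z' := by rw [mul_assoc, h.mc hz' h2, mul_assoc]
      rwa [e]

/-- two transvections -/
theorem tr2 {q₁ q₂ q₃ : G} (h1 : q₁ ∈ P) (h2 : q₂ ∈ P) (h3 : q₃ ∈ P) (h13 : B q₁ q₃ = 1) (h23 : B q₂ q₃ = 1) :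
    ∃ g ∈ M, (∀ p ∈ P, B p q₁ = B p q₃ → B p q₂ = B p q₃ → g * p * g⁻¹ = p) ∧ g * q₁ * g⁻¹ * q₂ ∈ Y := by
  obtain ⟨g, hg, g1, g2⟩ := h.tr h1 h3 h13
  obtain ⟨k, hk, k1, k2⟩ := h.tr h3 h2 (by rw [h.comm _ h3 _ h2]; exact h23)
  refine ⟨k * g, mul_mem hk hg, fun p hp e1 e2 => ?_, ?_⟩
  · have e : k * g * p * (k * g)⁻¹ = k * (g * p * g⁻¹) * k⁻¹ := by group
    rw [e, g1 p hp e1]
    exact k1 p hp e2.symm
  · have e : k * g * q₁ * (k * g)⁻¹ = k * (g * q₁ * g⁻¹) * k⁻¹ := by group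
    rw [e]
    exact h.eqv_trans (h.nor k hk q₃ h3) (h.eqv_conj hk g2) k2

/-- `M_p` is transitive on the points not perpendicular to `p`. -/
theorem trans_np {p q₁ q₂ : G} (hp : p ∈ P) (h1 : q₁ ∈ P) (h2 : q₂ ∈ P) (hp1 : B p q₁ = 1) (hp2 : B p q₂ = 1) :
    ∃ g ∈ M, g * p * g⁻¹ = p ∧ g * q₁ * g⁻¹ * q₂ ∈ Y := by
  rcases z2 (B q₁ q₂) with h12 | h12
  · by_cases hY : q₁ * q₂ ∈ Y
    · exact ⟨1, M.one_mem, by group, by simpa using hY⟩
    have n1 : p ∉ Y := h.not_mem_of h1 hp1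
    have n2 : q₁ ∉ Y := h.not_mem_of hp (by rw [h.comm _ h1 _ hp]; exact hp1)
    have n3 : q₂ ∉ Y := h.not_mem_of hp (by rw [h.comm _ h2 _ hp]; exact hp2)
    have n4 : p * q₁ ∉ Y := h.not_mem_of h1 (by rw [h.add_left hp h1 h1, hp1, h.self _ h1, add_zero])
    have n5 : p * q₂ ∉ Y := h.not_mem_of h2 (by rw [h.add_left hp h2 h2, hp2, h.self _ h2, add_zero])
    have n6 : p * q₁ * q₂ ∉ Y := h.not_mem_of h1 (by
      rw [h.add_left (mul_mem hp h1) h2 h1, h.add_left hp h1 h1, hp1, h.self _ h1, h.comm _ h2 _ h1, h12]; decide)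
    obtain ⟨q₃, h3, e1, e2, e3⟩ := h.val3 hp h1 h2 n1 n2 n3 n4 n5 hY n6 1 1 1
    obtain ⟨g, hg, g1, g2⟩ := h.tr2 h1 h2 h3 e2 e3
    exact ⟨g, hg, g1 p hp (by rw [hp1, e1]) (by rw [hp2, e1]), g2⟩
  · obtain ⟨g, hg, g1, g2⟩ := h.tr h1 h2 h12
    exact ⟨g, hg, g1 p hp (by rw [hp1, hp2]), g2⟩

/-- `M_p` is transitive on the points perpendicular to `p`. -/
theorem trans_p {p q₁ q₂ : G} (hp : p ∈ P) (h1 : q₁ ∈ P) (h2 : q₂ ∈ P) (hp1 : B p q₁ = 0) (hp2 : B p q₂ = 0)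
    (np : p ∉ Y) (n1 : q₁ ∉ Y) (n2 : q₂ ∉ Y) (m1 : p * q₁ ∉ Y) (m2 : p * q₂ ∉ Y) :
    ∃ g ∈ M, g * p * g⁻¹ = p ∧ g * q₁ * g⁻¹ * q₂ ∈ Y := by
  rcases z2 (B q₁ q₂) with h12 | h12
  · by_cases hY : q₁ * q₂ ∈ Y
    · exact ⟨1, M.one_mem, by group, by simpa using hY⟩
    obtain ⟨q₃, h3, e1, e2, e3⟩ : ∃ q₃ ∈ P, B p q₃ = 0 ∧ B q₁ q₃ = 1 ∧ B q₂ q₃ = 1 := by
      by_cases n6 : p * q₁ * q₂ ∈ Y
      · obtain ⟨q₃, h3, e1, e2⟩ := h.val2 hp h1 np n1 m1 0 1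
        refine ⟨q₃, h3, e1, e2, ?_⟩
        have e4 := h.zero _ n6 q₃ h3
        rw [h.add_left (mul_mem hp h1) h2 h3, h.add_left hp h1 h3, e1, e2] at e4
        rcases z2 (B q₂ q₃) with h5 | h5
        · rw [h5] at e4; exact absurd e4 (by decide)
        · exact h5
      · exact h.val3 hp h1 h2 np n1 n2 m1 m2 hY n6 0 1 1
    obtain ⟨g, hg, g1, g2⟩ := h.tr2 h1 h2 h3 e2 e3
    exact ⟨g, hg, g1 p hp (by rw [hp1, e1]) (by rw [hp2, e1]), g2⟩
  · obtain ⟨g, hg, g1, g2⟩ := h.tr h1 h2 h12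
    exact ⟨g, hg, g1 p hp (by rw [hp1, hp2]), g2⟩

/-- A normal subgroup moving `pY` contains `k` with `p`, `kp` not perpendicular. -/
theorem norm_np {K : Subgroup G} (hK : K ≤ M) (hn : ∀ m ∈ M, ∀ k ∈ K, m * k * m⁻¹ ∈ K) {p k : G} (hp : p ∈ P)
    (np : p ∉ Y) (hk : k ∈ K) (hkp : k * p * k⁻¹ * p ∉ Y) : ∃ g ∈ K, B p (g * p * g⁻¹) = 1 := by
  have hkM := hK hk
  have hp2 : k⁻¹ * p * k ∈ P := h.nor' hkM hp
  have n2 : k⁻¹ * p * k ∉ Y := fun e => np (by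
    have := h.norY hkM e
    have e2 : k * (k⁻¹ * p * k) * k⁻¹ = p := by group
    rwa [e2] at this)
  have n3 : p * (k⁻¹ * p * k) ∉ Y := fun e => hkp (by
    have := h.norY hkM e
    have e2 : k * (p * (k⁻¹ * p * k)) * k⁻¹ = k * p * k⁻¹ * p := by group
    rwa [e2] at this)
  obtain ⟨a, ha, e1, e2⟩ := h.val2 hp hp2 np n2 n3 1 0
  rw [h.comm _ hp _ ha] at e1
  rw [h.comm _ hp2 _ ha] at e2
  obtain ⟨a', ha', haa, g, hg, hgn⟩ := h.tv a ha (h.not_mem_of hp e1)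
  have hB : ∀ y ∈ P, B a' y = B a y := fun y hy => (h.congr ha ha' hy haa).symm
  -- `g` fixes `a'`, `p₂`
  have ga : g * a' * g⁻¹ = a' := by
    rcases hgn a' ha' with ⟨-, h3⟩ | ⟨h3, -⟩
    · exact h3
    · rw [h.comm _ ha _ ha', hB a ha, h.self a ha] at h3; exact absurd h3 (by decide)
  have gp : g * p * g⁻¹ = p * a' := by
    rcases hgn p hp with ⟨h3, -⟩ | ⟨-, h3⟩
    · rw [e1] at h3; exact absurd h3 (by decide)
    · exact h3
  have gp' : g⁻¹ * p * g = p * a' := by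
    have e3 : g * (p * a') * g⁻¹ = p := by
      have e4 : g * (p * a') * g⁻¹ = g * p * g⁻¹ * (g * a' * g⁻¹) := by group
      rw [e4, gp, ga, mul_assoc, h.sq a' ha', mul_one]
    calc g⁻¹ * p * g = g⁻¹ * (g * (p * a') * g⁻¹) * g := by rw [e3]
      _ = p * a' := by group
  have gp2 : g * (k⁻¹ * p * k) * g⁻¹ = k⁻¹ * p * k := by
    rcases hgn _ hp2 with ⟨-, h3⟩ | ⟨h3, -⟩
    · exact h3
    · rw [e2] at h3; exact absurd h3 (by decide)
  have ha2 : k⁻¹ * a' * k ∈ P := h.nor' hkM ha'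
  -- the commutator
  refine ⟨k * (g * k⁻¹ * g⁻¹), mul_mem hk (hn g hg _ (inv_mem hk)), ?_⟩
  have e5 : k * (g * k⁻¹ * g⁻¹) * p * (k * (g * k⁻¹ * g⁻¹))⁻¹ =
      k * (g * (k⁻¹ * (g⁻¹ * p * g) * k) * g⁻¹) * k⁻¹ := by group
  have e6 : k⁻¹ * (p * a') * k = (k⁻¹ * p * k) * (k⁻¹ * a' * k) := by group
  have e7 : g * ((k⁻¹ * p * k) * (k⁻¹ * a' * k)) * g⁻¹ =
      g * (k⁻¹ * p * k) * g⁻¹ * (g * (k⁻¹ * a' * k) * g⁻¹) := by group
  rw [e5, gp', e6, e7, gp2]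
  rcases hgn _ ha2 with ⟨-, h3⟩ | ⟨-, h3⟩
  · rw [h3]
    have e8 : k * (k⁻¹ * p * k * (k⁻¹ * a' * k)) * k⁻¹ = p * a' := by group
    rw [e8, h.add p hp p hp a' ha', h.self p hp, h.comm _ hp _ ha', hB p hp, e1, zero_add]
  · rw [h3]
    have e8 : k * (k⁻¹ * p * k * (k⁻¹ * a' * k * a')) * k⁻¹ = p * (a' * (k * a' * k⁻¹)) := by group
    rw [e8, h.add p hp p hp _ (mul_mem ha' (h.nor k hkM a' ha')), h.self p hp,
      h.add p hp a' ha' _ (h.nor k hkM a' ha'), h.comm _ hp _ ha', hB p hp, e1, h.inv_right hkM hp ha',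
      h.comm _ hp2 _ ha', hB _ hp2, e2]
    decide

/-- A normal subgroup moving the point `pY` is transitive on the points. -/
theorem norm_trans {K : Subgroup G} (hK : K ≤ M) (hn : ∀ m ∈ M, ∀ k ∈ K, m * k * m⁻¹ ∈ K) {p k : G} (hp : p ∈ P)
    (np : p ∉ Y) (hk : k ∈ K) (hkp : k * p * k⁻¹ * p ∉ Y) {q : G} (hq : q ∈ P) (nq : q ∉ Y) :
    ∃ g ∈ K, g * p * g⁻¹ * q ∈ Y := by
  obtain ⟨k₁, hk₁, e1⟩ := h.norm_np hK hn hp np hk hkp
  -- the step
  have step : ∀ k₂ ∈ K, ∀ o ∈ P, ∀ q ∈ P, k₂ * p * k₂⁻¹ * o ∈ Y → B o q = 1 → ∃ g ∈ K, g * p * g⁻¹ * q ∈ Y := by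
    intro k₂ hk₂ o ho q hq eo eq
    have hkp2 : k₂ * p * k₂⁻¹ ∈ P := h.nor k₂ (hK hk₂) p hp
    have e2 : B p (k₂⁻¹ * q * k₂) = 1 := by
      rw [← h.inv_left (hK hk₂) hp hq, h.congr hkp2 ho hq eo, eq]
    obtain ⟨g, hg, g1, g2⟩ := h.trans_np hp (h.nor k₁ (hK hk₁) p hp) (h.nor' (hK hk₂) hq) e1 e2
    refine ⟨k₂ * (g * k₁ * g⁻¹), mul_mem hk₂ (hn g hg k₁ hk₁), ?_⟩
    have e3 : k₂ * (g * k₁ * g⁻¹) * p * (k₂ * (g * k₁ * g⁻¹))⁻¹ * q =
        k₂ * ((g * (k₁ * (g⁻¹ * p * g) * k₁⁻¹) * g⁻¹) * (k₂⁻¹ * q * k₂)) * k₂⁻¹ := by group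
    have e4 : g⁻¹ * p * g = p := by
      calc g⁻¹ * p * g = g⁻¹ * (g * p * g⁻¹) * g := by rw [g1]
        _ = p := by group
    rw [e3, e4]
    exact h.norY (hK hk₂) g2
  have pY : p * p ∈ Y := by rw [h.sq p hp]; exact one_mem _
  rcases z2 (B p q) with e2 | e2
  · by_cases hpq : p * q ∈ Y
    · exact ⟨1, one_mem _, by simpa using hpq⟩
    · obtain ⟨r, hr, r1, r2⟩ := h.val2 hp hq np nq hpq 1 1
      obtain ⟨g, hg, hgr⟩ := step 1 (one_mem _) p hp r hr (by simpa using pY) r1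
      exact step g hg r hr q hq hgr (by rw [h.comm _ hr _ hq]; exact r2)
  · exact step 1 (one_mem _) p hp q hq (by simpa using pY) e2

/-- A subgroup containing the stabiliser of `pY` and moving `pY` to a perpendicular point contains `M`. -/
theorem perp_gen {H : Subgroup G} {p k : G} (hp : p ∈ P) (np : p ∉ Y)
    (hst : ∀ g ∈ M, g * p * g⁻¹ * p ∈ Y → g ∈ H) (hk : k ∈ H) (hkM : k ∈ M) (hB : B p (k * p * k⁻¹) = 0)
    (hne : p * (k * p * k⁻¹) ∉ Y) : M ≤ H := by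
  set u := k * p * k⁻¹ with hu
  have huP : u ∈ P := h.nor k hkM p hp
  have nu : u ∉ Y := fun e => np (by
    have := h.norY' hkM e
    have e2 : k⁻¹ * u * k = p := by rw [hu]; group
    rwa [e2] at this)
  have step : ∀ g₂ ∈ H, g₂ ∈ M → ∀ o ∈ P, ∀ q ∈ P, q ∉ Y → g₂ * p * g₂⁻¹ * o ∈ Y → B o q = 0 → o * q ∉ Y →
      ∃ g ∈ H, g ∈ M ∧ g * p * g⁻¹ * q ∈ Y := by
    intro g₂ hg₂ hg₂M o ho q hq nq eo eq noq
    have hgp : g₂ * p * g₂⁻¹ ∈ P := h.nor g₂ hg₂M p hp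
    have e2 : B p (g₂⁻¹ * q * g₂) = 0 := by
      rw [← h.inv_left hg₂M hp hq, h.congr hgp ho hq eo, eq]
    have n1 : g₂⁻¹ * q * g₂ ∉ Y := fun e => nq (by
      have := h.norY hg₂M e
      have e3 : g₂ * (g₂⁻¹ * q * g₂) * g₂⁻¹ = q := by group
      rwa [e3] at this)
    have n2 : p * (g₂⁻¹ * q * g₂) ∉ Y := fun e => noq (by
      have := h.norY hg₂M e
      have e3 : g₂ * (p * (g₂⁻¹ * q * g₂)) * g₂⁻¹ = g₂ * p * g₂⁻¹ * q := by group
      rw [e3] at this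
      exact h.eqv_trans hgp (h.eqv_symm hgp ho eo) this)
    obtain ⟨g, hg, g1, g2⟩ := h.trans_p hp huP (h.nor' hg₂M hq) hB e2 np nu n1 hne n2
    have hgH : g ∈ H := hst g hg (by rw [g1, h.sq p hp]; exact one_mem _)
    refine ⟨g₂ * g * k, mul_mem (mul_mem hg₂ hgH) hk, mul_mem (mul_mem hg₂M hg) hkM, ?_⟩
    have e3 : g₂ * g * k * p * (g₂ * g * k)⁻¹ * q =
        g₂ * ((g * (k * p * k⁻¹) * g⁻¹) * (g₂⁻¹ * q * g₂)) * g₂⁻¹ := by group
    rw [e3]
    exact h.norY hg₂M g2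
  have pY : p * p ∈ Y := by rw [h.sq p hp]; exact one_mem _
  have key : ∀ q ∈ P, q ∉ Y → ∃ g ∈ H, g ∈ M ∧ g * p * g⁻¹ * q ∈ Y := by
    intro q hq nq
    by_cases hpq : p * q ∈ Y
    · exact ⟨1, one_mem _, one_mem _, by simpa using hpq⟩
    rcases z2 (B p q) with e2 | e2
    · exact step 1 (one_mem _) (one_mem _) p hp q hq nq (by simpa using pY) e2 hpq
    · -- the common neighbour
      obtain ⟨r, hr, nr, r1, r2, r3⟩ : ∃ r ∈ P, r ∉ Y ∧ B p r = 0 ∧ B r q = 0 ∧ p * r ∉ Y := by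
        rcases z2 (B u q) with e3 | e3
        · exact ⟨u, huP, nu, hB, e3, hne⟩
        · refine ⟨u * p, mul_mem huP hp, ?_, ?_, ?_, ?_⟩
          · rwa [h.mc huP hp]
          · rw [h.add p hp u huP p hp, hB, h.self p hp, add_zero]
          · rw [h.add_left huP hp hq, e3, e2]; decide
          · have e4 : p * (u * p) = u * (p * p) := by rw [← mul_assoc, h.mc hp huP, mul_assoc]
            rw [e4, h.sq p hp, mul_one]
            exact nu
      obtain ⟨g, hg, hgM, hgr⟩ := step 1 (one_mem _) (one_mem _) p hp r hr nr (by simpa using pY) r1 r3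
      refine step g hg hgM r hr q hq nq hgr r2 fun e => ?_
      have e4 := h.zero _ e p hp
      rw [h.add_left hr hq hp, h.comm _ hr _ hp, r1, h.comm _ hq _ hp, e2] at e4
      exact absurd e4 (by decide)
  intro c hc
  have hcp : c * p * c⁻¹ ∈ P := h.nor c hc p hp
  have nc : c * p * c⁻¹ ∉ Y := fun e => np (by
    have := h.norY' hc e
    have e2 : c⁻¹ * (c * p * c⁻¹) * c = p := by group
    rwa [e2] at this)
  obtain ⟨g, hg, hgM, e⟩ := key _ hcp nc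
  have h1 : g⁻¹ * c ∈ H := by
    refine hst _ (mul_mem (inv_mem hgM) hc) ?_
    have h2 := h.norY' hgM (h.eqv_symm (h.nor g hgM p hp) hcp e)
    have e2 : g⁻¹ * (c * p * c⁻¹ * (g * p * g⁻¹)) * g = g⁻¹ * c * p * (g⁻¹ * c)⁻¹ * p := by group
    rwa [e2] at h2
  have e2 : c = g * (g⁻¹ * c) := by group
  rw [e2]
  exact mul_mem hg h1

/-! ### double cosets -/

/-- `m' = a m b` -/
def DC (M Y : Subgroup G) (p m m' : G) : Prop :=
  ∃ a ∈ M, ∃ b ∈ M, a * p * a⁻¹ * p ∈ Y ∧ b * p * b⁻¹ * p ∈ Y ∧ m' = a * m * b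

theorem dc_of {p m m' g : G} (hp : p ∈ P) (hm : m ∈ M) (hm' : m' ∈ M) (hg : g ∈ M) (g1 : g * p * g⁻¹ = p)
    (g2 : g * (m * p * m⁻¹) * g⁻¹ * (m' * p * m'⁻¹) ∈ Y) : DC M Y p m m' := by
  refine ⟨g, hg, m⁻¹ * g⁻¹ * m', mul_mem (mul_mem (inv_mem hm) (inv_mem hg)) hm', ?_, ?_, by group⟩
  · rw [g1, h.sq p hp]; exact one_mem _
  · have h1 := h.norY' (mul_mem hg hm) g2
    have hgm : g * (m * p * m⁻¹) * g⁻¹ ∈ P := h.nor g hg _ (h.nor m hm p hp)
    have e1 : (g * m)⁻¹ * (g * (m * p * m⁻¹) * g⁻¹ * (m' * p * m'⁻¹)) * (g * m) =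
        p * (m⁻¹ * g⁻¹ * m' * p * (m⁻¹ * g⁻¹ * m')⁻¹) := by group
    rw [e1] at h1
    exact h.eqv_symm hp (h.nor _ (mul_mem (mul_mem (inv_mem hm) (inv_mem hg)) hm') p hp) h1

theorem dc_np {p m m' : G} (hp : p ∈ P) (hm : m ∈ M) (hm' : m' ∈ M) (h1 : B p (m * p * m⁻¹) = 1)
    (h2 : B p (m' * p * m'⁻¹) = 1) : DC M Y p m m' := by
  obtain ⟨g, hg, g1, g2⟩ := h.trans_np hp (h.nor m hm p hp) (h.nor m' hm' p hp) h1 h2
  exact h.dc_of hp hm hm' hg g1 g2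

theorem dc_p {p m m' : G} (hp : p ∈ P) (np : p ∉ Y) (hm : m ∈ M) (hm' : m' ∈ M) (h1 : B p (m * p * m⁻¹) = 0)
    (h2 : B p (m' * p * m'⁻¹) = 0) (n1 : p * (m * p * m⁻¹) ∉ Y) (n2 : p * (m' * p * m'⁻¹) ∉ Y) : DC M Y p m m' := by
  have nn : ∀ c ∈ M, c * p * c⁻¹ ∉ Y := fun c hc e => np (by
    have := h.norY' hc e
    have e2 : c⁻¹ * (c * p * c⁻¹) * c = p := by group
    rwa [e2] at this)
  obtain ⟨g, hg, g1, g2⟩ := h.trans_p hp (h.nor m hm p hp) (h.nor m' hm' p hp) h1 h2 np (nn m hm) (nn m' hm') n1 n2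
  exact h.dc_of hp hm hm' hg g1 g2

/-- Three elements outside the stabiliser of `pY`: two of them lie in the same double coset. -/
theorem pigeon {p m₁ m₂ m₃ : G} (hp : p ∈ P) (np : p ∉ Y) (h1 : m₁ ∈ M) (h2 : m₂ ∈ M) (h3 : m₃ ∈ M)
    (n1 : m₁ * p * m₁⁻¹ * p ∉ Y) (n2 : m₂ * p * m₂⁻¹ * p ∉ Y) (n3 : m₃ * p * m₃⁻¹ * p ∉ Y) :
    DC M Y p m₁ m₂ ∨ DC M Y p m₁ m₃ ∨ DC M Y p m₂ m₃ := by
  have sw : ∀ m ∈ M, m * p * m⁻¹ * p ∉ Y → p * (m * p * m⁻¹) ∉ Y := fun m hm hn e =>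
    hn (h.eqv_symm hp (h.nor m hm p hp) e)
  rcases z2 (B p (m₁ * p * m₁⁻¹)) with e1 | e1 <;> rcases z2 (B p (m₂ * p * m₂⁻¹)) with e2 | e2 <;>
    rcases z2 (B p (m₃ * p * m₃⁻¹)) with e3 | e3
  · exact Or.inl (h.dc_p hp np h1 h2 e1 e2 (sw _ h1 n1) (sw _ h2 n2))
  · exact Or.inl (h.dc_p hp np h1 h2 e1 e2 (sw _ h1 n1) (sw _ h2 n2))
  · exact Or.inr (Or.inl (h.dc_p hp np h1 h3 e1 e3 (sw _ h1 n1) (sw _ h3 n3)))
  · exact Or.inr (Or.inr (h.dc_np hp h2 h3 e2 e3))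
  · exact Or.inr (Or.inr (h.dc_p hp np h2 h3 e2 e3 (sw _ h2 n2) (sw _ h3 n3)))
  · exact Or.inr (Or.inl (h.dc_np hp h1 h3 e1 e3))
  · exact Or.inl (h.dc_np hp h1 h2 e1 e2)
  · exact Or.inl (h.dc_np hp h1 h2 e1 e2)

end Sy

end Cfsg.Agent.Omega.IId.PlaneSy

end

section


/-!
# II.d, CASE 1, `q = 2`: the groups `N_p`, `p ∈ V₁#` (#13722 (0), (1); #14451 (a), (b), (c))

`Side V W N v v' w l`: `V = {1, v, v', vv'}` (`V₁`), `W` (`V₂`), `N` (`N₁ = ⟨W^{C(v)}⟩`) an elementary abelian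
normal subgroup of `C_G(v)` containing `W` and `v`, centralising `V`; `l` (in `L₁`) normalises `V`, centralises
`W` and maps `v` to `v'`; `w ∈ O₂(C_G(v))` centralises `N` and maps `v'` to `vv'`, `[O₂(C_G(v)), w] ≤ ⟨v⟩`.
-/

set_option autoImplicit false

namespace Cfsg.Agent.Omega.IId.SpSide

open Subgroup Cfsg.Agent.Omega.NoFF.Basic Cfsg Cfsg.Agent.ZN
open scoped Pointwise

variable {G : Type*} [Group G]

/-- `K ≤ H` of index at most 2. -/
theorem card_le_two_mul [Finite G] {K H : Subgroup G}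
    (h : ∀ x ∈ H, ∀ y ∈ H, x ∉ K → y ∉ K → x⁻¹ * y ∈ K) : Nat.card H ≤ 2 * Nat.card (K ⊓ H : Subgroup G) := by
  have e1 : Nat.card H = (H : Set G).ncard := Nat.card_coe_set_eq _
  have e2 : Nat.card (K ⊓ H : Subgroup G) = ((K ⊓ H : Subgroup G) : Set G).ncard := Nat.card_coe_set_eq _
  rw [e1, e2]
  by_cases hH : ∀ x ∈ H, x ∈ K
  · have : K ⊓ H = H := inf_eq_right.2 hH
    rw [this]
    omega
  · push Not at hH
    obtain ⟨a, ha, haK⟩ := hH
    have h1 : (H : Set G) ⊆ ((K ⊓ H : Subgroup G) : Set G) ∪ (fun x => a * x) '' ((K ⊓ H : Subgroup G) : Set G) := by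
      intro x hx
      by_cases hxK : x ∈ K
      · exact Or.inl ⟨hxK, hx⟩
      · exact Or.inr ⟨a⁻¹ * x, ⟨h a ha x hx haK hxK, H.mul_mem (H.inv_mem ha) hx⟩, by simp⟩
    refine (Set.ncard_le_ncard h1 (Set.toFinite _)).trans ((Set.ncard_union_le _ _).trans ?_)
    have := Set.ncard_image_le (f := fun x => a * x) (Set.toFinite ((K ⊓ H : Subgroup G) : Set G))
    omega

theorem mem_centralizer_singleton {v g : G} : g ∈ centralizer ({v} : Set G) ↔ g * v = v * g := by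
  rw [mem_centralizer_iff]
  simp only [Set.mem_singleton_iff, forall_eq]
  exact eq_comm

theorem conj_eq {B : Subgroup G} {g : G} (hg : g ∈ normalizer (B : Set G)) : MulAut.conj g • B = B := by
  ext x
  rw [mem_conj]
  have := (mem_normalizer_iff.1 ((normalizer (B : Set G)).inv_mem hg)) x
  rw [inv_inv] at this
  exact this.symm

theorem mem_normalizer_of_conj {B : Subgroup G} {x : G} (h : MulAut.conj x • B = B) : x ∈ normalizer (B : Set G) := by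
  rw [mem_normalizer_iff]
  intro y
  constructor
  · intro hy
    rw [← h, mem_conj]
    simpa [mul_assoc] using hy
  · intro hy
    rw [← h, mem_conj] at hy
    simpa [mul_assoc] using hy

theorem conj_eq_of_centralizer {B : Subgroup G} {g : G} (hg : g ∈ centralizer (B : Set G)) : MulAut.conj g • B = B :=
  conj_eq (centralizer_le_normalizer _ hg)

theorem conj_mem {g x : G} {H : Subgroup G} (hx : x ∈ H) : g * x * g⁻¹ ∈ MulAut.conj g • H := by
  rw [mem_conj]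
  simpa [mul_assoc] using hx

/-- the elements fixed by an element of the centraliser -/
theorem fix {B : Subgroup G} {g x : G} (hg : g ∈ centralizer (B : Set G)) (hx : x ∈ B) : g * x * g⁻¹ = x := by
  rw [← mem_centralizer_iff.1 hg x hx, mul_inv_cancel_right]

structure Side (V W N : Subgroup G) (v v' w l : G) : Prop where
  memV : ∀ x, x ∈ V ↔ x = 1 ∨ x = v ∨ x = v' ∨ x = v * v'
  v1 : v ≠ 1
  v'1 : v' ≠ 1
  ne : v ≠ v'
  vv : v * v = 1
  v'v' : v' * v' = 1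
  comm : v * v' = v' * v
  nor : centralizer ({v} : Set G) ≤ normalizer (N : Set G)
  ab : N ≤ centralizer (N : Set G)
  sq : ∀ x ∈ N, x * x = 1
  WN : W ≤ N
  vN : v ∈ N
  NV : N ≤ centralizer (V : Set G)
  l_v : l * v * l⁻¹ = v'
  l_V : l ∈ normalizer (V : Set G)
  l_W : l ∈ centralizer (W : Set G)
  w_v' : w * v' * w⁻¹ = v * v'
  w_N : w ∈ centralizer (N : Set G)
  w_Q : ∀ x ∈ o2 (centralizer ({v} : Set G)), x⁻¹ * (w * x * w⁻¹) = 1 ∨ x⁻¹ * (w * x * w⁻¹) = v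

namespace Side

variable {V W N : Subgroup G} {v v' w l : G} (h : Side V W N v v' w l)
include h

theorem vV : v ∈ V := (h.memV v).2 (Or.inr (Or.inl rfl))

theorem v'V : v' ∈ V := (h.memV v').2 (Or.inr (Or.inr (Or.inl rfl)))

theorem w_v : w * v * w⁻¹ = v := fix h.w_N h.vN

theorem w_vv' : w * (v * v') * w⁻¹ = v' := by
  have h1 : w * (v * v') * w⁻¹ = (w * v * w⁻¹) * (w * v' * w⁻¹) := by group
  rw [h1, h.w_v, h.w_v', ← mul_assoc, h.vv, one_mul]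

/-- `l⁻¹vl ∈ {v', vv'}` -/
theorem l_inv : l⁻¹ * v * l = v' ∨ l⁻¹ * v * l = v * v' := by
  have h1 : l⁻¹ * v * l ∈ V := by
    have := (mem_normalizer_iff.1 (inv_mem h.l_V) v).1 h.vV
    rwa [inv_inv] at this
  rcases (h.memV _).1 h1 with h2 | h2 | h2 | h2
  · exfalso
    apply h.v1
    have : v = l * (l⁻¹ * v * l) * l⁻¹ := by group
    rw [this, h2]; group
  · exfalso
    apply h.ne
    have h3 : v = l * (l⁻¹ * v * l) * l⁻¹ := by group
    rw [h2, h.l_v] at h3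
    exact h3
  · exact Or.inl h2
  · exact Or.inr h2

/-- `w' = l w l⁻¹` fixes `v'` and maps `v` to `vv'`. -/
theorem w'_v : (l * w * l⁻¹) * v * (l * w * l⁻¹)⁻¹ = v * v' := by
  have h1 : (l * w * l⁻¹) * v * (l * w * l⁻¹)⁻¹ = l * (w * (l⁻¹ * v * l) * w⁻¹) * l⁻¹ := by group
  rw [h1]
  rcases h.l_inv with h2 | h2
  · rw [h2, h.w_v']
    have h3 : l * (v * v') * l⁻¹ = (l * v * l⁻¹) * (l * v' * l⁻¹) := by group
    have h4 : l * v' * l⁻¹ = v := by rw [← h2]; group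
    rw [h3, h.l_v, h4, h.comm]
  · rw [h2, h.w_vv']
    have h4 : l * v' * l⁻¹ = v * v' := by
      have h5 : v' = v * (l⁻¹ * v * l) := by rw [h2, ← mul_assoc, h.vv, one_mul]
      have h6 : l * v' * l⁻¹ = (l * v * l⁻¹) * v := by
        conv_lhs => rw [h5]
        group
      rw [h6, h.l_v, h.comm]
    rw [h4]

/-- any element mapping `v` to `v'` maps `N` to `N'` -/
theorem conj_N_eq {g g' : G} (hg : g * v * g⁻¹ = g' * v * g'⁻¹) : MulAut.conj g • N = MulAut.conj g' • N := by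
  have h1 : g'⁻¹ * g ∈ centralizer ({v} : Set G) := by
    rw [mem_centralizer_singleton]
    have h2 := congrArg (fun t => g'⁻¹ * t * g) hg
    simpa [mul_assoc] using h2
  have h2 := conj_eq (h.nor h1)
  have h3 : g = g' * (g'⁻¹ * g) := by group
  conv_lhs => rw [h3, ← conj_conj, h2]

/-- `N' = N^l`, `F = N ∩ N'` -/
theorem w'_N' : l * w * l⁻¹ ∈ centralizer ((MulAut.conj l • N : Subgroup G) : Set G) := by
  rw [mem_centralizer_iff]
  intro x hx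
  have hx' : x ∈ MulAut.conj l • N := hx
  rw [mem_conj] at hx'
  have h1 := mem_centralizer_iff.1 h.w_N _ hx'
  have h2 := congrArg (fun t => l * t * l⁻¹) h1
  simpa [mul_assoc] using h2

/-- `v ∉ F` -/
theorem v_not_mem : v ∉ MulAut.conj l • N := by
  intro hv
  have h1 := fix h.w'_N' hv
  rw [h.w'_v] at h1
  exact h.v'1 (mul_eq_left.1 h1)

theorem W_le_N' : W ≤ MulAut.conj l • N := by
  intro x hx
  have h1 := fix h.l_W hx
  rw [← h1]
  exact conj_mem (h.WN hx)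

theorem W_le_F : W ≤ N ⊓ MulAut.conj l • N := le_inf h.WN h.W_le_N'

/-- `N' ≤ C_G(V)` -/
theorem N'_V : MulAut.conj l • N ≤ centralizer (V : Set G) := by
  have h1 := conj_le_centralizer (g := l) h.NV
  rwa [conj_eq h.l_V] at h1

theorem centralizer_V_le : centralizer (V : Set G) ≤ centralizer ({v} : Set G) := by
  refine centralizer_le ?_
  rintro _ rfl
  exact h.vV

theorem centralizer_V_le' : centralizer (V : Set G) ≤ centralizer ({v'} : Set G) := by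
  refine centralizer_le ?_
  rintro _ rfl
  exact h.v'V

/-- `C_G(v') ≤ N_G(N')` -/
theorem nor' : centralizer ({v'} : Set G) ≤ normalizer ((MulAut.conj l • N : Subgroup G) : Set G) := by
  intro g hg
  apply mem_normalizer_of_conj
  rw [conj_conj]
  apply h.conj_N_eq
  have h1 : g * l * v * (g * l)⁻¹ = g * (l * v * l⁻¹) * g⁻¹ := by group
  rw [h1, h.l_v]
  rw [mem_centralizer_singleton] at hg
  rw [hg, mul_inv_cancel_right]

theorem N'_le_normalizer : MulAut.conj l • N ≤ normalizer (N : Set G) :=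
  h.N'_V.trans (h.centralizer_V_le.trans h.nor)

theorem N_le_normalizer : N ≤ normalizer ((MulAut.conj l • N : Subgroup G) : Set G) :=
  h.NV.trans (h.centralizer_V_le'.trans h.nor')

/-- `[N, N'] ≤ F` -/
theorem comm_mem {x y : G} (hx : x ∈ N) (hy : y ∈ MulAut.conj l • N) :
    x⁻¹ * (y * x * y⁻¹) ∈ N ⊓ MulAut.conj l • N := by
  refine ⟨N.mul_mem (N.inv_mem hx) ((mem_normalizer_iff.1 (h.N'_le_normalizer hy) x).1 hx), ?_⟩
  have h1 := (mem_normalizer_iff.1 (inv_mem (h.N_le_normalizer hx)) y).1 hy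
  rw [inv_inv] at h1
  have h2 := (MulAut.conj l • N : Subgroup G).mul_mem h1 ((MulAut.conj l • N : Subgroup G).inv_mem hy)
  have h3 : x⁻¹ * (y * x * y⁻¹) = x⁻¹ * y * x * y⁻¹ := by group
  rw [h3]
  exact h2

/-- an element swapping `v` and `v'` maps `N` to `N'` and `N'` to `N` -/
theorem swap : ∃ g : G, MulAut.conj g • N = MulAut.conj l • N ∧ MulAut.conj g • (MulAut.conj l • N) = N := by
  have hw1 : w⁻¹ * v * w⁻¹⁻¹ = v := by
    have := congrArg (fun t => w⁻¹ * t * w) h.w_v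
    simp only [mul_assoc, inv_mul_cancel_left, inv_mul_cancel, mul_one] at this
    rw [inv_inv, mul_assoc]
    exact this.symm
  have hw2 : w⁻¹ * v' * w⁻¹⁻¹ = v * v' := by
    have := congrArg (fun t => w⁻¹ * t * w) h.w_vv'
    simp only [mul_assoc, inv_mul_cancel_left, inv_mul_cancel, mul_one] at this
    rw [inv_inv, mul_assoc]
    exact this.symm
  have hw3 : (l * w * l⁻¹) * v' * (l * w * l⁻¹)⁻¹ = v' := by
    have h1 : (l * w * l⁻¹) * v' * (l * w * l⁻¹)⁻¹ = l * (w * (l⁻¹ * v' * l) * w⁻¹) * l⁻¹ := by group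
    have h2 : l⁻¹ * v' * l = v := by rw [← h.l_v]; group
    rw [h1, h2, h.w_v, h.l_v]
  have hw4 : (l * w * l⁻¹) * (v * v') * (l * w * l⁻¹)⁻¹ = v := by
    have h1 : (l * w * l⁻¹) * (v * v') * (l * w * l⁻¹)⁻¹ =
        ((l * w * l⁻¹) * v * (l * w * l⁻¹)⁻¹) * ((l * w * l⁻¹) * v' * (l * w * l⁻¹)⁻¹) := by group
    rw [h1, h.w'_v, hw3, mul_assoc, h.v'v', mul_one]
  refine ⟨w * (l * w * l⁻¹) * w⁻¹, ?_, ?_⟩
  · apply h.conj_N_eq
    have h1 : w * (l * w * l⁻¹) * w⁻¹ * v * (w * (l * w * l⁻¹) * w⁻¹)⁻¹ =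
        w * ((l * w * l⁻¹) * (w⁻¹ * v * w⁻¹⁻¹) * (l * w * l⁻¹)⁻¹) * w⁻¹ := by group
    rw [h1, hw1, h.w'_v, h.w_vv', h.l_v]
  · rw [conj_conj]
    have e : N = MulAut.conj (1 : G) • N := by rw [map_one, one_smul]
    conv_rhs => rw [e]
    apply h.conj_N_eq
    have h1 : w * (l * w * l⁻¹) * w⁻¹ * l * v * (w * (l * w * l⁻¹) * w⁻¹ * l)⁻¹ =
        w * ((l * w * l⁻¹) * (w⁻¹ * (l * v * l⁻¹) * w⁻¹⁻¹) * (l * w * l⁻¹)⁻¹) * w⁻¹ := by group
    rw [h1, h.l_v, hw2, hw4, h.w_v]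
    group

omit h in
theorem conj_inf (g : G) (A B : Subgroup G) : MulAut.conj g • (A ⊓ B) = MulAut.conj g • A ⊓ MulAut.conj g • B :=
  Subgroup.smul_inf _ _ _

omit h in
theorem conj_centralizer (g : G) (A : Subgroup G) :
    MulAut.conj g • centralizer (A : Set G) = centralizer ((MulAut.conj g • A : Subgroup G) : Set G) := by
  ext x
  rw [mem_conj, mem_centralizer_iff, mem_centralizer_iff]
  constructor
  · intro H y hy
    have hy' : y ∈ MulAut.conj g • A := hy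
    rw [mem_conj] at hy'
    have h2 := congrArg (fun t => g * t * g⁻¹) (H _ hy')
    simpa [mul_assoc] using h2
  · intro H y hy
    have h2 := congrArg (fun t => g⁻¹ * t * g) (H _ (conj_mem (g := g) hy))
    simpa [mul_assoc] using h2

omit h in
theorem card_conj (g : G) (A : Subgroup G) : Nat.card (MulAut.conj g • A : Subgroup G) = Nat.card A :=
  Nat.card_congr (Subgroup.equivSMul (MulAut.conj g) A).symm.toEquiv

/-- (c) `|C_N(N')| = |C_{N'}(N)|` -/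
theorem card_cent : Nat.card (N ⊓ centralizer ((MulAut.conj l • N : Subgroup G) : Set G) : Subgroup G) =
    Nat.card ((MulAut.conj l • N) ⊓ centralizer (N : Set G) : Subgroup G) := by
  obtain ⟨g, h1, h2⟩ := h.swap
  have h3 : MulAut.conj g • (N ⊓ centralizer ((MulAut.conj l • N : Subgroup G) : Set G)) =
      (MulAut.conj l • N) ⊓ centralizer (N : Set G) := by
    rw [conj_inf, conj_centralizer, h1, h2]
  rw [← h3, card_conj]

/-- `N'' = N'^w` -/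
theorem conj_w' : MulAut.conj (l * w * l⁻¹) • N = MulAut.conj w • (MulAut.conj l • N) := by
  rw [conj_conj]
  apply h.conj_N_eq
  have h1 : w * l * v * (w * l)⁻¹ = w * (l * v * l⁻¹) * w⁻¹ := by group
  rw [h.w'_v, h1, h.l_v, h.w_v']

/-- `N' ∩ N'' = F` -/
theorem inf_eq : (MulAut.conj l • N) ⊓ (MulAut.conj w • (MulAut.conj l • N)) = N ⊓ MulAut.conj l • N := by
  have h1 : MulAut.conj (l * w * l⁻¹) • (N ⊓ MulAut.conj l • N) = N ⊓ MulAut.conj l • N :=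
    conj_eq_of_centralizer (centralizer_le (fun x hx => hx.2) h.w'_N')
  rw [conj_inf, h.conj_w', conj_eq_of_centralizer h.w'_N'] at h1
  rw [inf_comm, h1]

/-- `N ∩ N'' = F` -/
theorem inf_eq' : N ⊓ (MulAut.conj w • (MulAut.conj l • N)) = N ⊓ MulAut.conj l • N := by
  have h1 : MulAut.conj w • (N ⊓ MulAut.conj l • N) = N ⊓ MulAut.conj l • N :=
    conj_eq_of_centralizer (centralizer_le (fun x hx => hx.1) h.w_N)
  rw [conj_inf, conj_eq_of_centralizer h.w_N] at h1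
  exact h1

/-- (b) If `[N, N'] = 1` and `C_G(N)` normalises `V` then `|N : F| ≤ 2`. -/
theorem card_le [Finite G] (hc : MulAut.conj l • N ≤ centralizer (N : Set G))
    (hV : centralizer (N : Set G) ≤ normalizer (V : Set G)) :
    Nat.card N ≤ 2 * Nat.card (N ⊓ MulAut.conj l • N : Subgroup G) := by
  -- `N' ≤ O₂(C_G(v))`
  have hCN : centralizer (N : Set G) ≤ centralizer ({v} : Set G) := by
    refine centralizer_le ?_
    rintro _ rfl
    exact h.vN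
  have h2' : IsPGroup 2 (MulAut.conj l • N : Subgroup G) := by
    intro x
    refine ⟨1, Subtype.ext ?_⟩
    have h1 := x.2
    rw [mem_conj] at h1
    have h3 := h.sq _ h1
    have h4 : (x : G) * x = l * ((l⁻¹ * x * l) * (l⁻¹ * x * l)) * l⁻¹ := by group
    rw [h3] at h4
    change (x : G) ^ 2 ^ 1 = 1
    rw [pow_one, pow_two, h4]
    group
  -- `R = C_G(N) ∩ C_G(V)` is normal in `C_G(N)`
  set R : Subgroup G := centralizer (N : Set G) ⊓ centralizer (V : Set G) with hR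
  have hRn : centralizer (N : Set G) ≤ normalizer (R : Set G) := by
    intro g hg
    apply mem_normalizer_of_conj
    rw [hR, conj_inf, conj_centralizer, conj_centralizer, conj_eq_of_centralizer hg, conj_eq (hV hg)]
  have hN'R : MulAut.conj l • N ≤ R := le_inf hc h.N'_V
  have hle1 : MulAut.conj l • N ≤ o2 R :=
    le_o2 hN'R h2' (inf_le_right.trans (h.centralizer_V_le'.trans h.nor'))
  have hle2 : o2 R ≤ o2 (centralizer (N : Set G)) :=
    le_o2 ((o2_le R).trans inf_le_left) (isPGroup_o2 R) (hRn.trans (normalizer_le_normalizer_o2 R))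
  have hle3 : o2 (centralizer (N : Set G)) ≤ o2 (centralizer ({v} : Set G)) := by
    refine le_o2 ((o2_le _).trans hCN) (isPGroup_o2 _) ?_
    refine le_trans ?_ (normalizer_le_normalizer_o2 _)
    intro g hg
    apply mem_normalizer_of_conj
    rw [conj_centralizer, conj_eq (h.nor hg)]
  have hQ := hle1.trans (hle2.trans hle3)
  rw [← h.inf_eq, ← card_conj l N, ← card_conj w (MulAut.conj l • N)]
  refine card_le_two_mul fun x hx y hy hxK hyK => ?_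
  -- every element of `N''` is `n` or `n v`
  have key : ∀ x ∈ MulAut.conj w • (MulAut.conj l • N), x ∉ MulAut.conj l • N → ∃ n ∈ MulAut.conj l • N, x = n * v := by
    intro x hx hxK
    rw [mem_conj] at hx
    have h1 := h.w_Q _ (hQ hx)
    have h3 : w * (w⁻¹ * x * w) * w⁻¹ = x := by group
    rw [h3] at h1
    rcases h1 with h1 | h1
    · exfalso
      apply hxK
      have : x = w⁻¹ * x * w := (inv_mul_eq_one.1 h1).symm
      rw [this]
      exact hx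
    · exact ⟨_, hx, by rw [← h1]; group⟩
  obtain ⟨n, hn, rfl⟩ := key x hx hxK
  obtain ⟨m, hm, rfl⟩ := key y hy hyK
  have h5 : ∀ t ∈ MulAut.conj l • N, v * t = t * v := fun t ht => mem_centralizer_iff.1 (h.N'_V ht) v h.vV
  have h6 : (n * v)⁻¹ * (m * v) = n⁻¹ * m := by
    have h7 := h5 _ (mul_mem (inv_mem hn) hm)
    calc (n * v)⁻¹ * (m * v) = v⁻¹ * ((n⁻¹ * m) * v) := by group
      _ = n⁻¹ * m := by rw [← h7, inv_mul_cancel_left]
  rw [h6]
  exact mul_mem (inv_mem hn) hm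

/-- `C_G(V) ≤ N_G(F)` -/
theorem centralizer_le_normalizer_F : centralizer (V : Set G) ≤ normalizer ((N ⊓ MulAut.conj l • N : Subgroup G) : Set G) := by
  intro g hg
  apply mem_normalizer_of_conj
  rw [conj_inf, conj_eq (h.nor (h.centralizer_V_le hg)), conj_eq (h.nor' (h.centralizer_V_le' hg))]

/-- An element of `C_G(v)` normalising `V` normalises `F`. -/
theorem conj_F {t : G} (ht : t ∈ centralizer ({v} : Set G)) (htV : t * v' * t⁻¹ ∈ V) :
    MulAut.conj t • (N ⊓ MulAut.conj l • N) = N ⊓ MulAut.conj l • N := by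
  have h0 : t * v = v * t := mem_centralizer_singleton.1 ht
  have h1 : MulAut.conj t • (MulAut.conj l • N) = MulAut.conj l • N ∨
      MulAut.conj t • (MulAut.conj l • N) = MulAut.conj w • (MulAut.conj l • N) := by
    rw [conj_conj]
    have e : t * l * v * (t * l)⁻¹ = t * v' * t⁻¹ := by rw [← h.l_v]; group
    rcases (h.memV _).1 htV with h2 | h2 | h2 | h2
    · exfalso
      apply h.v'1
      calc v' = t⁻¹ * (t * v' * t⁻¹) * t := by group
        _ = 1 := by rw [h2]; group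
    · exfalso
      apply h.ne
      calc v = t⁻¹ * (v * t) := by rw [← h0]; group
        _ = t⁻¹ * (t * v' * t⁻¹) * t := by rw [h2]; group
        _ = v' := by group
    · left
      apply h.conj_N_eq
      rw [e, h2, h.l_v]
    · right
      rw [conj_conj]
      apply h.conj_N_eq
      have e2 : w * l * v * (w * l)⁻¹ = w * (l * v * l⁻¹) * w⁻¹ := by group
      rw [e, h2, e2, h.l_v, h.w_v']
  rw [conj_inf, conj_eq (h.nor ht)]
  rcases h1 with h1 | h1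
  · rw [h1]
  · rw [h1, h.inf_eq']

/-- a subgroup of `C_G(v)` normalising `V` normalises `F` -/
theorem le_normalizer_F {T : Subgroup G} (hT : T ≤ centralizer ({v} : Set G)) (hTV : ∀ t ∈ T, t * v' * t⁻¹ ∈ V) :
    T ≤ normalizer ((N ⊓ MulAut.conj l • N : Subgroup G) : Set G) := fun t ht =>
  mem_normalizer_of_conj (h.conj_F (hT ht) (hTV t ht))

end Side

end Cfsg.Agent.Omega.IId.SpSide

end

section


/-!
# II.d, CASE 1, `q = 2`: the quadratic form of the `O₅(2)`-module `N₁` (#14451 (d))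

`QF N C v Q` : `Q : G → ZMod 2` restricted to the elementary abelian group `N` is a quadratic form with
biadditive polar form `pol Q`, invariant under the subgroup `C`, `Q v = 1` and `rad = {1, v}`.
-/

set_option autoImplicit false

namespace Cfsg.Agent.Omega.IId.SpForm

open Subgroup Cfsg.Agent.Omega.NoFF.Basic Cfsg Cfsg.Agent.ZN Cfsg.Agent.Omega.IId.SpSide
open scoped Pointwise

variable {G : Type*} [Group G]

/-- polar form -/
def pol (Q : G → ZMod 2) (x y : G) : ZMod 2 := Q (x * y) + Q x + Q y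

/-- a quadratic form on `N` with radical `⟨v⟩` -/
structure QF (N C : Subgroup G) (v : G) (Q : G → ZMod 2) : Prop where
  add : ∀ x ∈ N, ∀ y ∈ N, ∀ z ∈ N, pol Q (x * y) z = pol Q x z + pol Q y z
  inv : ∀ c ∈ C, ∀ x ∈ N, Q (c * x * c⁻¹) = Q x
  Qv : Q v = 1
  vrad : ∀ y ∈ N, pol Q v y = 0
  rad : ∀ x ∈ N, (∀ y ∈ N, pol Q x y = 0) → x = 1 ∨ x = v

theorem z2 (a : ZMod 2) : a = 0 ∨ a = 1 := by
  revert a; decide

theorem z2_add (a : ZMod 2) : a + a = 0 := by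
  revert a; decide

namespace QF

variable {N C : Subgroup G} {v : G} {Q : G → ZMod 2} (q : QF N C v Q)
include q

theorem one_left {z : G} (hz : z ∈ N) : pol Q 1 z = 0 := by
  have := q.add 1 N.one_mem 1 N.one_mem z hz
  rw [one_mul, z2_add] at this
  exact this

theorem Q_one : Q 1 = 0 := by
  have := q.one_left N.one_mem
  unfold pol at this
  rw [one_mul, z2_add, zero_add] at this
  exact this

theorem pol_inv {c : G} (hc : c ∈ C) {x y : G} (hx : x ∈ N) (hy : y ∈ N) :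
    pol Q (c * x * c⁻¹) (c * y * c⁻¹) = pol Q x y := by
  unfold pol
  have h1 : c * x * c⁻¹ * (c * y * c⁻¹) = c * (x * y) * c⁻¹ := by group
  rw [h1, q.inv c hc _ (N.mul_mem hx hy), q.inv c hc x hx, q.inv c hc y hy]

end QF

/-- The data of (d): `N = N₁`, `N' = N₁'`, `W = V₂`, `F = N ∩ N' = W`. -/
structure Alt (N N' W : Subgroup G) (v : G) (Q : G → ZMod 2) : Prop where
  ab : ∀ x ∈ N, ∀ y ∈ N, x * y = y * x
  ab' : ∀ x ∈ N', ∀ y ∈ N', x * y = y * x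
  sq : ∀ x ∈ N, x * x = 1
  WN : W ≤ N
  WN' : W ≤ N'
  vN : v ∈ N
  v1 : v ≠ 1
  vN' : ∀ b ∈ N', b * v = v * b
  cm : ∀ x ∈ N, ∀ b ∈ N', x⁻¹ * (b * x * b⁻¹) ∈ W
  add : ∀ x ∈ N, ∀ y ∈ N, ∀ z ∈ N, pol Q (x * y) z = pol Q x z + pol Q y z
  inv : ∀ b ∈ N', ∀ x ∈ N, Q (b * x * b⁻¹) = Q x
  Qv : Q v = 1
  rad : ∀ x ∈ N, (∀ y ∈ N, pol Q x y = 0) → x = 1 ∨ x = v
  QW : ∀ x ∈ W, Q x = 0
  perp : ∀ x ∈ N, (∀ y ∈ W, pol Q x y = 0) → x ∈ W ∨ x * v ∈ W
  W4 : ∀ a ∈ W, ∀ b ∈ W, a ≠ 1 → b ≠ 1 → a ≠ b → ∀ x ∈ W, x = 1 ∨ x = a ∨ x = b ∨ x = a * b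

namespace Alt

variable {N N' W : Subgroup G} {v : G} {Q : G → ZMod 2} (h : Alt N N' W v Q)
include h

/-- `β_b(x) = [x, b]` -/
theorem pol_beta {x b : G} (hx : x ∈ N) (hb : b ∈ N') : pol Q x (x⁻¹ * (b * x * b⁻¹)) = 0 := by
  unfold pol
  have h1 : x * (x⁻¹ * (b * x * b⁻¹)) = b * x * b⁻¹ := by group
  rw [h1, h.inv b hb x hx, h.QW _ (h.cm x hx b hb), add_zero, z2_add]

theorem comm {x y : G} (hx : x ∈ N) (hy : y ∈ N) : pol Q x y = pol Q y x := by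
  unfold pol
  rw [h.ab x hx y hy]; ring

theorem add' {x y z : G} (hx : x ∈ N) (hy : y ∈ N) (hz : z ∈ N) : pol Q z (x * y) = pol Q z x + pol Q z y := by
  rw [h.comm hz (N.mul_mem hx hy), h.add x hx y hy z hz, h.comm hx hz, h.comm hy hz]

theorem beta_mul {x y b : G} (hx : x ∈ N) (hy : y ∈ N) (hb : b ∈ N') :
    (x * y)⁻¹ * (b * (x * y) * b⁻¹) = (x⁻¹ * (b * x * b⁻¹)) * (y⁻¹ * (b * y * b⁻¹)) := by
  have h1 := h.WN (h.cm x hx b hb)
  have h2 : (x * y)⁻¹ * (b * (x * y) * b⁻¹) = y⁻¹ * (x⁻¹ * (b * x * b⁻¹)) * (b * y * b⁻¹) := by group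
  rw [h2, h.ab _ (N.inv_mem hy) _ h1, mul_assoc]

/-- `f(x, β_b(y)) = f(y, β_b(x))` -/
theorem pol_symm {x y b : G} (hx : x ∈ N) (hy : y ∈ N) (hb : b ∈ N') :
    pol Q x (y⁻¹ * (b * y * b⁻¹)) = pol Q y (x⁻¹ * (b * x * b⁻¹)) := by
  have h1 := h.pol_beta (N.mul_mem hx hy) hb
  have hbx := h.WN (h.cm x hx b hb)
  have hby := h.WN (h.cm y hy b hb)
  rw [h.beta_mul hx hy hb, h.add x hx y hy _ (N.mul_mem hbx hby), h.add' hbx hby hx, h.add' hbx hby hy,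
    h.pol_beta hx hb, h.pol_beta hy hb, zero_add, add_zero] at h1
  rcases z2 (pol Q x (y⁻¹ * (b * y * b⁻¹))) with h2 | h2 <;> rcases z2 (pol Q y (x⁻¹ * (b * x * b⁻¹))) with h3 | h3
  · rw [h2, h3]
  · rw [h2, h3] at h1; exact absurd h1 (by decide)
  · rw [h2, h3] at h1; exact absurd h1 (by decide)
  · rw [h2, h3]

theorem one_right {x : G} (hx : x ∈ N) : pol Q x 1 = 0 := by
  have h1 := h.add 1 N.one_mem 1 N.one_mem x hx
  rw [one_mul, z2_add] at h1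
  rw [h.comm hx N.one_mem]
  exact h1

theorem ne_rad {m : G} (hm : m ∈ W) (hm1 : m ≠ 1) : ∃ y ∈ N, pol Q m y = 1 := by
  by_contra hcon
  push Not at hcon
  rcases h.rad m (h.WN hm) fun y hy => (z2 _).resolve_right (hcon y hy) with h1 | h1
  · exact hm1 h1
  · have := h.QW m hm
    rw [h1, h.Qv] at this
    exact absurd this (by decide)

/-- Claim A: if `β_b ≠ 1`, the kernel of `β_b` is `W⟨v⟩`. -/
theorem claimA {b x y : G} (hb : b ∈ N') (hx : x ∈ N) (hbx : x⁻¹ * (b * x * b⁻¹) ≠ 1) (hy : y ∈ N)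
    (hby : y⁻¹ * (b * y * b⁻¹) = 1) : y ∈ W ∨ y * v ∈ W := by
  have hm := h.cm x hx b hb
  obtain ⟨y0, hy0, h0⟩ := h.ne_rad hm hbx
  have h1 : pol Q x (y0⁻¹ * (b * y0 * b⁻¹)) = 1 := by
    rw [h.pol_symm hx hy0 hb, h.comm hy0 (h.WN hm), h0]
  have hm' := h.cm y0 hy0 b hb
  set m := x⁻¹ * (b * x * b⁻¹) with hmdef
  set m' := y0⁻¹ * (b * y0 * b⁻¹) with hm'def
  have hm'1 : m' ≠ 1 := by
    intro e
    rw [e, h.one_right hx] at h1
    exact absurd h1 (by decide)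
  have hmm' : m ≠ m' := by
    intro e
    have h2 := h.pol_beta hx hb
    rw [← hmdef, e, h1] at h2
    exact absurd h2 (by decide)
  -- `y` is orthogonal to the image of `β_b`
  have key : ∀ z ∈ N, pol Q y (z⁻¹ * (b * z * b⁻¹)) = 0 := by
    intro z hz
    rw [h.pol_symm hy hz hb, hby, h.one_right hz]
  have k1 : pol Q y m = 0 := key x hx
  have k2 : pol Q y m' = 0 := key y0 hy0
  refine h.perp y hy fun w hw => ?_
  rcases h.W4 m hm m' hm' hbx hm'1 hmm' w hw with h3 | h3 | h3 | h3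
  · rw [h3, h.one_right hy]
  · rw [h3, k1]
  · rw [h3, k2]
  · rw [h3, h.add' (h.WN hm) (h.WN hm') hy, k1, k2, zero_add]

/-- `β_b` vanishes on `W⟨v⟩`. -/
theorem beta_one {b y : G} (hb : b ∈ N') (hy : y ∈ W ∨ y * v ∈ W) : b * y = y * b := by
  have h1 : ∀ y ∈ W, b * y = y * b := fun y hy => h.ab' b hb y (h.WN' hy)
  rcases hy with h2 | h2
  · exact h1 y h2
  · have h3 := h1 _ h2
    have h4 := h.vN' b hb
    have h5 : b * y * v = y * b * v := by rw [mul_assoc, h3, mul_assoc, mul_assoc, ← h4]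
    exact mul_right_cancel h5

/-- Claim B: two nontrivial `β_b` are equal. -/
theorem claimB {b b' x x' : G} (hb : b ∈ N') (hb' : b' ∈ N') (hx : x ∈ N) (hbx : x⁻¹ * (b * x * b⁻¹) ≠ 1)
    (hx' : x' ∈ N) (hbx' : x'⁻¹ * (b' * x' * b'⁻¹) ≠ 1) (y : G) (hy : y ∈ N) :
    b * y * b⁻¹ = b' * y * b'⁻¹ := by
  by_cases hyW : y ∈ W ∨ y * v ∈ W
  · rw [h.beta_one hb hyW, h.beta_one hb' hyW]; group
  · have n1 : y⁻¹ * (b * y * b⁻¹) ≠ 1 := fun e => hyW (h.claimA hb hx hbx hy e)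
    have n2 : y⁻¹ * (b' * y * b'⁻¹) ≠ 1 := fun e => hyW (h.claimA hb' hx' hbx' hy e)
    have o1 := h.pol_beta hy hb
    have o2 := h.pol_beta hy hb'
    have m1 := h.cm y hy b hb
    have m2 := h.cm y hy b' hb'
    by_contra hne
    have hne' : y⁻¹ * (b * y * b⁻¹) ≠ y⁻¹ * (b' * y * b'⁻¹) := fun e => hne (mul_left_cancel e)
    apply hyW
    refine h.perp y hy fun w hw => ?_
    rcases h.W4 _ m1 _ m2 n1 n2 hne' w hw with h3 | h3 | h3 | h3
    · rw [h3, h.one_right hy]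
    · rw [h3, o1]
    · rw [h3, o2]
    · rw [h3, h.add' (h.WN m1) (h.WN m2) hy, o1, o2, zero_add]

/-- `|N'| ≤ 2 |C_{N'}(N)|` -/
theorem card_le [Finite G] : Nat.card N' ≤ 2 * Nat.card (N' ⊓ centralizer (N : Set G) : Subgroup G) := by
  rw [inf_comm]
  refine card_le_two_mul fun b hb b' hb' hbC hbC' => ?_
  have key : ∀ b ∈ N', b ∉ centralizer (N : Set G) → ∃ x ∈ N, x⁻¹ * (b * x * b⁻¹) ≠ 1 := by
    intro b _ hbC
    by_contra hcon
    push Not at hcon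
    apply hbC
    rw [mem_centralizer_iff]
    intro x hx
    have h1 := inv_mul_eq_one.1 (hcon x hx)
    rw [eq_mul_inv_iff_mul_eq] at h1
    exact h1
  obtain ⟨x, hx, h1⟩ := key b hb hbC
  obtain ⟨x', hx', h1'⟩ := key b' hb' hbC'
  rw [mem_centralizer_iff]
  intro y hy
  have h2 := h.claimB hb hb' hx h1 hx' h1' y hy
  have h3 : b⁻¹ * (b * y * b⁻¹) * b' = b⁻¹ * (b' * y * b'⁻¹) * b' := by rw [h2]
  calc y * (b⁻¹ * b') = b⁻¹ * (b * y * b⁻¹) * b' := by group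
    _ = b⁻¹ * (b' * y * b'⁻¹) * b' := h3
    _ = b⁻¹ * b' * y := by group

/-- If `[N, N'] ≠ 1` then `|C_N(N')| ≤ 2|W|`. -/
theorem card_cent_le [Finite G] (hne : ¬ N' ≤ centralizer (N : Set G)) :
    Nat.card (N ⊓ centralizer (N' : Set G) : Subgroup G) ≤ 2 * Nat.card W := by
  have h1 : ∃ b ∈ N', ∃ x ∈ N, x⁻¹ * (b * x * b⁻¹) ≠ 1 := by
    by_contra hcon
    push Not at hcon
    apply hne
    intro b hb
    rw [mem_centralizer_iff]
    intro x hx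
    have h1 := inv_mul_eq_one.1 (hcon b hb x hx)
    rw [eq_mul_inv_iff_mul_eq] at h1
    exact h1
  obtain ⟨b, hb, x, hx, hbx⟩ := h1
  have key : ∀ y ∈ N ⊓ centralizer (N' : Set G), y ∈ W ∨ y * v ∈ W := by
    rintro y ⟨hy, hyc⟩
    refine h.claimA hb hx hbx hy ?_
    have := mem_centralizer_iff.1 hyc b hb
    rw [this]; group
  refine (card_le_two_mul (K := W) fun x hx y hy hxW hyW => ?_).trans ?_
  · have h2 := (key x hx).resolve_left hxW
    have h3 := (key y hy).resolve_left hyW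
    have h4 := W.mul_mem (W.inv_mem h2) h3
    have h5 : (x * v)⁻¹ * (y * v) = x⁻¹ * y := by
      have e : v⁻¹ * (x⁻¹ * y) = (x⁻¹ * y) * v⁻¹ :=
        h.ab _ (N.inv_mem h.vN) _ (N.mul_mem (N.inv_mem hx.1) hy.1)
      calc (x * v)⁻¹ * (y * v) = v⁻¹ * (x⁻¹ * y) * v := by group
        _ = x⁻¹ * y := by rw [e, inv_mul_cancel_right]
    rwa [h5] at h4
  · exact Nat.mul_le_mul_left 2 (Subgroup.card_le_of_le inf_le_left)

end Alt

/-! ### Four-groups -/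

/-- A group of order 4 and exponent 2 is `{1, a, b, ab}`. -/
theorem four_mem [Finite G] {W : Subgroup G} (hc : Nat.card W = 4) (hsq : ∀ x ∈ W, x * x = 1) {a b : G} (ha : a ∈ W)
    (hb : b ∈ W) (ha1 : a ≠ 1) (hb1 : b ≠ 1) (hab : a ≠ b) {x : G} (hx : x ∈ W) :
    x = 1 ∨ x = a ∨ x = b ∨ x = a * b := by
  classical
  by_contra hcon
  push Not at hcon
  have c1 : a * b ≠ 1 := fun e => hab (by
    calc a = a * (b * b) := by rw [hsq b hb, mul_one]
      _ = b := by rw [← mul_assoc, e, one_mul])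
  have h5 : ({1, a, b, a * b, x} : Finset G).card ≤ 4 := by
    have e1 : Nat.card W = (W : Set G).ncard := rfl
    rw [← hc, e1, ← Set.ncard_coe_finset]
    apply Set.ncard_le_ncard _ (Set.toFinite _)
    intro y hy
    simp only [Finset.coe_insert, Finset.coe_singleton, Set.mem_insert_iff, Set.mem_singleton_iff] at hy
    rcases hy with rfl | rfl | rfl | rfl | rfl
    · exact one_mem _
    · exact ha
    · exact hb
    · exact mul_mem ha hb
    · exact hx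
  have c3 : a ≠ a * b := fun e => hb1 (mul_eq_left.1 e.symm)
  have c4 : b ≠ a * b := fun e => ha1 (mul_eq_right.1 e.symm)
  have : ({1, a, b, a * b, x} : Finset G).card = 5 := by
    rw [Finset.card_insert_of_notMem, Finset.card_insert_of_notMem, Finset.card_insert_of_notMem,
      Finset.card_insert_of_notMem, Finset.card_singleton]
    · simpa using Ne.symm hcon.2.2.2
    · simp only [Finset.mem_insert, Finset.mem_singleton, not_or]
      exact ⟨c4, Ne.symm hcon.2.2.1⟩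
    · simp only [Finset.mem_insert, Finset.mem_singleton, not_or]
      exact ⟨hab, c3, Ne.symm hcon.2.1⟩
    · simp only [Finset.mem_insert, Finset.mem_singleton, not_or]
      exact ⟨Ne.symm ha1, Ne.symm hb1, Ne.symm c1, Ne.symm hcon.1⟩
  omega

/-- A proper subgroup has at most half the order. -/
theorem two_mul_card_le [Finite G] {K H : Subgroup G} (hKH : K ≤ H) (hne : ∃ x ∈ H, x ∉ K) :
    2 * Nat.card K ≤ Nat.card H := by
  obtain ⟨x, hx, hxK⟩ := hne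
  obtain ⟨c, hc⟩ := Subgroup.card_dvd_of_le hKH
  have hK : 0 < Nat.card K := Nat.card_pos
  have hH : 0 < Nat.card H := Nat.card_pos
  rcases Nat.lt_or_ge c 2 with h2 | h2
  · exfalso
    have h1 : c = 1 := by
      rcases Nat.lt_or_ge c 1 with h0 | h0
      · have : c = 0 := by omega
        rw [this, mul_zero] at hc
        omega
      · omega
    rw [h1, mul_one] at hc
    have h3 : K = H := Subgroup.eq_of_le_of_card_ge hKH hc.le
    exact hxK (h3 ▸ hx)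
  · rw [hc, mul_comm]
    exact Nat.mul_le_mul_left _ h2

/-- The form data of `N₁`, `V₂`: `|N| = 32`, `|W| = 4`, `Q = 0` on `W`. -/
structure Frm (N W C : Subgroup G) (v : G) (Q : G → ZMod 2) : Prop extends QF N C v Q where
  ab : ∀ x ∈ N, ∀ y ∈ N, x * y = y * x
  sq : ∀ x ∈ N, x * x = 1
  WN : W ≤ N
  vN : v ∈ N
  cN : Nat.card N = 32
  cW : Nat.card W = 4
  QW : ∀ x ∈ W, Q x = 0

namespace Frm

variable {N W C : Subgroup G} {v : G} {Q : G → ZMod 2} (h : Frm N W C v Q)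
include h

theorem v_not_mem : v ∉ W := fun hv => by
  have := h.QW v hv
  rw [h.Qv] at this
  exact absurd this (by decide)

theorem comm {x y : G} (hx : x ∈ N) (hy : y ∈ N) : pol Q x y = pol Q y x := by
  unfold pol
  rw [h.ab x hx y hy]; ring

theorem add' {x y z : G} (hx : x ∈ N) (hy : y ∈ N) (hz : z ∈ N) : pol Q z (x * y) = pol Q z x + pol Q z y := by
  rw [h.comm hz (N.mul_mem hx hy), h.add x hx y hy z hz, h.comm hx hz, h.comm hy hz]

theorem one_right {x : G} (hx : x ∈ N) : pol Q x 1 = 0 := by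
  rw [h.comm hx N.one_mem, h.toQF.one_left hx]

theorem polW {x y : G} (hx : x ∈ W) (hy : y ∈ W) : pol Q x y = 0 := by
  unfold pol
  rw [h.QW _ (W.mul_mem hx hy), h.QW x hx, h.QW y hy]; decide

theorem ne_rad {m : G} (hm : m ∈ W) (hm1 : m ≠ 1) : ∃ y ∈ N, pol Q y m = 1 := by
  by_contra hcon
  push Not at hcon
  rcases h.rad m (h.WN hm) fun y hy => by
    rw [h.comm (h.WN hm) hy]
    exact (z2 _).resolve_right (hcon y hy) with h1 | h1
  · exact hm1 h1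
  · exact h.v_not_mem (h1 ▸ hm)

/-- the orthogonal of `a` -/
def orth (N : Subgroup G) (Q : G → ZMod 2) (h : ∀ x ∈ N, ∀ y ∈ N, ∀ z ∈ N, pol Q (x * y) z = pol Q x z + pol Q y z)
    (h2 : ∀ x ∈ N, x * x = 1) {a : G} (ha : a ∈ N) : Subgroup G where
  carrier := {x | x ∈ N ∧ pol Q x a = 0}
  one_mem' := by
    refine ⟨N.one_mem, ?_⟩
    have := h 1 N.one_mem 1 N.one_mem a ha
    rw [one_mul, z2_add] at this
    exact this
  mul_mem' := by
    rintro x y ⟨hx, hx'⟩ ⟨hy, hy'⟩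
    exact ⟨N.mul_mem hx hy, by rw [h x hx y hy a ha, hx', hy', add_zero]⟩
  inv_mem' := by
    rintro x ⟨hx, hx'⟩
    have : x⁻¹ = x := inv_eq_of_mul_eq_one_left (h2 x hx)
    rw [this]
    exact ⟨hx, hx'⟩

/-- `W^⊥ = W⟨v⟩` -/
theorem perp [Finite G] : ∀ x ∈ N, (∀ y ∈ W, pol Q x y = 0) → x ∈ W ∨ x * v ∈ W := by
  classical
  -- a basis of `W`
  obtain ⟨a, ha, ha1⟩ : ∃ a ∈ W, a ≠ 1 := by
    by_contra hcon
    push Not at hcon
    have : W = ⊥ := (eq_bot_iff_forall _).2 hcon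
    have h4 := h.cW
    rw [this, Subgroup.card_bot] at h4
    omega
  obtain ⟨b, hb, hb1, hab⟩ : ∃ b ∈ W, b ≠ 1 ∧ b ≠ a := by
    by_contra hcon
    push Not at hcon
    have h5 : (W : Set G).ncard ≤ ({1, a} : Finset G).card := by
      rw [← Set.ncard_coe_finset]
      apply Set.ncard_le_ncard _ (Set.toFinite _)
      intro y hy
      by_cases h1 : y = 1
      · simp [h1]
      · simp [hcon y hy h1]
    have h6 : Nat.card W = (W : Set G).ncard := rfl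
    have h7 := Finset.card_le_two (a := (1 : G)) (b := a)
    have h8 := h.cW
    omega
  have haN := h.WN ha
  have hbN := h.WN hb
  set A := orth N Q h.add h.sq haN with hA
  set B := orth N Q h.add h.sq hbN with hB
  have hcA : 2 * Nat.card A ≤ 32 := by
    rw [← h.cN]
    refine two_mul_card_le (fun x hx => hx.1) ?_
    obtain ⟨y, hy, h1⟩ := h.ne_rad ha ha1
    exact ⟨y, hy, fun h2 => by rw [h2.2] at h1; exact absurd h1 (by decide)⟩
  have hcB : 2 * Nat.card (A ⊓ B : Subgroup G) ≤ Nat.card A := by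
    refine two_mul_card_le inf_le_left ?_
    by_contra hcon
    push Not at hcon
    -- `f(·, a) = f(·, b)`
    obtain ⟨y, hy, h1⟩ := h.ne_rad hb hb1
    have h2 : pol Q y a = 1 := (z2 _).resolve_left fun h2 => by
      have := (hcon y ⟨hy, h2⟩).2.2
      rw [this] at h1; exact absurd h1 (by decide)
    have hab1 : a * b ≠ 1 := fun e => hab (by
      calc b = (a * a) * b := by rw [h.sq a haN, one_mul]
        _ = a := by rw [mul_assoc, e, mul_one])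
    obtain ⟨x, hx, h3⟩ := h.ne_rad (W.mul_mem ha hb) hab1
    rw [h.add' haN hbN hx] at h3
    rcases z2 (pol Q x a) with h4 | h4
    · have h5 := (hcon x ⟨hx, h4⟩).2.2
      rw [h4, h5] at h3; exact absurd h3 (by decide)
    · have h6 : pol Q (x * y) a = 0 := by rw [h.add x hx y hy a haN, h4, h2]; decide
      have h5 := (hcon (x * y) ⟨N.mul_mem hx hy, h6⟩).2.2
      rw [h.add x hx y hy b hbN, h1] at h5
      rcases z2 (pol Q x b) with h7 | h7
      · rw [h7] at h5; exact absurd h5 (by decide)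
      · rw [h4, h7] at h3; exact absurd h3 (by decide)
  -- the set `W ∪ Wv`
  set X : Set G := (W : Set G) ∪ (fun x => x * v) '' (W : Set G) with hX
  have hX8 : X.ncard = 8 := by
    rw [hX, Set.ncard_union_eq ?_ (Set.toFinite _) (Set.toFinite _), Set.ncard_image_of_injective _ (mul_left_injective v)]
    · have h6 : Nat.card W = (W : Set G).ncard := rfl
      have h8 := h.cW
      omega
    · rw [Set.disjoint_left]
      rintro x hx ⟨y, hy, rfl⟩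
      apply h.v_not_mem
      have := W.mul_mem (W.inv_mem hy) hx
      simpa using this
  have hXs : X ⊆ ((A ⊓ B : Subgroup G) : Set G) := by
    have hv : ∀ c ∈ W, pol Q v c = 0 := fun c hc => h.vrad c (h.WN hc)
    rintro x (hx | ⟨y, hy, rfl⟩)
    · exact ⟨⟨h.WN hx, h.polW hx ha⟩, ⟨h.WN hx, h.polW hx hb⟩⟩
    · have e : ∀ c ∈ W, pol Q (y * v) c = 0 := fun c hc => by
        rw [h.add y (h.WN hy) v h.vN c (h.WN hc), h.polW hy hc, hv c hc, add_zero]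
      exact ⟨⟨N.mul_mem (h.WN hy) h.vN, e a ha⟩, ⟨N.mul_mem (h.WN hy) h.vN, e b hb⟩⟩
  have hXe : X = ((A ⊓ B : Subgroup G) : Set G) := by
    apply Set.eq_of_subset_of_ncard_le hXs _ (Set.toFinite _)
    have h6 : Nat.card (A ⊓ B : Subgroup G) = ((A ⊓ B : Subgroup G) : Set G).ncard := rfl
    omega
  intro x hx hxW
  have h9 : x ∈ ((A ⊓ B : Subgroup G) : Set G) := ⟨⟨hx, hxW a ha⟩, ⟨hx, hxW b hb⟩⟩
  rw [← hXe] at h9
  rcases h9 with h9 | ⟨y, hy, rfl⟩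
  · exact Or.inl h9
  · right
    rw [mul_assoc, h.sq v h.vN, mul_one]
    exact hy

/-- A functional on `W`: zero, or with kernel `{1, k}`. -/
theorem ker [Finite G] {x : G} (hx : x ∈ N) (hne : ∃ c ∈ W, pol Q x c = 1) :
    ∃ k ∈ W, k ≠ 1 ∧ pol Q x k = 0 ∧ ∀ w ∈ W, w ≠ 1 → w ≠ k → pol Q x w = 1 := by
  classical
  obtain ⟨c, hc, hxc⟩ := hne
  have hc1 : c ≠ 1 := by
    rintro rfl
    rw [h.one_right hx] at hxc
    exact absurd hxc (by decide)
  obtain ⟨b, hb, hb1, hbc⟩ : ∃ b ∈ W, b ≠ 1 ∧ b ≠ c := by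
    by_contra hcon
    push Not at hcon
    have h5 : (W : Set G).ncard ≤ ({1, c} : Finset G).card := by
      rw [← Set.ncard_coe_finset]
      apply Set.ncard_le_ncard _ (Set.toFinite _)
      intro y hy
      by_cases h1 : y = 1
      · simp [h1]
      · simp [hcon y hy h1]
    have h6 : Nat.card W = (W : Set G).ncard := rfl
    have h7 := Finset.card_le_two (a := (1 : G)) (b := c)
    have h8 := h.cW
    omega
  have hsq : ∀ x ∈ W, x * x = 1 := fun x hx => h.sq x (h.WN hx)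
  obtain ⟨k, hk, hk1, hxk⟩ : ∃ k ∈ W, k ≠ 1 ∧ pol Q x k = 0 := by
    rcases z2 (pol Q x b) with h1 | h1
    · exact ⟨b, hb, hb1, h1⟩
    · refine ⟨b * c, W.mul_mem hb hc, fun e => hbc ?_, ?_⟩
      · calc b = b * (c * c) := by rw [hsq c hc, mul_one]
          _ = c := by rw [← mul_assoc, e, one_mul]
      · rw [h.add' (h.WN hb) (h.WN hc) hx, h1, hxc]; decide
  refine ⟨k, hk, hk1, hxk, fun w hw hw1 hwk => ?_⟩
  by_contra h2
  have h3 := (z2 _).resolve_right h2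
  rcases four_mem h.cW hsq hk hw hk1 hw1 (Ne.symm hwk) hc with h4 | h4 | h4 | h4
  · exact hc1 h4
  · rw [h4, hxk] at hxc; exact absurd hxc (by decide)
  · rw [h4, h3] at hxc; exact absurd hxc (by decide)
  · rw [h4, h.add' (h.WN hk) (h.WN hw) hx, hxk, h3] at hxc; exact absurd hxc (by decide)

/-- An invariant subgroup `F ≥ W` without `v` is `W` or has index 2. -/
theorem dich [Finite G] {F L : Subgroup G} (hFN : F ≤ N) (hWF : W ≤ F) (hvF : v ∉ F) (hLC : L ≤ C)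
    (hLF : L ≤ normalizer (F : Set G)) (hLW : ∀ l ∈ L, ∀ w ∈ W, l * w * l⁻¹ ∈ W)
    (htr : ∀ a ∈ W, a ≠ 1 → ∀ b ∈ W, b ≠ 1 → ∃ l ∈ L, l * a * l⁻¹ = b) :
    F = W ∨ ∀ y ∈ N, y ∈ F ∨ y * v ∈ F := by
  by_cases hF : ∀ x ∈ F, ∀ y ∈ W, pol Q x y = 0
  · left
    refine le_antisymm (fun x hx => ?_) hWF
    rcases h.perp x (hFN hx) (hF x hx) with h1 | h1
    · exact h1
    · exfalso
      apply hvF
      have := F.mul_mem (F.inv_mem hx) (hWF h1)
      rwa [inv_mul_cancel_left] at this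
  · right
    push Not at hF
    obtain ⟨x, hx, c, hc, hxc⟩ := hF
    have hxc' := (z2 _).resolve_left hxc
    obtain ⟨k, hk, hk1, hxk, hxk'⟩ := h.ker (hFN hx) ⟨c, hc, hxc'⟩
    intro y hy
    by_cases hyW : ∀ w ∈ W, pol Q y w = 0
    · rcases h.perp y hy hyW with h1 | h1
      · exact Or.inl (hWF h1)
      · exact Or.inr (hWF h1)
    · push Not at hyW
      obtain ⟨d, hd, hyd⟩ := hyW
      obtain ⟨m, hm, hm1, hym, hym'⟩ := h.ker hy ⟨d, hd, (z2 _).resolve_left hyd⟩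
      obtain ⟨l, hl, hlk⟩ := htr k hk hk1 m hm hm1
      set x' := l * x * l⁻¹ with hx'
      have hx'F : x' ∈ F := (mem_normalizer_iff.1 (hLF hl) x).1 hx
      -- `f(x', w) = f(x, l⁻¹ w l)`
      have h1 : ∀ w ∈ W, pol Q x' w = pol Q x (l⁻¹ * w * l) := by
        intro w hw
        have h2 : l⁻¹ * w * l ∈ W := by
          have := hLW l⁻¹ (L.inv_mem hl) w hw
          rwa [inv_inv] at this
        have h3 := h.pol_inv (hLC hl) (hFN hx) (h.WN h2)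
        have h4 : l * (l⁻¹ * w * l) * l⁻¹ = w := by group
        rw [h4] at h3
        exact h3
      have h2 : ∀ w ∈ W, pol Q (x' * y) w = 0 := by
        intro w hw
        rw [h.add x' (hFN hx'F) y hy w (h.WN hw)]
        by_cases hw1 : w = 1
        · rw [hw1, h.one_right (hFN hx'F), h.one_right hy, add_zero]
        by_cases hwm : w = m
        · rw [hwm, hym, h1 m hm, ← hlk]
          have e : l⁻¹ * (l * k * l⁻¹) * l = k := by group
          rw [e, hxk, add_zero]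
        · have h3 : l⁻¹ * w * l ∈ W := by
            have := hLW l⁻¹ (L.inv_mem hl) w hw
            rwa [inv_inv] at this
          rw [hym' w hw hw1 hwm, h1 w hw, hxk' _ h3 (fun e => hw1 ?_) (fun e => hwm ?_)]
          · decide
          · calc w = l * (l⁻¹ * w * l) * l⁻¹ := by group
              _ = 1 := by rw [e]; group
          · calc w = l * (l⁻¹ * w * l) * l⁻¹ := by group
              _ = m := by rw [e, hlk]
      have h3 : ∀ t, x' * y * t ∈ F → y * t ∈ F := fun t ht => by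
        have := F.mul_mem (F.inv_mem hx'F) ht
        have e : x'⁻¹ * (x' * y * t) = y * t := by group
        rwa [e] at this
      rcases h.perp _ (N.mul_mem (hFN hx'F) hy) h2 with h4 | h4
      · left
        have := h3 1 (by rw [mul_one]; exact hWF h4)
        rwa [mul_one] at this
      · exact Or.inr (h3 v (hWF h4))

end Frm

end Cfsg.Agent.Omega.IId.SpForm

end

section


/-!
# II.d, CASE 1, `q = 2`: the rank argument (bb OMEGA #15930 (C))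

helper310.  `GOrth C N r c`; `R ≤ N` totally isotropic, `r ∈ R`, `c ∉ R`; `M = C_C(r)`.  If among any three elements
of `M` not normalising `R` two lie in the same double coset of `N_M(R)`, and `|R| > 4`, then `|R| = 8` and
`R` is the set of singular vectors of `R^⊥`; `|N| = 128`.
-/

set_option autoImplicit false
set_option linter.unusedSectionVars false
set_option linter.unusedVariables false

namespace Cfsg.Agent.Omega.IId.PlaneRk

open Cfsg.Agent.Omega.TV hiding z2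
open Subgroup Cfsg.Agent.Omega.IId.PlaneSy
open Cfsg.Agent.Omega.IId.SpForm (two_mul_card_le)
open Cfsg.Agent.Omega.IId.SpSide (card_le_two_mul)

variable {G : Type*} [Group G]

theorem mem_zp2 {c x : G} (hc : c * c = 1) : x ∈ zpowers c ↔ x = 1 ∨ x = c := by
  constructor
  · intro hx
    obtain ⟨k, rfl⟩ := mem_zpowers_iff.1 hx
    have h2 : c ^ (2 : ℤ) = 1 := by rw [zpow_two, hc]
    rcases Int.even_or_odd' k with ⟨m, hm | hm⟩
    · left
      rw [hm, zpow_mul, h2, one_zpow]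
    · right
      rw [hm, zpow_add, zpow_mul, h2, one_zpow, one_mul, zpow_one]
  · rintro (rfl | rfl)
    · exact one_mem _
    · exact mem_zpowers _

/-- kernel of a nonzero functional -/
theorem card_ker [Finite G] {A K : Subgroup G} {f : G → ZMod 2} (hadd : ∀ x ∈ A, ∀ y ∈ A, f (x * y) = f x + f y)
    (hK : ∀ x, x ∈ K ↔ x ∈ A ∧ f x = 0) (hne : ∃ x ∈ A, f x = 1) : Nat.card A = 2 * Nat.card K := by
  have hKA : K ≤ A := fun x hx => ((hK x).1 hx).1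
  have f1 : f 1 = 0 := by
    have := hadd 1 A.one_mem 1 A.one_mem
    rw [one_mul, z2_self] at this
    exact this
  apply le_antisymm
  · have h1 := card_le_two_mul (K := K) (H := A) (fun x hx y hy hxK hyK => by
      have hx1 : f x = 1 := (z2 _).resolve_left fun e => hxK ((hK x).2 ⟨hx, e⟩)
      have hy1 : f y = 1 := (z2 _).resolve_left fun e => hyK ((hK y).2 ⟨hy, e⟩)
      refine (hK _).2 ⟨mul_mem (inv_mem hx) hy, ?_⟩
      have h2 := hadd x⁻¹ (inv_mem hx) x hx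
      rw [inv_mul_cancel, f1, hx1] at h2
      rw [hadd _ (inv_mem hx) _ hy, hy1, ← h2])
    rwa [inf_eq_left.2 hKA] at h1
  · obtain ⟨x, hx, hx1⟩ := hne
    exact two_mul_card_le hKA ⟨x, hx, fun e => by
      rw [((hK x).1 e).2] at hx1
      exact absurd hx1 (by decide)⟩

/-! ### symplectic systems from an orthogonal module -/

/-- The symplectic system of an orthogonal module. -/
theorem sy_of {C N : Subgroup G} {r c : G} (h : GOrth C N r c) : Sy C N (zpowers c) (Bg C r) where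
  sq := h.sq
  nor := h.nor
  YP := zpowers_le.2 h.c_mem
  add := h.add
  comm := h.comm
  self := h.self
  inv := fun g hg x hx y hy => h.B_inv hg hx hy
  zero := fun x hx y hy => by
    rcases (mem_zp2 (h.sq c h.c_mem)).1 hx with rfl | rfl
    · rw [h.comm _ N.one_mem _ hy]; exact GOrth.Bone
    · exact h.Bc y hy
  rad := fun x hx hx0 => (mem_zp2 (h.sq c h.c_mem)).2 (h.rad x hx hx0)
  tv := fun z hz hzY => by
    have hcc := h.sq c h.c_mem
    have hz1 : z ≠ 1 := fun e => hzY (e ▸ one_mem _)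
    have hzc : z ≠ c := fun e => hzY (e ▸ mem_zpowers c)
    rcases z2 (Qg C r z) with hQ | hQ
    · obtain ⟨g, hg, hgn⟩ := h.refl z hz hz1 hQ
      exact ⟨z * c, mul_mem hz h.c_mem, by
        rw [← mul_assoc, h.sq z hz, one_mul]; exact mem_zpowers c, g, hg, hgn⟩
    · have hzc1 : z * c ≠ 1 := fun e => hzc (by
        calc z = z * (c * c) := by rw [hcc, mul_one]
          _ = c := by rw [← mul_assoc, e, one_mul])
      obtain ⟨g, hg, hgn⟩ := h.refl (z * c) (mul_mem hz h.c_mem) hzc1 (by rw [h.Qmulc hz, hQ]; decide)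
      refine ⟨z, hz, by rw [h.sq z hz]; exact one_mem _, g, hg, fun n hn => ?_⟩
      have e1 : Bg C r (z * c) n = Bg C r z n := by
        rw [h.add_left hz h.c_mem hn, h.Bc n hn, add_zero]
      have e2 : z * c * c = z := by rw [mul_assoc, hcc, mul_one]
      rw [← e1, ← e2]
      simpa [mul_assoc, hcc] using hgn n hn

section perp

variable {M P Y : Subgroup G} {B : G → G → ZMod 2} (h : Sy M P Y B)
include h

/-- `⟨Y, r⟩` -/
def yr {r : G} (hr : r ∈ P) : Subgroup G where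
  carrier := {x | x ∈ Y ∨ (x ∈ P ∧ x * r ∈ Y)}
  one_mem' := Or.inl (one_mem _)
  mul_mem' := by
    rintro x y (hx | ⟨hx, hx'⟩) (hy | ⟨hy, hy'⟩)
    · exact Or.inl (mul_mem hx hy)
    · exact Or.inr ⟨mul_mem (h.YP hx) hy, by rw [mul_assoc]; exact mul_mem hx hy'⟩
    · refine Or.inr ⟨mul_mem hx (h.YP hy), ?_⟩
      rw [mul_assoc, h.mc (h.YP hy) hr, ← mul_assoc]
      exact mul_mem hx' hy
    · left
      have e : x * y = x * r * (y * r) := by
        have h1 : x * r * (y * r) = x * (r * (y * r)) := by group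
        rw [h1, ← mul_assoc r, h.mc hr hy, mul_assoc y, h.sq r hr, mul_one]
      rw [e]
      exact mul_mem hx' hy'
  inv_mem' := by
    rintro x (hx | ⟨hx, hx'⟩)
    · exact Or.inl (inv_mem hx)
    · exact Or.inr ⟨inv_mem hx, by rw [h.iv hx]; exact hx'⟩

theorem mem_yr {r : G} (hr : r ∈ P) {x : G} : x ∈ yr h hr ↔ x ∈ Y ∨ (x ∈ P ∧ x * r ∈ Y) := Iff.rfl

theorem mem_pp {r : G} (hr : r ∈ P) {x : G} : x ∈ h.pp hr ↔ x ∈ P ∧ B r x = 0 := Iff.rfl

/-- The symplectic system on `r^⊥`. -/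
theorem sy_perp {r : G} (hr : r ∈ P) : Sy (M ⊓ centralizer {r}) (h.pp hr) (yr h hr) B where
  sq := fun x hx => h.sq x hx.1
  nor := fun g hg x hx => by
    refine ⟨h.nor g hg.1 x hx.1, ?_⟩
    have e : r = g * r * g⁻¹ := by
      rw [mem_centralizer_singleton_iff.1 hg.2, mul_inv_cancel_right]
    rw [e, h.inv g hg.1 r hr x hx.1]
    exact hx.2
  YP := by
    rintro x (hx | ⟨hx, hx'⟩)
    · exact ⟨h.YP hx, by rw [h.comm _ hr _ (h.YP hx)]; exact h.zero x hx r hr⟩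
    · refine ⟨hx, ?_⟩
      have h1 := h.zero _ hx' r hr
      rw [h.add_left hx hr hr, h.self r hr, add_zero] at h1
      rw [h.comm _ hr _ hx, h1]
  add := fun x hx y hy z hz => h.add x hx.1 y hy.1 z hz.1
  comm := fun x hx y hy => h.comm x hx.1 y hy.1
  self := fun x hx => h.self x hx.1
  inv := fun g hg x hx y hy => h.inv g hg.1 x hx.1 y hy.1
  zero := by
    rintro x (hx | ⟨hx, hx'⟩) y hy
    · exact h.zero x hx y hy.1
    · have h1 := h.zero _ hx' y hy.1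
      rw [h.add_left hx hr hy.1, hy.2, add_zero] at h1
      exact h1
  rad := fun x hx hx0 => by
    rcases h.radstep le_rfl hr hx.1 (fun z hz hz0 => hx0 z ⟨hz, hz0⟩) with h1 | h1
    · exact Or.inl (h.rad x hx.1 h1)
    · exact Or.inr ⟨hx.1, h.rad _ (mul_mem hx.1 hr) h1⟩
  tv := fun z hz hzY => by
    obtain ⟨z', hz', hzz, g, hg, hgn⟩ := h.tv z hz.1 fun e => hzY (Or.inl e)
    refine ⟨z', ⟨hz', ?_⟩, Or.inl hzz, g, ⟨hg, ?_⟩, fun n hn => hgn n hn.1⟩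
    · have h1 := hz.2
      rw [h.comm _ hr _ hz.1, h.congr hz.1 hz' hr hzz] at h1
      rw [h.comm _ hr _ hz', h1]
    · rcases hgn r hr with ⟨-, h1⟩ | ⟨h1, -⟩
      · exact mem_centralizer_singleton_iff.2 (mul_inv_eq_iff_eq_mul.1 h1)
      · rw [h.comm _ hz.1 _ hr, hz.2] at h1
        exact absurd h1 (by decide)

end perp

/-! ### The rank argument -/

/-- `{t ∈ R | m t m⁻¹ ∈ R}` -/
def II (R : Subgroup G) (m : G) : Subgroup G where
  carrier := {t | t ∈ R ∧ m * t * m⁻¹ ∈ R}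
  one_mem' := ⟨one_mem _, by simp⟩
  mul_mem' := by
    rintro x y ⟨hx, hx'⟩ ⟨hy, hy'⟩
    refine ⟨mul_mem hx hy, ?_⟩
    have e : m * (x * y) * m⁻¹ = m * x * m⁻¹ * (m * y * m⁻¹) := by group
    rw [e]
    exact mul_mem hx' hy'
  inv_mem' := by
    rintro x ⟨hx, hx'⟩
    refine ⟨inv_mem hx, ?_⟩
    have e : m * x⁻¹ * m⁻¹ = (m * x * m⁻¹)⁻¹ := by group
    rw [e]
    exact inv_mem hx'

theorem mem_II {R : Subgroup G} {m t : G} : t ∈ II R m ↔ t ∈ R ∧ m * t * m⁻¹ ∈ R := Iff.rfl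

/-- `m' = a m b` with `a`, `b` in `C`, normalising `R` -/
def DN (C R : Subgroup G) (m m' : G) : Prop :=
  ∃ a ∈ C ⊓ normalizer (R : Set G), ∃ b ∈ C ⊓ normalizer (R : Set G), m' = a * m * b

theorem DN.card {C R : Subgroup G} {m m' : G} (h : DN C R m m') : Nat.card (II R m') = Nat.card (II R m) := by
  obtain ⟨a, ha, b, hb, rfl⟩ := h
  refine Nat.card_congr
    { toFun := fun t => ⟨b * t * b⁻¹, (mem_normalizer_iff.1 hb.2 _).1 t.2.1, ?_⟩
      invFun := fun t => ⟨b⁻¹ * t * b, ?_, ?_⟩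
      left_inv := fun t => Subtype.ext (by show b⁻¹ * (b * t * b⁻¹) * b = t; group)
      right_inv := fun t => Subtype.ext (by show b * (b⁻¹ * t * b) * b⁻¹ = t; group) }
  · have h1 := (mem_normalizer_iff.1 (inv_mem ha.2) _).1 t.2.2
    have e : a⁻¹ * (a * m * b * t * (a * m * b)⁻¹) * a⁻¹⁻¹ = m * (b * t * b⁻¹) * m⁻¹ := by group
    rwa [e] at h1
  · have h1 := (mem_normalizer_iff.1 (inv_mem hb.2) _).1 t.2.1
    rwa [inv_inv] at h1
  · have h1 := (mem_normalizer_iff.1 ha.2 _).1 t.2.2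
    have e : a * (m * t * m⁻¹) * a⁻¹ = a * m * b * (b⁻¹ * t * b) * (a * m * b)⁻¹ := by group
    rwa [e] at h1

structure Rk (C N R : Subgroup G) (r c : G) : Prop where
  o : GOrth C N r c
  RN : R ≤ N
  rR : r ∈ R
  r1 : r ≠ 1
  cR : c ∉ R
  iso : ∀ x ∈ R, ∀ y ∈ R, Bg C r x y = 0
  pig : ∀ m₁ ∈ C ⊓ centralizer {r}, ∀ m₂ ∈ C ⊓ centralizer {r}, ∀ m₃ ∈ C ⊓ centralizer {r},
    m₁ ∉ normalizer (R : Set G) → m₂ ∉ normalizer (R : Set G) → m₃ ∉ normalizer (R : Set G) →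
    DN C R m₁ m₂ ∨ DN C R m₁ m₃ ∨ DN C R m₂ m₃

namespace Rk

variable {C N R : Subgroup G} {r c : G} (h : Rk C N R r c)
include h

theorem cc : c * c = 1 := h.o.sq c h.o.c_mem

/-- elements of `R` are outside the radical -/
theorem not_zp {t : G} (ht : t ∈ R) (ht1 : t ≠ 1) : t ∉ zpowers c := fun e => by
  rcases (mem_zp2 h.cc).1 e with h1 | h1
  · exact ht1 h1
  · exact h.cR (h1 ▸ ht)

/-- a functional vanishing on `r`, not on `t` -/
theorem exists_dual {t : G} (ht : t ∈ R) (ht1 : t ≠ 1) (htr : t ≠ r) : ∃ d ∈ N, Bg C r d r = 0 ∧ Bg C r d t = 1 := by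
  have hs := sy_of h.o
  have hrr := h.o.sq r h.o.r_mem
  have h1 : t * r ≠ 1 := fun e => htr (by
    calc t = t * (r * r) := by rw [hrr, mul_one]
      _ = r := by rw [← mul_assoc, e, one_mul])
  obtain ⟨z, hz, z1, z0⟩ := hs.sep2 (h.RN ht) (h.RN h.rR) (h.not_zp ht ht1) (h.not_zp (mul_mem ht h.rR) h1)
  exact ⟨z, hz, by rw [h.o.comm _ hz _ h.o.r_mem]; exact z0, by rw [h.o.comm _ hz _ (h.RN ht)]; exact z1⟩

/-- the transvection `τ_d` -/
theorem exists_tau {d t : G} (hd : d ∈ N) (hdr : Bg C r d r = 0) (ht : t ∈ N) (hdt : Bg C r d t = 1) :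
    ∃ d' ∈ N, d * d' ∈ zpowers c ∧ (∀ n ∈ N, Bg C r d' n = Bg C r d n) ∧ ∃ g ∈ C ⊓ centralizer {r}, ∀ n ∈ N,
      (Bg C r d n = 0 ∧ g * n * g⁻¹ = n) ∨ (Bg C r d n = 1 ∧ g * n * g⁻¹ = n * d') := by
  have hs := sy_of h.o
  obtain ⟨d', hd', hdd, g, hg, hgn⟩ := hs.tv d hd (hs.not_mem_of ht hdt)
  refine ⟨d', hd', hdd, fun n hn => (hs.congr hd hd' hn hdd).symm, g, ⟨hg, ?_⟩, hgn⟩
  rcases hgn r h.o.r_mem with ⟨-, h1⟩ | ⟨h1, -⟩
  · exact mem_centralizer_singleton_iff.2 (mul_inv_eq_iff_eq_mul.1 h1)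
  · rw [hdr] at h1; exact absurd h1 (by decide)

/-- One more transvection. -/
theorem next [Finite G] {m : G} {S : Subgroup G} (hm : m ∈ C ⊓ centralizer {r}) (hS : S ≤ R) (hrS : r ∈ S)
    (hmS : ∀ t ∈ R, m * t * m⁻¹ ∈ R ↔ t ∈ S) (hmf : ∀ t ∈ S, m * t * m⁻¹ = t) (hc : 2 < Nat.card S) :
    ∃ m' ∈ C ⊓ centralizer {r}, ∃ S' ≤ R, r ∈ S' ∧ (∀ t ∈ R, m' * t * m'⁻¹ ∈ R ↔ t ∈ S') ∧
      (∀ t ∈ S', m' * t * m'⁻¹ = t) ∧ Nat.card S = 2 * Nat.card S' ∧
      ∃ t ∈ R, Bg C r t (m' * t * m'⁻¹) = 1 := by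
  have hs := sy_of h.o
  -- an element of `S` outside `{1, r}`
  obtain ⟨t₀, ht₀, ht1, htr⟩ : ∃ t ∈ S, t ≠ 1 ∧ t ≠ r := by
    by_contra hcon
    push Not at hcon
    have h1 : S ≤ zpowers r := by
      intro x hx
      by_cases hx1 : x = 1
      · rw [hx1]; exact one_mem _
      · rw [hcon x hx hx1]; exact mem_zpowers _
    have h2 := Subgroup.card_le_of_le h1
    rw [Nat.card_zpowers] at h2
    have h3 : orderOf r ≤ 2 := orderOf_le_of_pow_eq_one (by norm_num) (by rw [pow_two, h.o.sq r h.o.r_mem])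
    omega
  have ht₀N := h.RN (hS ht₀)
  obtain ⟨d, hd, dr, dt⟩ := h.exists_dual (hS ht₀) ht1 htr
  obtain ⟨d', hd', -, hdB, g, hg, hgn⟩ := h.exists_tau hd dr ht₀N dt
  -- `S' = S ∩ d^⊥`
  refine ⟨g * m, mul_mem hg hm, S ⊓ hs.pp hd, inf_le_left.trans hS, ⟨hrS, h.o.r_mem, dr⟩, ?_, ?_, ?_, ?_⟩
  · intro t ht
    have e : g * m * t * (g * m)⁻¹ = g * (m * t * m⁻¹) * g⁻¹ := by group
    rw [e]
    have hx := h.o.nor m hm.1 t (h.RN ht)
    -- `m t m⁻¹ ⊥ S`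
    have hxS : Bg C r (m * t * m⁻¹) t₀ = 0 := by
      rw [← hmf t₀ ht₀, h.o.B_inv hm.1 (h.RN ht) ht₀N]
      exact h.iso t ht t₀ (hS ht₀)
    rcases hgn _ hx with ⟨h1, h2⟩ | ⟨h1, h2⟩
    · rw [h2, hmS t ht]
      constructor
      · intro h3
        rw [hmf t h3] at h1
        exact ⟨h3, h.RN ht, h1⟩
      · exact fun h3 => h3.1
    · rw [h2]
      constructor
      · intro h3
        exfalso
        have h4 := h.iso _ h3 t₀ (hS ht₀)
        rw [h.o.add_left hx hd' ht₀N, hxS, hdB t₀ ht₀N, dt] at h4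
        exact absurd h4 (by decide)
      · intro h3
        rw [hmf t h3.1, h3.2.2] at h1
        exact absurd h1 (by decide)
  · intro t ht
    have e : g * m * t * (g * m)⁻¹ = g * (m * t * m⁻¹) * g⁻¹ := by group
    rw [e, hmf t ht.1]
    rcases hgn _ (h.RN (hS ht.1)) with ⟨-, h2⟩ | ⟨h1, -⟩
    · exact h2
    · rw [ht.2.2] at h1; exact absurd h1 (by decide)
  · refine card_ker (f := Bg C r d) (fun x hx y hy => h.o.add d hd x (h.RN (hS hx)) y (h.RN (hS hy))) (fun x => ?_)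
      ⟨t₀, ht₀, dt⟩
    exact ⟨fun hx => ⟨hx.1, hx.2.2⟩, fun hx => ⟨hx.1, h.RN (hS hx.1), hx.2⟩⟩
  · refine ⟨t₀, hS ht₀, ?_⟩
    have e : g * m * t₀ * (g * m)⁻¹ = g * (m * t₀ * m⁻¹) * g⁻¹ := by group
    rw [e, hmf t₀ ht₀]
    rcases hgn _ ht₀N with ⟨h1, -⟩ | ⟨-, h2⟩
    · rw [dt] at h1; exact absurd h1 (by decide)
    · rw [h2, h.o.add _ ht₀N _ ht₀N _ hd', h.o.self _ ht₀N, h.o.comm _ ht₀N _ hd', hdB _ ht₀N, dt]; decide

theorem card_II {m : G} {S : Subgroup G} (hS : S ≤ R) (hmS : ∀ t ∈ R, m * t * m⁻¹ ∈ R ↔ t ∈ S) : II R m = S := by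
  ext t
  exact ⟨fun ht => (hmS t ht.1).1 ht.2, fun ht => ⟨hS ht, (hmS t (hS ht)).2 ht⟩⟩

/-- `m` normalises `R` iff `II R m = R` -/
theorem not_norm {m : G} {S : Subgroup G} [Finite G] (hS : S ≤ R) (hmS : ∀ t ∈ R, m * t * m⁻¹ ∈ R ↔ t ∈ S)
    (hc : Nat.card S < Nat.card R) : m ∉ normalizer (R : Set G) := fun hm => by
  have h1 : R ≤ S := fun t ht => (hmS t ht).1 ((mem_normalizer_iff.1 hm t).1 ht)
  have h2 := Subgroup.card_le_of_le h1
  omega

/-- The first two elements. -/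
theorem two_steps [Finite G] (h4 : 4 < Nat.card R) : ∃ m₁ ∈ C ⊓ centralizer {r}, ∃ m₂ ∈ C ⊓ centralizer {r},
    ∃ S₁ ≤ R, ∃ S₂ ≤ R, r ∈ S₂ ∧ (∀ t ∈ R, m₁ * t * m₁⁻¹ ∈ R ↔ t ∈ S₁) ∧ (∀ t ∈ R, m₂ * t * m₂⁻¹ ∈ R ↔ t ∈ S₂) ∧
      (∀ t ∈ S₂, m₂ * t * m₂⁻¹ = t) ∧ Nat.card R = 2 * Nat.card S₁ ∧ Nat.card S₁ = 2 * Nat.card S₂ ∧
      ∃ t ∈ R, Bg C r t (m₁ * t * m₁⁻¹) = 1 := by
  obtain ⟨m₁, hm₁, S₁, hS₁, hr₁, hmS₁, hmf₁, hc₁, hn⟩ := h.next (m := 1) (S := R) (one_mem _) le_rfl h.rR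
    (fun t ht => by simp [ht]) (fun t _ => by group) (by omega)
  obtain ⟨m₂, hm₂, S₂, hS₂, hr₂, hmS₂, hmf₂, hc₂, -⟩ := h.next hm₁ hS₁ hr₁ hmS₁ hmf₁ (by omega)
  exact ⟨m₁, hm₁, m₂, hm₂, S₁, hS₁, S₂, hS₂, hr₂, hmS₁, hmS₂, hmf₂, hc₁, hc₂, hn⟩

/-- `|R| = 8` -/
theorem card_eq [Finite G] (h4 : 4 < Nat.card R) : Nat.card R = 8 := by
  obtain ⟨m₁, hm₁, m₂, hm₂, S₁, hS₁, S₂, hS₂, hr₂, hmS₁, hmS₂, hmf₂, hc₁, hc₂, -⟩ := h.two_steps h4
  have h2 : 1 < Nat.card S₂ := by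
    have : Nontrivial S₂ := ⟨⟨1, ⟨r, hr₂⟩, fun e => h.r1 (congrArg Subtype.val e).symm⟩⟩
    exact Finite.one_lt_card
  rcases Nat.lt_or_ge 2 (Nat.card S₂) with h3 | h3
  · exfalso
    obtain ⟨m₃, hm₃, S₃, hS₃, hr₃, hmS₃, hmf₃, hc₃, -⟩ := h.next hm₂ hS₂ hr₂ hmS₂ hmf₂ h3
    have p3 : 0 < Nat.card S₃ := Nat.card_pos
    have e1 := h.card_II hS₁ hmS₁
    have e2 := h.card_II hS₂ hmS₂
    have e3 := h.card_II hS₃ hmS₃
    rcases h.pig m₁ hm₁ m₂ hm₂ m₃ hm₃ (h.not_norm hS₁ hmS₁ (by omega)) (h.not_norm hS₂ hmS₂ (by omega))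
      (h.not_norm hS₃ hmS₃ (by omega)) with h5 | h5 | h5
    · have := h5.card
      rw [e1, e2] at this; omega
    · have := h5.card
      rw [e1, e3] at this; omega
    · have := h5.card
      rw [e2, e3] at this; omega
  · omega

/-- `R` is the set of singular vectors of `R^⊥`. -/
theorem sing [Finite G] (h4 : 4 < Nat.card R) {y : G} (hy : y ∈ N) (hyR : ∀ t ∈ R, Bg C r y t = 0)
    (hQ : Qg C r y = 0) : y ∈ R := by
  by_contra hyn
  have hs := sy_of h.o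
  obtain ⟨m₁, hm₁, m₂, hm₂, S₁, hS₁, S₂, hS₂, hr₂, hmS₁, hmS₂, hmf₂, hc₁, hc₂, t₁, ht₁, hn⟩ := h.two_steps h4
  have h8 := h.card_eq h4
  -- the vector `a`
  obtain ⟨a, ha, ar, ay, t₀, ht₀, at₀⟩ : ∃ a ∈ N, Bg C r a r = 0 ∧ Bg C r a y = 0 ∧ ∃ t ∈ R, Bg C r a t = 1 := by
    by_contra hcon
    push Not at hcon
    have key : ∀ t ∈ R, t = 1 ∨ t = r ∨ t = y * c ∨ t = y * c * r := by
      intro t ht
      have htN := h.RN ht
      have h0 : ∀ z ∈ hs.pp h.o.r_mem, Bg C r y z = 0 → Bg C r t z = 0 := by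
        intro z hz hyz
        have h1 := hcon z hz.1 (by rw [h.o.comm _ hz.1 _ h.o.r_mem]; exact hz.2)
          (by rw [h.o.comm _ hz.1 _ hy]; exact hyz) t ht
        rw [h.o.comm _ htN _ hz.1]
        exact (z2 _).resolve_right h1
      have fin : ∀ x ∈ N, (∀ z ∈ hs.pp h.o.r_mem, Bg C r x z = 0) → x = 1 ∨ x = c ∨ x * r = 1 ∨ x * r = c := by
        intro x hx hx0
        rcases hs.radstep le_rfl h.o.r_mem hx (fun z hz hz0 => hx0 z ⟨hz, hz0⟩) with h1 | h1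
        · rcases (mem_zp2 h.cc).1 (hs.rad x hx h1) with h2 | h2
          · exact Or.inl h2
          · exact Or.inr (Or.inl h2)
        · rcases (mem_zp2 h.cc).1 (hs.rad _ (mul_mem hx h.o.r_mem) h1) with h2 | h2
          · exact Or.inr (Or.inr (Or.inl h2))
          · exact Or.inr (Or.inr (Or.inr h2))
      have hrr := h.o.sq r h.o.r_mem
      have hyy := h.o.sq y hy
      have tr_of : t * r = 1 → t = r := fun e => by
        calc t = t * r * r := by rw [mul_assoc, hrr, mul_one]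
          _ = r := by rw [e, one_mul]
      rcases hs.radstep (Z := hs.pp h.o.r_mem) (fun z hz => hz.1) hy htN h0 with h1 | h1
      · rcases fin t htN h1 with h2 | h2 | h2 | h2
        · exact Or.inl h2
        · exact absurd (h2 ▸ ht) h.cR
        · exact Or.inr (Or.inl (tr_of h2))
        · exact absurd (h2 ▸ mul_mem ht h.rR) h.cR
      · have ty : ∀ x, t * y = x → t = x * y := fun x e => by
          rw [← e, mul_assoc, hyy, mul_one]
        have hcy : c * y = y * c := hs.mc h.o.c_mem hy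
        rcases fin _ (mul_mem htN hy) h1 with h2 | h2 | h2 | h2
        · exfalso
          apply hyn
          have := ty 1 h2
          rw [one_mul] at this
          exact this ▸ ht
        · right; right; left
          rw [ty c h2, hcy]
        · exfalso
          apply hyn
          have e1 : t * y = r := by
            calc t * y = t * y * r * r := by rw [mul_assoc _ r r, hrr, mul_one]
              _ = r := by rw [h2, one_mul]
          have e2 : y = t * r := by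
            rw [← e1, ← mul_assoc, h.o.sq t htN, one_mul]
          rw [e2]
          exact mul_mem ht h.rR
        · right; right; right
          have e1 : t * y = c * r := by
            calc t * y = t * y * r * r := by rw [mul_assoc _ r r, hrr, mul_one]
              _ = c * r := by rw [h2]
          rw [ty _ e1, mul_assoc, hs.mc h.o.r_mem hy, ← mul_assoc, hcy]
    -- `|R| ≤ 4`
    classical
    have h5 : (R : Set G) ⊆ (({1, r, y * c, y * c * r} : Finset G) : Set G) := by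
      intro t ht
      simpa using key t ht
    have h6 := Set.ncard_le_ncard h5 (Finset.finite_toSet _)
    rw [Set.ncard_coe_finset] at h6
    have h7 : Nat.card R = (R : Set G).ncard := Nat.card_coe_set_eq _
    have h9 : ({1, r, y * c, y * c * r} : Finset G).card ≤ 4 := Finset.card_le_four
    omega
  have ht₀N := h.RN ht₀
  have hay : a * y ∈ N := mul_mem ha hy
  -- the two transvections
  obtain ⟨a', ha', haa, haB, g, hg, hgn⟩ := h.exists_tau ha ar ht₀N at₀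
  obtain ⟨b', hb', hbb, hbB, k, hk, hkn⟩ := h.exists_tau hay
    (by rw [h.o.add_left ha hy h.o.r_mem, ar, hyR r h.rR, add_zero]) ht₀N
    (by rw [h.o.add_left ha hy ht₀N, at₀, hyR t₀ ht₀, add_zero])
  have hyr : ∀ x ∈ R, Bg C r (a * y) x = Bg C r a x := fun x hx => by
    rw [h.o.add_left ha hy (h.RN hx), hyR x hx, add_zero]
  -- action on `R`
  have act : ∀ x ∈ R, (Bg C r a x = 0 ∧ k * g * x * (k * g)⁻¹ = x) ∨
      (Bg C r a x = 1 ∧ k * g * x * (k * g)⁻¹ = x * (a' * b')) := by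
    intro x hx
    have hxN := h.RN hx
    have e : k * g * x * (k * g)⁻¹ = k * (g * x * g⁻¹) * k⁻¹ := by group
    rw [e]
    rcases hgn x hxN with ⟨h1, h2⟩ | ⟨h1, h2⟩
    · left
      refine ⟨h1, ?_⟩
      rw [h2]
      rcases hkn x hxN with ⟨-, h3⟩ | ⟨h3, -⟩
      · exact h3
      · rw [hyr x hx, h1] at h3; exact absurd h3 (by decide)
    · right
      refine ⟨h1, ?_⟩
      rw [h2]
      rcases hkn _ (mul_mem hxN ha') with ⟨h3, -⟩ | ⟨-, h3⟩
      · exfalso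
        rw [h.o.add _ hay _ hxN _ ha', hyr x hx, h1, h.o.add_left ha hy ha', h.o.comm _ ha _ ha', haB a ha,
          h.o.self a ha, h.o.comm _ hy _ ha', haB y hy, ay] at h3
        exact absurd h3 (by decide)
      · rw [h3, mul_assoc]
  -- `a'b' = y`
  have hcN := h.o.c_mem
  have hab : a' * b' = y := by
    have hyy : a' * b' = y ∨ a' * b' = y * c := by
      have e1 : a = a' ∨ a = c * a' := by
        have haa' := h.o.sq a' ha'
        rcases (mem_zp2 h.cc).1 haa with e | e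
        · left
          calc a = a * a' * a' := by rw [mul_assoc, haa', mul_one]
            _ = a' := by rw [e, one_mul]
        · right
          calc a = a * a' * a' := by rw [mul_assoc, haa', mul_one]
            _ = c * a' := by rw [e]
      have e2 : b' = a * y ∨ b' = a * y * c := by
        have hay2 := h.o.sq _ hay
        rcases (mem_zp2 h.cc).1 hbb with e | e
        · left
          calc b' = a * y * (a * y * b') := by rw [← mul_assoc, hay2, one_mul]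
            _ = a * y := by rw [e, mul_one]
        · right
          calc b' = a * y * (a * y * b') := by rw [← mul_assoc, hay2, one_mul]
            _ = a * y * c := by rw [e]
      have haa' := h.o.sq a' ha'
      have hca : c * a' = a' * c := hs.mc hcN ha'
      have hcy : c * y = y * c := hs.mc hcN hy
      rcases e1 with e1 | e1 <;> rcases e2 with e2 | e2 <;> rw [e2]
      · left
        calc a' * (a * y) = a' * a * y := by group
          _ = y := by rw [e1, haa', one_mul]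
      · right
        calc a' * (a * y * c) = a' * a * y * c := by group
          _ = y * c := by rw [e1, haa', one_mul]
      · right
        calc a' * (a * y) = a' * a * y := by group
          _ = a' * (a' * c) * y := by rw [e1, hca]
          _ = (a' * a') * (c * y) := by group
          _ = y * c := by rw [haa', one_mul, hcy]
      · left
        calc a' * (a * y * c) = a' * a * y * c := by group
          _ = a' * (a' * c) * y * c := by rw [e1, hca]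
          _ = (a' * a') * (c * y) * c := by group
          _ = y * (c * c) := by rw [haa', one_mul, hcy]; group
          _ = y := by rw [h.cc, mul_one]
    rcases hyy with e | e
    · exact e
    · exfalso
      rcases act t₀ ht₀ with ⟨h1, -⟩ | ⟨-, h2⟩
      · rw [at₀] at h1; exact absurd h1 (by decide)
      · have hyc : y * c ∈ N := mul_mem hy hcN
        have h3 := h.o.inv _ (mul_mem hk hg).1 t₀ ht₀N
        rw [h2, e, GOrth.Q_mul, h.o.Qmulc hy, hQ, h.o.add _ ht₀N _ hy _ hcN, h.o.comm _ ht₀N _ hy, hyR t₀ ht₀,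
          h.o.comm _ ht₀N _ hcN, h.o.Bc t₀ ht₀N] at h3
        have h4 : ∀ u : ZMod 2, u + (0 + 1) + (0 + 0) ≠ u := by decide
        exact h4 _ h3
  rw [hab] at act
  -- `S₃ = R ∩ a^⊥`
  have hS₃ : ∀ t ∈ R, k * g * t * (k * g)⁻¹ ∈ R ↔ t ∈ R ⊓ hs.pp ha := by
    intro t ht
    rcases act t ht with ⟨h1, h2⟩ | ⟨h1, h2⟩
    · rw [h2]
      exact ⟨fun _ => ⟨ht, h.RN ht, h1⟩, fun _ => ht⟩
    · rw [h2]
      constructor
      · intro h3
        exfalso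
        apply hyn
        have h4 := mul_mem (inv_mem ht) h3
        rwa [inv_mul_cancel_left] at h4
      · intro h3
        rw [h3.2.2] at h1
        exact absurd h1 (by decide)
  have hc₃ : Nat.card R = 2 * Nat.card (R ⊓ hs.pp ha : Subgroup G) := by
    refine card_ker (f := Bg C r a) (fun x hx y hy => h.o.add a ha x (h.RN hx) y (h.RN hy)) (fun x => ?_)
      ⟨t₀, ht₀, at₀⟩
    exact ⟨fun hx => ⟨hx.1, hx.2.2⟩, fun hx => ⟨hx.1, h.RN hx.1, hx.2⟩⟩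
  have hperp : ∀ t ∈ R, ∀ t' ∈ R, Bg C r t (k * g * t' * (k * g)⁻¹) = 0 := by
    intro t ht t' ht'
    rcases act t' ht' with ⟨-, h2⟩ | ⟨-, h2⟩
    · rw [h2]; exact h.iso t ht t' ht'
    · rw [h2, h.o.add _ (h.RN ht) _ (h.RN ht') _ hy, h.iso t ht t' ht', h.o.comm _ (h.RN ht) _ hy, hyR t ht, add_zero]
  have e1 := h.card_II hS₁ hmS₁
  have e2 := h.card_II hS₂ hmS₂
  have e3 := h.card_II inf_le_left hS₃
  rcases h.pig m₁ hm₁ m₂ hm₂ (k * g) (mul_mem hk hg) (h.not_norm hS₁ hmS₁ (by omega))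
    (h.not_norm hS₂ hmS₂ (by omega)) (h.not_norm inf_le_left hS₃ (by omega)) with h5 | h5 | h5
  · have := h5.card
    rw [e1, e2] at this; omega
  · -- both of index 2
    obtain ⟨u, hu, v, hv, e⟩ := h5
    have h6 := hperp (u * t₁ * u⁻¹) ((mem_normalizer_iff.1 hu.2 _).1 ht₁) (v⁻¹ * t₁ * v) (by
      have := (mem_normalizer_iff.1 (inv_mem hv.2) _).1 ht₁
      rwa [inv_inv] at this)
    have e7 : k * g * (v⁻¹ * t₁ * v) * (k * g)⁻¹ = u * (m₁ * t₁ * m₁⁻¹) * u⁻¹ := by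
      rw [e]; group
    rw [e7, h.o.B_inv hu.1 (h.RN ht₁) (h.o.nor _ hm₁.1 _ (h.RN ht₁)), hn] at h6
    exact absurd h6 (by decide)
  · have := h5.card
    rw [e2, e3] at this; omega

/-- `|N| = 128` -/
theorem card_N [Finite G] (h4 : 4 < Nat.card R) : Nat.card N = 128 := by
  have hs := sy_of h.o
  have h8 := h.card_eq h4
  have hcN := h.o.c_mem
  -- `|r^⊥| = |N| / 2`, ...
  obtain ⟨m₁, hm₁, m₂, hm₂, S₁, hS₁, S₂, hS₂, hr₂, hmS₁, hmS₂, hmf₂, hc₁, hc₂, -⟩ := h.two_steps h4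
  have hr₁ : r ∈ S₁ := (hmS₁ r h.rR).1 (by
    have : m₁ * r * m₁⁻¹ = r := by rw [mem_centralizer_singleton_iff.1 hm₁.2, mul_inv_cancel_right]
    rw [this]; exact h.rR)
  obtain ⟨t, ht, htr⟩ : ∃ t ∈ S₁, t ≠ 1 ∧ t ≠ r := by
    by_contra hcon
    push Not at hcon
    have h1 : S₁ ≤ zpowers r := by
      intro x hx
      by_cases hx1 : x = 1
      · rw [hx1]; exact one_mem _
      · rw [hcon x hx hx1]; exact mem_zpowers _
    have h2 := Subgroup.card_le_of_le h1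
    rw [Nat.card_zpowers] at h2
    have h3 : orderOf r ≤ 2 := orderOf_le_of_pow_eq_one (by norm_num) (by rw [pow_two, h.o.sq r h.o.r_mem])
    omega
  obtain ⟨u, hu, hu1⟩ : ∃ u ∈ R, u ∉ S₁ := by
    by_contra hcon
    push Not at hcon
    have := Subgroup.card_le_of_le (show R ≤ S₁ from hcon)
    omega
  have htR := hS₁ ht
  have htN := h.RN htR
  have huN := h.RN hu
  have hrN := h.o.r_mem
  have hrr := h.o.sq r hrN
  have eqr : ∀ x y : G, y ∈ N → x * y = 1 → x = y := fun x y hy e => by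
    calc x = x * (y * y) := by rw [h.o.sq y hy, mul_one]
      _ = y := by rw [← mul_assoc, e, one_mul]
  have n1 : t * r ∉ zpowers c := h.not_zp (mul_mem htR h.rR) fun e => htr.2 (eqr _ _ hrN e)
  have n2 : ∀ x ∈ S₁, u * x ∉ zpowers c := fun x hx => h.not_zp (mul_mem hu (hS₁ hx)) fun e =>
    hu1 (by rw [eqr u x (h.RN (hS₁ hx)) e]; exact hx)
  obtain ⟨z₁, hz₁, z₁r⟩ := hs.sep1 hrN (h.not_zp h.rR h.r1)
  obtain ⟨z₂, hz₂, z₂t, z₂r⟩ := hs.sep2 htN hrN (h.not_zp htR htr.1) n1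
  obtain ⟨z₃, hz₃, z₃u, z₃t, z₃r⟩ := hs.sep3 huN htN hrN (by simpa using n2 1 (one_mem _)) (n2 t ht) (n2 r hr₁)
    (by rw [mul_assoc]; exact n2 _ (mul_mem ht hr₁))
  have a1 : Nat.card N = 2 * Nat.card (hs.pp hrN) :=
    card_ker (f := Bg C r r) (fun x hx y hy => h.o.add r hrN x hx y hy) (fun x => Iff.rfl) ⟨z₁, hz₁, z₁r⟩
  have a2 : Nat.card (hs.pp hrN) = 2 * Nat.card (hs.pp hrN ⊓ hs.pp htN : Subgroup G) :=
    card_ker (f := Bg C r t) (fun x hx y hy => h.o.add t htN x hx.1 y hy.1)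
      (fun x => ⟨fun hx => ⟨hx.1, hx.2.2⟩, fun hx => ⟨hx.1, hx.1.1, hx.2⟩⟩) ⟨z₂, ⟨hz₂, z₂r⟩, z₂t⟩
  have a3 : Nat.card (hs.pp hrN ⊓ hs.pp htN : Subgroup G) =
      2 * Nat.card (hs.pp hrN ⊓ hs.pp htN ⊓ hs.pp huN : Subgroup G) :=
    card_ker (f := Bg C r u) (fun x hx y hy => h.o.add u huN x hx.1.1 y hy.1.1)
      (fun x => ⟨fun hx => ⟨hx.1, hx.2.2⟩, fun hx => ⟨hx.1, hx.1.1.1, hx.2⟩⟩) ⟨z₃, ⟨⟨hz₃, z₃r⟩, ⟨hz₃, z₃t⟩⟩, z₃u⟩
  -- `R = ⟨r, t, u⟩`
  have hgen : ∀ x ∈ hs.pp hrN ⊓ hs.pp htN ⊓ hs.pp huN, ∀ y ∈ R, Bg C r x y = 0 := by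
    intro x hx
    have hxN : x ∈ N := hx.1.1.1
    have hp : R ≤ hs.pp hxN := by
      have hle : R ⊓ hs.pp hxN ≤ R := inf_le_left
      -- a subgroup of `R` containing `r`, `t`, `u` is `R`
      have c1 : S₁ ≤ hs.pp hxN := by
        have h4 : 2 * Nat.card (zpowers r) ≤ Nat.card (S₁ ⊓ hs.pp hxN : Subgroup G) := by
          refine two_mul_card_le (zpowers_le.2 ⟨hr₁, hrN, ?_⟩) ⟨t, ⟨ht, htN, ?_⟩, fun e => ?_⟩
          · rw [h.o.comm _ hxN _ hrN]; exact hx.1.1.2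
          · rw [h.o.comm _ hxN _ htN]; exact hx.1.2.2
          · rcases (mem_zp2 hrr).1 e with e1 | e1
            · exact htr.1 e1
            · exact htr.2 e1
        have h5 : Nat.card (zpowers r) = 2 := by
          rw [Nat.card_zpowers]
          exact orderOf_eq_prime (by rw [pow_two, hrr]) h.r1
        have h6 : S₁ ⊓ hs.pp hxN = S₁ := Subgroup.eq_of_le_of_card_ge inf_le_left (by omega)
        exact inf_eq_left.1 h6
      have h4 : 2 * Nat.card S₁ ≤ Nat.card (R ⊓ hs.pp hxN : Subgroup G) := by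
        refine two_mul_card_le (le_inf hS₁ c1) ⟨u, ⟨hu, huN, ?_⟩, hu1⟩
        rw [h.o.comm _ hxN _ huN]; exact hx.2.2
      have h6 : R ⊓ hs.pp hxN = R := Subgroup.eq_of_le_of_card_ge inf_le_left (by omega)
      exact inf_eq_left.1 h6
    exact fun y hy => (hp hy).2
  -- `R^⊥ = R ∪ Rc`
  have a4 : Nat.card (hs.pp hrN ⊓ hs.pp htN ⊓ hs.pp huN : Subgroup G) = 2 * Nat.card R := by
    have hRle : R ≤ hs.pp hrN ⊓ hs.pp htN ⊓ hs.pp huN := fun x hx =>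
      ⟨⟨⟨h.RN hx, h.iso r h.rR x hx⟩, ⟨h.RN hx, h.iso t htR x hx⟩⟩, ⟨h.RN hx, h.iso u hu x hx⟩⟩
    apply le_antisymm
    · have h5 := card_le_two_mul (K := R) (H := hs.pp hrN ⊓ hs.pp htN ⊓ hs.pp huN) (fun x hx y hy hxR hyR => by
        have key : ∀ x ∈ hs.pp hrN ⊓ hs.pp htN ⊓ hs.pp huN, x ∉ R → x * c ∈ R := by
          intro x hx hxR
          have hxN : x ∈ N := hx.1.1.1
          rcases z2 (Qg C r x) with h6 | h6
          · exact absurd (h.sing h4 hxN (hgen x hx) h6) hxR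
          · refine h.sing h4 (mul_mem hxN hcN) (fun y hy => ?_) (by rw [h.o.Qmulc hxN, h6]; decide)
            rw [h.o.add_left hxN hcN (h.RN hy), hgen x hx y hy, h.o.Bc _ (h.RN hy), add_zero]
        have h6 := mul_mem (inv_mem (key x hx hxR)) (key y hy hyR)
        have hxN : x ∈ N := hx.1.1.1
        have hyN : y ∈ N := hy.1.1.1
        have e : (x * c)⁻¹ * (y * c) = x⁻¹ * y := by
          rw [hs.mc hxN hcN, mul_inv_rev, mul_assoc, hs.mc hyN hcN, ← mul_assoc c⁻¹, inv_mul_cancel, one_mul]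
        rwa [e] at h6)
      rwa [inf_eq_left.2 hRle] at h5
    · refine two_mul_card_le hRle ⟨c, ⟨⟨⟨hcN, ?_⟩, ⟨hcN, ?_⟩⟩, ⟨hcN, ?_⟩⟩, h.cR⟩
      · rw [h.o.comm _ hrN _ hcN]; exact h.o.Bc _ hrN
      · rw [h.o.comm _ htN _ hcN]; exact h.o.Bc _ htN
      · rw [h.o.comm _ huN _ hcN]; exact h.o.Bc _ huN
  omega

end Rk

end Cfsg.Agent.Omega.IId.PlaneRk

end

section


/-!
# II.d, CASE 1, `q = 2`, case B: counting with a pairing

helper310.  `dual_card` : a bi-additive pairing `f : A × H → F₂` with left kernel in `Y`, `K ≤ H` in the right kernel: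
`|A| |K| ≤ |Y| |H|`.
-/

set_option autoImplicit false
set_option linter.unusedVariables false

namespace Cfsg.Agent.Omega.IId.Pf.Dual

open Cfsg.Agent.Omega.TV hiding z2
open Subgroup Cfsg.Agent.Omega.IId.PlaneSy Cfsg.Agent.Omega.IId.PlaneRk
open Cfsg.Agent.Omega.IId.SpForm (two_mul_card_le)
open Cfsg.Agent.Omega.IId.SpSide (card_le_two_mul)

variable {G : Type*} [Group G]

/-- kernel of an additive function -/
def ker (A : Subgroup G) (f : G → ZMod 2) (hadd : ∀ x ∈ A, ∀ y ∈ A, f (x * y) = f x + f y) : Subgroup G where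
  carrier := {x | x ∈ A ∧ f x = 0}
  one_mem' := ⟨A.one_mem, by
    have := hadd 1 A.one_mem 1 A.one_mem
    rw [one_mul, z2_self] at this
    exact this⟩
  mul_mem' := by
    rintro x y ⟨hx, hx'⟩ ⟨hy, hy'⟩
    exact ⟨mul_mem hx hy, by rw [hadd x hx y hy, hx', hy', add_zero]⟩
  inv_mem' := by
    rintro x ⟨hx, hx'⟩
    refine ⟨inv_mem hx, ?_⟩
    have h1 := hadd 1 A.one_mem 1 A.one_mem
    rw [one_mul, z2_self] at h1
    have h2 := hadd x⁻¹ (inv_mem hx) x hx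
    rw [inv_mul_cancel, h1, hx', add_zero] at h2
    exact h2.symm

theorem mem_ker {A : Subgroup G} {f : G → ZMod 2} {hadd : ∀ x ∈ A, ∀ y ∈ A, f (x * y) = f x + f y} {x : G} :
    x ∈ ker A f hadd ↔ x ∈ A ∧ f x = 0 := Iff.rfl

theorem card_ker' [Finite G] {A : Subgroup G} {f : G → ZMod 2} (hadd : ∀ x ∈ A, ∀ y ∈ A, f (x * y) = f x + f y)
    (hne : ∃ x ∈ A, f x = 1) : Nat.card A = 2 * Nat.card (ker A f hadd) :=
  card_ker hadd (fun _ => Iff.rfl) hne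

/-- the annihilator -/
def ann (A H : Subgroup G) (f : G → G → ZMod 2) (hh : ∀ x ∈ A, ∀ y ∈ H, ∀ z ∈ H, f x (y * z) = f x y + f x z) :
    Subgroup G where
  carrier := {z | z ∈ H ∧ ∀ x ∈ A, f x z = 0}
  one_mem' := ⟨H.one_mem, fun x hx => by
    have := hh x hx 1 H.one_mem 1 H.one_mem
    rw [one_mul, z2_self] at this
    exact this⟩
  mul_mem' := by
    rintro y z ⟨hy, hy'⟩ ⟨hz, hz'⟩
    exact ⟨mul_mem hy hz, fun x hx => by rw [hh x hx y hy z hz, hy' x hx, hz' x hx, add_zero]⟩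
  inv_mem' := by
    rintro y ⟨hy, hy'⟩
    refine ⟨inv_mem hy, fun x hx => ?_⟩
    have h1 := hh x hx 1 H.one_mem 1 H.one_mem
    rw [one_mul, z2_self] at h1
    have h2 := hh x hx y⁻¹ (inv_mem hy) y hy
    rw [inv_mul_cancel, h1, hy' x hx, add_zero] at h2
    exact h2.symm

theorem mem_ann {A H : Subgroup G} {f : G → G → ZMod 2}
    {hh : ∀ x ∈ A, ∀ y ∈ H, ∀ z ∈ H, f x (y * z) = f x y + f x z} {z : G} :
    z ∈ ann A H f hh ↔ z ∈ H ∧ ∀ x ∈ A, f x z = 0 := Iff.rfl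

theorem dual_card [Finite G] {H Y : Subgroup G} {f : G → G → ZMod 2} (n : ℕ) : ∀ {A : Subgroup G}, Nat.card A = n →
    (∀ x ∈ A, ∀ y ∈ A, ∀ z ∈ H, f (x * y) z = f x z + f y z) →
    (∀ x ∈ A, ∀ y ∈ H, ∀ z ∈ H, f x (y * z) = f x y + f x z) →
    (∀ x ∈ A, (∀ z ∈ H, f x z = 0) → x ∈ Y) → ∀ {K : Subgroup G}, K ≤ H → (∀ z ∈ K, ∀ x ∈ A, f x z = 0) →
    Nat.card A * Nat.card K ≤ Nat.card Y * Nat.card H := by
  induction n using Nat.strong_induction_on with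
  | _ n ih =>
    intro A hn ha hh hY K hKH hK
    by_cases hAY : A ≤ Y
    · exact Nat.mul_le_mul (Subgroup.card_le_of_le hAY) (Subgroup.card_le_of_le hKH)
    obtain ⟨x, hx, hxY⟩ := SetLike.not_le_iff_exists.1 hAY
    obtain ⟨z, hz, hxz⟩ : ∃ z ∈ H, f x z = 1 := by
      by_contra hcon
      push Not at hcon
      exact hxY (hY x hx fun z hz => (z2 _).resolve_right (hcon z hz))
    have hadd : ∀ x ∈ A, ∀ y ∈ A, f (x * y) z = f x z + f y z := fun x hx y hy => ha x hx y hy z hz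
    have hc := card_ker' (f := fun x => f x z) hadd ⟨x, hx, hxz⟩
    set A' := ker A (fun x => f x z) hadd with hA'
    have hA'A : A' ≤ A := fun y hy => hy.1
    have hpos : 0 < Nat.card A' := Nat.card_pos
    have hh' : ∀ x ∈ A', ∀ y ∈ H, ∀ z ∈ H, f x (y * z) = f x y + f x z := fun x hx => hh x (hA'A hx)
    have h1 := ih (Nat.card A') (by omega) (A := A') rfl (fun x hx y hy => ha x (hA'A hx) y (hA'A hy)) hh'
      (fun x hx => hY x (hA'A hx)) (K := ann A' H f hh') (fun y hy => hy.1) (fun y hy => hy.2)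
    have h2 : 2 * Nat.card K ≤ Nat.card (ann A' H f hh') :=
      two_mul_card_le (fun y hy => ⟨hKH hy, fun x hx => hK y hy x (hA'A hx)⟩)
        ⟨z, ⟨hz, fun y hy => hy.2⟩, fun hzK => by
          have := hK z hzK x hx
          rw [hxz] at this
          exact absurd this (by decide)⟩
    calc Nat.card A * Nat.card K = Nat.card A' * (2 * Nat.card K) := by rw [hc]; ring
      _ ≤ Nat.card A' * Nat.card (ann A' H f hh') := Nat.mul_le_mul_left _ h2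
      _ ≤ _ := h1

/-- A totally isotropic subgroup meeting the radical trivially: `|A|² ≤ |N|`. -/
theorem card_iso [Finite G] {C N A : Subgroup G} {r c : G} (o : GOrth C N r c) (hA : A ≤ N) (hc : c ∉ A)
    (hi : ∀ x ∈ A, ∀ y ∈ A, Bg C r x y = 0) : Nat.card A * (2 * Nat.card A) ≤ Nat.card N := by
  have hs := sy_of o
  have hm : ∀ x ∈ A, (∀ z ∈ N, Bg C r x z = 0) → x ∈ (⊥ : Subgroup G) := by
    intro x hx hx0
    rw [mem_bot]
    rcases o.rad x (hA hx) hx0 with h1 | h1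
    · exact h1
    · exact absurd (h1 ▸ hx) hc
  have hh : ∀ x ∈ A, ∀ y ∈ N, ∀ z ∈ N, Bg C r x (y * z) = Bg C r x y + Bg C r x z := fun x hx => o.add x (hA hx)
  have h1 := dual_card (H := N) (Y := ⊥) (f := Bg C r) _ (A := A) rfl
    (fun x hx y hy z hz => o.add_left (hA hx) (hA hy) hz) hh hm
    (K := ann A N (Bg C r) hh) (fun y hy => hy.1) (fun z hz x hx => hz.2 x hx)
  have h2 : 2 * Nat.card A ≤ Nat.card (ann A N (Bg C r) hh) :=
    two_mul_card_le (fun y hy => ⟨hA hy, fun x hx => hi x hx y hy⟩)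
      ⟨c, ⟨o.c_mem, fun x hx => by rw [o.comm x (hA hx) c o.c_mem]; exact o.Bc x (hA hx)⟩, hc⟩
  rw [Subgroup.card_bot, one_mul] at h1
  exact (Nat.mul_le_mul_left _ h2).trans h1

end Cfsg.Agent.Omega.IId.Pf.Dual

end

end

-- merged: Cfsg.Agent.Mrg.Omega.IId.OneJ
section

section


/-!
# II.d, `q = 2`, CASE 1, case B: THEOREM J for the configuration `One`

helper895, OMEGA / II.d (#12430, #13722).  `N₁ = nc v₁ {v₂}`, `N₂ = nc v₂ {v₁}`.

* `Base.z_mem` : `v₁v₂` lies in every nontrivial elementary abelian subgroup of `T` normalised by `T` and `s`;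
* `Base.v1_mem` : `[N₁, N₂] ≠ 1` implies `v₁ ∈ N₁`;
* `One.side`, `One.ctx` : the hypotheses of THEOREM J;
* `One.inter` : `N₁ ∩ N₂ = {1, v₁, v₂, v₁v₂}`;
* `Base.gsys` : the data of THEOREM TV for `C(v₁)` acting on `N₁`, base point `v₂` (no case distinction).
-/

set_option autoImplicit false
set_option linter.dupNamespace false
set_option linter.unusedSectionVars false

namespace Cfsg.Agent.Omega.IId.One

open Subgroup Cfsg Cfsg.Agent.ZN Cfsg.Agent.ZN.ChoiceBase Cfsg.Agent.Omega.IId.ThmJ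
open Cfsg.Agent.Omega.TV

universe u

variable {G : Type u} [Group G]

theorem nc_eq_NN (v : G) (A : Subgroup G) : nc v (A : Set G) = NN A v :=
  le_antisymm (nc_le (le_NN A v) (CC_le_normalizer_NN A v))
    (NN_le (subset_nc v _) (le_normalizer_nc v _))

/-- A nontrivial subgroup normalised by the 2-group `T ≥ X` contains a nontrivial fixed point. -/
theorem exists_fixed [Finite G] {T X : Subgroup G} (hT : IsPGroup 2 T) (hXT : X ≤ T)
    (hn : ∀ t ∈ T, ∀ x ∈ X, t * x * t⁻¹ ∈ X) (hne : X ≠ ⊥) :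
    ∃ z ∈ X, z ≠ 1 ∧ ∀ t ∈ T, t * z = z * t := by
  have hf : Fact (Nat.Prime 2) := ⟨Nat.prime_two⟩
  let _ : MulAction T X :=
    { smul := fun s x => ⟨s * x * (s : G)⁻¹, hn s s.2 x x.2⟩
      one_smul := fun x => Subtype.ext (by
        show ((1 : T) : G) * x * ((1 : T) : G)⁻¹ = x
        simp)
      mul_smul := fun s t x => Subtype.ext (by
        show ((s * t : T) : G) * x * ((s * t : T) : G)⁻¹ = s * (t * x * (t : G)⁻¹) * (s : G)⁻¹
        rw [coe_mul]; group) }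
  have hval : ∀ (s : T) (x : X), ((s • x : X) : G) = s * x * (s : G)⁻¹ := fun s x => rfl
  have hcard : 2 ∣ Nat.card X := by
    have hX : IsPGroup 2 X := hT.to_le hXT
    obtain ⟨n, hn'⟩ := IsPGroup.iff_card.1 hX
    rw [hn']
    have : n ≠ 0 := by
      rintro rfl
      rw [pow_zero] at hn'
      exact hne (Subgroup.card_eq_one.1 hn')
    exact dvd_pow_self 2 this
  have h1 : (1 : X) ∈ MulAction.fixedPoints T X := fun s => Subtype.ext (by rw [hval]; simp)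
  obtain ⟨z, hz, hz1⟩ := hT.exists_fixed_point_of_prime_dvd_card_of_fixed_point X hcard h1
  refine ⟨z, z.2, fun h => hz1 (Subtype.ext h.symm), fun s hs => ?_⟩
  have h3 := congrArg Subtype.val (hz ⟨s, hs⟩)
  rw [hval] at h3
  calc s * (z : G) = s * z * s⁻¹ * s := by group
    _ = z * s := by rw [h3]

namespace Base

variable [Finite G] {T V₁ V₂ L₁ L₂ : Subgroup G} {v₁ v₂ s : G}

section

variable (h : Base T V₁ V₂ L₁ L₂ v₁ v₂ s)
include h

/-- `v₁v₂` lies in every nontrivial elementary abelian subgroup of `T` normalised by `T`, `s`. -/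
theorem z_mem {X : Subgroup G} (hXT : X ≤ T) (hn : ∀ t ∈ T, ∀ x ∈ X, t * x * t⁻¹ ∈ X)
    (hs : ∀ x ∈ X, s * x * s⁻¹ ∈ X) (h2 : ∀ x ∈ X, x * x = 1) (hne : X ≠ ⊥) : v₁ * v₂ ∈ X := by
  obtain ⟨z, hz, hz1, hzT⟩ := exists_fixed h.pT hXT hn hne
  rcases h.fix z (hXT hz) (h2 z hz) hzT with e | e | e | e
  · exact absurd e hz1
  · have h3 := hs z hz
    rw [e] at hz h3
    rw [h.sv1] at h3
    exact mul_mem hz h3
  · have h3 := hs z hz
    rw [e] at hz h3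
    rw [h.sv2] at h3
    exact mul_mem h3 hz
  · rwa [e] at hz

theorem cj_s_V1 : cj s V₁ = V₂ := by
  apply Subgroup.eq_of_le_of_card_ge
  · rintro _ ⟨v, hv, rfl⟩
    exact h.s1 v hv
  · rw [card_cj, h.card1, h.card2]

theorem cj_s_V2 : cj s V₂ = V₁ := h.symm.cj_s_V1

theorem s_N1 {x : G} (hx : x ∈ nc v₁ {v₂}) : s * x * s⁻¹ ∈ nc v₂ {v₁} :=
  conj_nc h.sv1 (fun a ha => by rw [Set.mem_singleton_iff.1 ha]; exact h.sv2) hx

theorem s_N2 {x : G} (hx : x ∈ nc v₂ {v₁}) : s * x * s⁻¹ ∈ nc v₁ {v₂} :=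
  conj_nc h.sv2 (fun a ha => by rw [Set.mem_singleton_iff.1 ha]; exact h.sv1) hx

theorem T_N1 {t x : G} (ht : t ∈ T) (hx : x ∈ nc v₁ {v₂}) : t * x * t⁻¹ ∈ nc v₁ {v₂} :=
  (mem_normalizer_iff.1 (le_normalizer_nc v₁ _ (h.T_le ht)) x).1 hx

theorem T_N2 {t x : G} (ht : t ∈ T) (hx : x ∈ nc v₂ {v₁}) : t * x * t⁻¹ ∈ nc v₂ {v₁} :=
  h.symm.T_N1 ht hx

theorem comm_mem_inf {x y : G} (hx : x ∈ nc v₁ {v₂}) (hy : y ∈ nc v₂ {v₁}) :
    x * y * x⁻¹ * y⁻¹ ∈ nc v₁ {v₂} ⊓ nc v₂ {v₁} := by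
  refine Subgroup.mem_inf.2 ⟨?_, ?_⟩
  · have e : x * y * x⁻¹ * y⁻¹ = x * (y * x⁻¹ * y⁻¹) := by group
    rw [e]
    exact mul_mem hx (h.T_N1 (h.symm.N1_le_T hy) (inv_mem hx))
  · exact mul_mem (h.T_N2 (h.N1_le_T hx) hy) (inv_mem hy)

/-- `[N₁, N₂] ≠ 1` implies `v₁v₂ ∈ N₁ ∩ N₂`. -/
theorem z_mem_inf (hI : ∃ x ∈ nc v₁ {v₂}, ∃ y ∈ nc v₂ {v₁}, x * y ≠ y * x) :
    v₁ * v₂ ∈ nc v₁ {v₂} ⊓ nc v₂ {v₁} := by
  apply h.z_mem (X := nc v₁ {v₂} ⊓ nc v₂ {v₁})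
  · exact inf_le_left.trans h.N1_le_T
  · exact fun t ht x hx => Subgroup.mem_inf.2 ⟨h.T_N1 ht hx.1, h.T_N2 ht hx.2⟩
  · exact fun x hx => Subgroup.mem_inf.2 ⟨h.s_N2 hx.2, h.s_N1 hx.1⟩
  · exact fun x hx => h.N1_sq hx.1
  · intro h0
    obtain ⟨x, hx, y, hy, hxy⟩ := hI
    apply hxy
    have h1 := h.comm_mem_inf hx hy
    rw [h0, mem_bot] at h1
    calc x * y = x * y * x⁻¹ * y⁻¹ * (y * x) := by group
      _ = y * x := by rw [h1, one_mul]

/-- Case B: `v₁ ∈ N₁`. -/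
theorem v1_mem (hI : ∃ x ∈ nc v₁ {v₂}, ∃ y ∈ nc v₂ {v₁}, x * y ≠ y * x) : v₁ ∈ nc v₁ {v₂} := by
  have h2 := mul_mem (h.z_mem_inf hI).1 h.v2_mem_N1
  rwa [mul_assoc, h.vq2, mul_one] at h2

theorem tr1 : ∀ p ∈ V₁, p ≠ 1 → ∀ p' ∈ V₁, p' ≠ 1 →
    ∃ l ∈ centralizer (V₂ : Set G) ⊓ normalizer (V₁ : Set G), l * p' * l⁻¹ = p := by
  intro p hp hp1 p' hp' hp1'
  obtain ⟨l, hl, e⟩ := h.t1 p' hp' hp1' p hp hp1
  exact ⟨l, ⟨mem_centralizer_iff.2 fun v hv => (h.L12 l hl v hv).symm, h.L_norm1 hl⟩, e⟩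

theorem tr2 : ∀ q ∈ V₂, q ≠ 1 → ∀ q' ∈ V₂, q' ≠ 1 →
    ∃ l ∈ centralizer (V₁ : Set G) ⊓ normalizer (V₂ : Set G), l * q' * l⁻¹ = q := h.symm.tr1

/-- `[w, O₂(C(v₁))] ≤ ⟨v₁⟩` for `w ∈ Kk v₁`. -/
theorem Kk_comm {w x : G} (hw : w ∈ Kk v₁) (hx : x ∈ ZN.o2 (cz v₁)) :
    w * x * w⁻¹ * x⁻¹ = 1 ∨ w * x * w⁻¹ * x⁻¹ = v₁ := mem_zp h.vq1 (hw.2 x hx)

end

end Base

/-- The data of THEOREM TV for `C` acting on `N`: the chain condition from a Sylow 2-subgroup of `C`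
fixing `q`. -/
theorem gsys_of [Finite G] {C N T : Subgroup G} {q : G} (hsqN : ∀ x ∈ N, x * x = 1)
    (hnor : ∀ c ∈ C, ∀ n ∈ N, c * n * c⁻¹ ∈ N) (hq : q ∈ N) (hq1 : q ≠ 1)
    (hgen : N ≤ closure {x | ∃ c ∈ C, x = c * q * c⁻¹}) (hTp : T ≤ C) (hT : IsPGroup 2 T)
    (hi : ¬ 2 ∣ T.relIndex C) (hTq : ∀ t ∈ T, t * q = q * t) : GSys C N q where
  sq := hsqN
  nor := hnor
  mem := hq
  ne := hq1
  gen := hgen
  chain := by
    have : Fact (Nat.Prime 2) := ⟨Nat.prime_two⟩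
    intro U hUN hU c hc hcU hcN n hn
    -- the kernel of the action and the stabilizer of the chain, inside `C`
    let F : Subgroup C :=
      { carrier := {c | ∀ n ∈ N, (c : G) * n * (c : G)⁻¹ = n}
        one_mem' := fun n _ => by simp
        mul_mem' := by
          intro a b ha hb n hn
          have e : ((a * b : C) : G) * n * ((a * b : C) : G)⁻¹
              = (a : G) * ((b : G) * n * (b : G)⁻¹) * (a : G)⁻¹ := by
            rw [Subgroup.coe_mul]; group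
          rw [e, hb n hn, ha n hn]
        inv_mem' := by
          intro a ha n hn
          have e : ((a⁻¹ : C) : G) * n * ((a⁻¹ : C) : G)⁻¹
              = (a : G)⁻¹ * n * (a : G) := by
            rw [Subgroup.coe_inv]; group
          rw [e]
          nth_rewrite 1 [← ha n hn]
          group }
    let K : Subgroup C :=
      { carrier := {c | (∀ u ∈ U, (c : G) * u * (c : G)⁻¹ = u) ∧
          ∀ n ∈ N, (c : G) * n * (c : G)⁻¹ * n⁻¹ ∈ U}
        one_mem' := ⟨fun u _ => by simp, fun n _ => by simp⟩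
        mul_mem' := by
          rintro a b ⟨ha, ha'⟩ ⟨hb, hb'⟩
          refine ⟨fun u hu => ?_, fun n hn => ?_⟩
          · have e : ((a * b : C) : G) * u * ((a * b : C) : G)⁻¹
                = (a : G) * ((b : G) * u * (b : G)⁻¹) * (a : G)⁻¹ := by
              rw [Subgroup.coe_mul]; group
            rw [e, hb u hu, ha u hu]
          · have h1 := hb' n hn
            have h2 := ha' n hn
            have e : ((a * b : C) : G) * n * ((a * b : C) : G)⁻¹ * n⁻¹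
                = (a : G) * ((b : G) * n * (b : G)⁻¹ * n⁻¹) * (a : G)⁻¹ *
                  ((a : G) * n * (a : G)⁻¹ * n⁻¹) := by
              rw [Subgroup.coe_mul]; group
            rw [e]
            exact mul_mem (hU a a.2 _ h1) h2
        inv_mem' := by
          rintro a ⟨ha, ha'⟩
          have hinv : ∀ u ∈ U, (a : G)⁻¹ * u * (a : G) = u := by
            intro u hu
            nth_rewrite 1 [← ha u hu]
            group
          refine ⟨fun u hu => ?_, fun n hn => ?_⟩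
          · have e : ((a⁻¹ : C) : G) * u * ((a⁻¹ : C) : G)⁻¹
                = (a : G)⁻¹ * u * (a : G) := by
              rw [Subgroup.coe_inv]; group
            rw [e, hinv u hu]
          · have h1 := ha' n hn
            have e : ((a⁻¹ : C) : G) * n * ((a⁻¹ : C) : G)⁻¹ * n⁻¹
                = (a : G)⁻¹ * ((a : G) * n * (a : G)⁻¹ * n⁻¹)⁻¹ * (a : G) := by
              rw [Subgroup.coe_inv]; group
            rw [e, hinv _ (inv_mem h1)]
            exact inv_mem h1 }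
    have hFn : F.Normal := by
      constructor
      intro a ha g n hn
      have hn' : (g : G)⁻¹ * n * (g : G) ∈ N := by
        have := hnor _ (inv_mem g.2) n hn
        simpa using this
      have e : ((g * a * g⁻¹ : C) : G) * n * ((g * a * g⁻¹ : C) : G)⁻¹
          = (g : G) * ((a : G) * ((g : G)⁻¹ * n * (g : G)) * (a : G)⁻¹) * (g : G)⁻¹ := by
        simp only [Subgroup.coe_mul, Subgroup.coe_inv]; group
      rw [e, ha _ hn']
      group
    have hKn : K.Normal := by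
      constructor
      rintro a ⟨ha, ha'⟩ g
      refine ⟨fun u hu => ?_, fun n hn => ?_⟩
      · have hu' : (g : G)⁻¹ * u * (g : G) ∈ U := by
          have := hU _ (inv_mem g.2) u hu
          simpa using this
        have e : ((g * a * g⁻¹ : C) : G) * u * ((g * a * g⁻¹ : C) : G)⁻¹
            = (g : G) * ((a : G) * ((g : G)⁻¹ * u * (g : G)) * (a : G)⁻¹) * (g : G)⁻¹ := by
          simp only [Subgroup.coe_mul, Subgroup.coe_inv]; group
        rw [e, ha _ hu']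
        group
      · have hn' : (g : G)⁻¹ * n * (g : G) ∈ N := by
          have := hnor _ (inv_mem g.2) n hn
          simpa using this
        have h1 := hU g g.2 _ (ha' _ hn')
        have e : ((g * a * g⁻¹ : C) : G) * n * ((g * a * g⁻¹ : C) : G)⁻¹ * n⁻¹
            = (g : G) * ((a : G) * ((g : G)⁻¹ * n * (g : G)) * (a : G)⁻¹ *
              ((g : G)⁻¹ * n * (g : G))⁻¹) * (g : G)⁻¹ := by
          simp only [Subgroup.coe_mul, Subgroup.coe_inv]; group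
        rw [e]
        exact h1
    have hsqK : ∀ k ∈ K, k * k ∈ F := by
      rintro k ⟨hk, hk'⟩ n hn
      have h1 := hk' n hn
      have h2 := hsqN _ (hUN h1)
      have e1 : (k : G) * n * (k : G)⁻¹ = (k : G) * n * (k : G)⁻¹ * n⁻¹ * n := by group
      have e2 : ((k * k : C) : G) * n * ((k * k : C) : G)⁻¹
          = (k : G) * ((k : G) * n * (k : G)⁻¹) * (k : G)⁻¹ := by
        rw [Subgroup.coe_mul]; group
      rw [e2, e1]
      have e3 : (k : G) * ((k : G) * n * (k : G)⁻¹ * n⁻¹ * n) * (k : G)⁻¹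
          = (k : G) * ((k : G) * n * (k : G)⁻¹ * n⁻¹) * (k : G)⁻¹ *
            ((k : G) * n * (k : G)⁻¹ * n⁻¹) * n := by group
      rw [e3, hk _ h1, h2, one_mul]
    have hTS : IsPGroup 2 (T.subgroupOf C) := hT.of_equiv (subgroupOfEquivOfLe hTp).symm
    -- `K` centralizes `q`
    have hKq : ∀ k ∈ K, (k : G) * q * (k : G)⁻¹ = q := by
      intro k hk
      obtain ⟨t, ht, hf⟩ := exists_mem_sylow_of_sq (hTS.toSylow hi) hKn hFn hsqK hk
      have ht' : (t : G) ∈ T := ht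
      have htq : (t : G) * q * (t : G)⁻¹ = q := by
        rw [hTq _ ht']
        group
      have h1 := hf q hq
      have e : (k : G) * q * (k : G)⁻¹
          = (t : G) * (((t⁻¹ * k : C) : G) * q * ((t⁻¹ * k : C) : G)⁻¹) * (t : G)⁻¹ := by
        simp only [Subgroup.coe_mul, Subgroup.coe_inv]; group
      rw [e, h1, htq]
    -- hence all conjugates of `q`, hence `N`
    have hKall : ∀ x ∈ closure {x | ∃ c ∈ C, x = c * q * c⁻¹}, ∀ k ∈ K,
        (k : G) * x * (k : G)⁻¹ = x := by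
      intro x hx
      induction hx using closure_induction with
      | mem x hx =>
        obtain ⟨d, hd, rfl⟩ := hx
        intro k hk
        have h1 := hKq _ (hKn.conj_mem k hk (⟨d, hd⟩⁻¹ : C))
        have e : (k : G) * (d * q * d⁻¹) * (k : G)⁻¹
            = d * ((((⟨d, hd⟩⁻¹ * k * ((⟨d, hd⟩ : C)⁻¹)⁻¹ : C)) : G) * q *
              (((⟨d, hd⟩⁻¹ * k * ((⟨d, hd⟩ : C)⁻¹)⁻¹ : C)) : G)⁻¹) * d⁻¹ := by
          simp only [Subgroup.coe_mul, Subgroup.coe_inv]; group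
        rw [e, h1]
      | one => intro k _; simp
      | mul x y _ _ hx hy =>
        intro k hk
        have e : (k : G) * (x * y) * (k : G)⁻¹
            = (k : G) * x * (k : G)⁻¹ * ((k : G) * y * (k : G)⁻¹) := by group
        rw [e, hx k hk, hy k hk]
      | inv x _ hx =>
        intro k hk
        have e : (k : G) * x⁻¹ * (k : G)⁻¹ = ((k : G) * x * (k : G)⁻¹)⁻¹ := by group
        rw [e, hx k hk]
    exact hKall n (hgen hn) ⟨c, hc⟩ ⟨hcU, hcN⟩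

/-- **The data of THEOREM TV** for `C(v₁)` acting on `N₁`, base point `v₂`. -/
theorem Base.gsys [Finite G] {T V₁ V₂ L₁ L₂ : Subgroup G} {v₁ v₂ s : G}
    (h : Base T V₁ V₂ L₁ L₂ v₁ v₂ s) : GSys (cz v₁) (nc v₁ {v₂}) v₂ := by
  refine gsys_of (T := T) (fun x hx => h.N1_sq hx)
    (fun c hc n hn => (mem_normalizer_iff.1 (le_normalizer_nc v₁ _ hc) n).1 hn) h.v2_mem_N1 h.v2 ?_
    h.T_le h.pT (h.syl h.T_le le_rfl) h.Tv2
  rw [nc, closure_le]
  rintro _ ⟨g, hg, a, ha, rfl⟩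
  rw [Set.mem_singleton_iff.1 ha]
  exact subset_closure ⟨g, hg, rfl⟩

namespace One

variable {T V₁ V₂ L₁ L₂ : Subgroup G} {v₁ v₂ s : G}

section

variable [Finite G] (h : One T V₁ V₂ L₁ L₂ v₁ v₂ s)
include h

theorem side (hI : ∃ x ∈ nc v₁ {v₂}, ∃ y ∈ nc v₂ {v₁}, x * y ≠ y * x) :
    Side V₁ V₂ := by
  refine Side.of_point (v₁ := v₁) h.q1 h.card1 (fun p hp hp1 => h.tr1 p hp hp1 v₁ h.vV1 h.v1)
    h.half1 ?_ h.V1_le_Q (h.Q_le.trans h.T_norm1) ?_ ?_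
  · exact fun x hx => mem_centralizer_iff.2 fun v hv => (h.halfc1 x hx v hv).symm
  · obtain ⟨w, hw, v, hv, hne⟩ := h.k1
    exact ⟨w, h.Kk_le_Q hw, fun hc => hne (mem_centralizer_iff.1 hc v hv).symm, fun x hx =>
      h.Kk_comm hw hx⟩
  · rw [← nc_eq_NN, ← h.N1_eq]
    exact h.v1_mem hI

omit [Finite G] h in
theorem hI_symm (hI : ∃ x ∈ nc v₁ {v₂}, ∃ y ∈ nc v₂ {v₁}, x * y ≠ y * x) :
    ∃ x ∈ nc v₂ {v₁}, ∃ y ∈ nc v₁ {v₂}, x * y ≠ y * x := by
  obtain ⟨x, hx, y, hy, e⟩ := hI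
  exact ⟨y, hy, x, hx, fun h => e h.symm⟩

/-- The hypotheses of THEOREM J. -/
theorem ctx (hI : ∃ x ∈ nc v₁ {v₂}, ∃ y ∈ nc v₂ {v₁}, x * y ≠ y * x) :
    Ctx V₁ V₂ := by
  have s1 := h.side hI
  have s2 := h.symm.side (hI_symm hI)
  refine ⟨s1, s2, ?_⟩
  by_contra hne
  have hle1 : ThmJ.FF V₁ V₂ ≤ nc v₁ {v₂} := fun x hx => by
    rw [h.N1_eq, nc_eq_NN]
    exact mem_FF.1 hx v₁ h.vV1 h.v1
  have hzm : v₁ * v₂ ∈ (ThmJ.FF V₁ V₂ ⊓ ThmJ.FF V₂ V₁ : Subgroup G) := by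
    apply h.z_mem (X := ThmJ.FF V₁ V₂ ⊓ ThmJ.FF V₂ V₁) (inf_le_left.trans (hle1.trans h.N1_le_T)) _ _ _ hne
    · intro t ht x hx
      have e1 := cj_eq_of_mem_normalizer (h.T_norm1 ht)
      have e2 := cj_eq_of_mem_normalizer (h.T_norm2 ht)
      have h1 : t * x * t⁻¹ ∈ cj t (ThmJ.FF V₁ V₂ ⊓ ThmJ.FF V₂ V₁) := mem_map_of_mem _ hx
      rwa [cj_inf, cj_FF, cj_FF, e1, e2] at h1
    · intro x hx
      have h1 : s * x * s⁻¹ ∈ cj s (ThmJ.FF V₁ V₂ ⊓ ThmJ.FF V₂ V₁) := mem_map_of_mem _ hx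
      rwa [cj_inf, cj_FF, cj_FF, h.cj_s_V1, h.cj_s_V2, inf_comm] at h1
    · exact fun x hx => h.N1_sq (hle1 hx.1)
  obtain ⟨q, hq, hq1, hne2⟩ := four_exists s2.card v₂
  obtain ⟨w, hw, hw', -⟩ := s2.tv q hq hq1
  have hwz : w * (v₁ * v₂) * w⁻¹ = v₁ * v₂ := by
    rw [← mem_centralizer_iff.1 (s2.o2_le_cent_NN hq hq1 hw) _ (mem_FF.1 hzm.2 q hq hq1)]
    group
  have hwv : w * v₁ * w⁻¹ = v₁ := by
    rw [← mem_centralizer_iff.1 (s2.cent q hq hq1 hw) _ h.vV1]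
    group
  have hws := s2.swap hq hq1 h.vV2 h.v2 hne2.symm hw hw'
  have e : w * (v₁ * v₂) * w⁻¹ = w * v₁ * w⁻¹ * (w * v₂ * w⁻¹) := by group
  rw [e, hwv, hws] at hwz
  exact hq1 (mul_eq_right.1 (mul_left_cancel hwz))

/-- **THEOREM J for CASE 1, case B**: `N₁ ∩ N₂ = {1, v₁, v₂, v₁v₂}`. -/
theorem inter (hI : ∃ x ∈ nc v₁ {v₂}, ∃ y ∈ nc v₂ {v₁}, x * y ≠ y * x) {j : G}
    (hj : j ∈ nc v₁ {v₂}) (hj' : j ∈ nc v₂ {v₁}) :
    j = 1 ∨ j = v₁ ∨ j = v₂ ∨ j = v₁ * v₂ := by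
  rw [h.N1_eq, nc_eq_NN] at hj
  rw [h.symm.N1_eq, nc_eq_NN] at hj'
  exact (h.ctx hI).inter h.tr1 h.tr2 h.vV1 h.v1 h.vV2 h.v2 h.T_le h.pT (h.syl h.T_le le_rfl)
    h.T_le2 hj hj'

/-- The commutators `[x, y]`, `x ∈ N₁`, `y ∈ N₂`, lie in `{1, v₁, v₂, v₁v₂}`. -/
theorem comm_mem (hI : ∃ x ∈ nc v₁ {v₂}, ∃ y ∈ nc v₂ {v₁}, x * y ≠ y * x) {x y : G}
    (hx : x ∈ nc v₁ {v₂}) (hy : y ∈ nc v₂ {v₁}) :
    x * y * x⁻¹ * y⁻¹ = 1 ∨ x * y * x⁻¹ * y⁻¹ = v₁ ∨ x * y * x⁻¹ * y⁻¹ = v₂ ∨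
      x * y * x⁻¹ * y⁻¹ = v₁ * v₂ := by
  have h1 := h.comm_mem_inf hx hy
  exact h.inter hI h1.1 h1.2

end

end One

end Cfsg.Agent.Omega.IId.One

end

section


/-!
# II.d, `q = 2`, CASE 1, case B: (B1) for the configuration `One`

helper304 (helper478 #12430 (B1), helper895 #13722).  `[N₁, N₂] ≠ 1` implies that `N₁ = nc v₁ {v₂}` is the
orthogonal module of `C(v₁)`: `GOrth (cz v₁) (nc v₁ {v₂}) v₂ v₁`.
-/

set_option autoImplicit false
set_option linter.dupNamespace false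

namespace Cfsg.Agent.Omega.IId.One

open Subgroup Cfsg Cfsg.Agent.ZN Cfsg.Agent.ZN.ChoiceBase Cfsg.Agent.Omega.IId.ThmJ
open Cfsg.Agent.Omega.TV

universe u

variable {G : Type u} [Group G]

namespace One

variable [Finite G] {T V₁ V₂ L₁ L₂ : Subgroup G} {v₁ v₂ s : G} (h : One T V₁ V₂ L₁ L₂ v₁ v₂ s)

include h

/-- **(B1) for `One`.** -/
theorem orth_all (hI : ∃ x ∈ nc v₁ {v₂}, ∃ y ∈ nc v₂ {v₁}, x * y ≠ y * x) :
    GOrth (cz v₁) (nc v₁ {v₂}) v₂ v₁ ∧ (∀ v ∈ V₂, Bg (cz v₁) v₂ v₂ v = 0) ∧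
      (∀ y ∈ nc v₂ {v₁}, (∀ n ∈ nc v₁ {v₂}, y * n * y⁻¹ = n) ∨ ∀ n ∈ nc v₁ {v₂},
        (Bg (cz v₁) v₂ v₂ n = 0 ∧ y * n * y⁻¹ = n) ∨
          (Bg (cz v₁) v₂ v₂ n = 1 ∧ y * n * y⁻¹ = n * (v₂ * v₁))) := by
  have e1 : NN V₂ v₁ = nc v₁ {v₂} := by rw [← nc_eq_NN, ← h.N1_eq]
  have e2 : NN V₁ v₂ = nc v₂ {v₁} := by rw [← nc_eq_NN, ← h.symm.N1_eq]
  have main := (h.ctx hI).orth h.tr1 h.tr2 h.vV1 h.v1 h.vV2 h.v2 h.T_le h.pT (h.syl h.T_le le_rfl)
    h.T_le2 (fun n hn hc => h.N1_fix (by rw [← e1]; exact hn) hc)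
    (by
      obtain ⟨x, hx, y, hy, hne⟩ := hI
      exact ⟨x, by rw [e1]; exact hx, y, by rw [e2]; exact hy, hne⟩)
  rwa [e1, e2] at main

theorem orth (hI : ∃ x ∈ nc v₁ {v₂}, ∃ y ∈ nc v₂ {v₁}, x * y ≠ y * x) :
    GOrth (cz v₁) (nc v₁ {v₂}) v₂ v₁ := (h.orth_all hI).1

omit [Finite G] in
theorem Q_V2 {x : G} (hx : x ∈ V₂) : Qg (cz v₁) v₂ x = 0 := by
  by_cases hx1 : x = 1
  · rw [hx1]; exact Qg_one
  · obtain ⟨l, hl, e⟩ := h.t2 v₂ h.vV2 h.v2 x hx hx1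
    rw [← e]
    exact Qg_conj (h.L2_le hl)

omit [Finite G] in
/-- `V₂` is totally singular. -/
theorem B_V2 {v w : G} (hv : v ∈ V₂) (hw : w ∈ V₂) : Bg (cz v₁) v₂ v w = 0 := by
  unfold Bg
  rw [h.Q_V2 hv, h.Q_V2 hw, h.Q_V2 (mul_mem hv hw), add_zero, add_zero]

end One

end Cfsg.Agent.Omega.IId.One

end

section


/-!
# II.d, CASE 1, `q = 2`: `F₁ = C(N₁)` normalises `V₁` (bb OMEGA #15930 (A))

helper310.  `One`, `[N₁, N₂] ≠ 1` : every element of `C_G(v₁)` centralising `N₁` normalises `V₁`.  [Otherwise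
`A = ⟨V₁^{F₁}⟩ ≤ N₂` is normal in `C₁`, `D = C_{C₁}(A) ≥ N₂` is transitive on `v₂^{C₁}` and normalises `N₁^l`, `l ∈ L₁`:
`N₁ ≤ N₁^l`, against `v₁ ∉ N₁^l`.]
-/

set_option autoImplicit false
set_option linter.unusedSectionVars false
set_option linter.unusedVariables false

namespace Cfsg.Agent.Omega.IId.PlaneF

open Cfsg.Agent.Omega.TV hiding z2
open Subgroup Cfsg Cfsg.Agent.ZN Cfsg.Agent.Omega.IId.PlaneSy Cfsg.Agent.Omega.IId.PlaneRk
open Cfsg.Agent.Omega.IId.One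
open Cfsg.Agent.Omega.IId.Two (le_normalizer_of)
open scoped Pointwise

universe u

variable {G : Type u} [Group G]

section

variable [Finite G] {T V₁ V₂ L₁ L₂ : Subgroup G} {v₁ v₂ s : G} (h : One T V₁ V₂ L₁ L₂ v₁ v₂ s)

include h

/-- an element of `V₁ ∖ ⟨v₁⟩` -/
theorem exists_x : ∃ x ∈ V₁, x ≠ 1 ∧ x ≠ v₁ := by
  obtain ⟨w, hw, x, hx, hne⟩ := h.k1
  exact ⟨x, hx, fun e => hne (by rw [e]; group), fun e => hne (by rw [e]; exact mem_cz.1 hw.1)⟩

omit [Finite G] in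
/-- `Q₁` is zero on `V₂`, for every pair with the same `T`, `v₁`, `v₂` -/
theorem Q_zero {T' V₁' V₂' L₁' L₂' : Subgroup G} (h' : Base T' V₁' V₂' L₁' L₂' v₁ v₂ s) {x : G} (hx : x ∈ V₂') :
    Qg (cz v₁) v₂ x = 0 := by
  by_cases hx1 : x = 1
  · rw [hx1]; exact Qg_one
  · obtain ⟨l, hl, e⟩ := h'.t2 v₂ h'.vV2 h'.v2 x hx hx1
    rw [← e]
    exact Qg_conj (h'.L2_le hl)

omit [Finite G] in
theorem B_zero {T' V₁' V₂' L₁' L₂' : Subgroup G} (h' : Base T' V₁' V₂' L₁' L₂' v₁ v₂ s) {x y : G} (hx : x ∈ V₂')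
    (hy : y ∈ V₂') : Bg (cz v₁) v₂ x y = 0 := by
  unfold Bg
  rw [Q_zero h h' hx, Q_zero h h' hy, Q_zero h h' (mul_mem hx hy), add_zero, add_zero]

/-- `C₁ = ⟨M, L₂⟩` -/
theorem gen (o : GOrth (cz v₁) (nc v₁ {v₂}) v₂ v₁) : cz v₁ ≤ (cz v₁ ⊓ cz v₂) ⊔ L₂ := by
  have hs := sy_of o
  obtain ⟨u, hu, hu1, huv⟩ := exists_x h.symm
  obtain ⟨l, hl, e⟩ := h.t2 v₂ h.vV2 h.v2 u hu hu1
  refine hs.perp_gen (p := v₂) (k := l) o.r_mem ?_ ?_ (mem_sup_right hl) (h.L2_le hl) ?_ ?_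
  · intro e
    rcases (mem_zp2 h.vq1).1 e with e | e
    · exact h.v2 e
    · exact h.ne e.symm
  · intro g hg e
    apply mem_sup_left
    refine ⟨hg, ?_⟩
    have hgN := o.nor g hg v₂ o.r_mem
    rcases (mem_zp2 h.vq1).1 e with e | e
    · have e1 : g * v₂ * g⁻¹ = v₂ := by
        calc g * v₂ * g⁻¹ = g * v₂ * g⁻¹ * v₂ * v₂ := by rw [mul_assoc _ v₂ v₂, h.vq2, mul_one]
          _ = v₂ := by rw [e, one_mul]
      exact mem_cz.2 (mul_inv_eq_iff_eq_mul.1 e1)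
    · exfalso
      have e1 : g * v₂ * g⁻¹ = v₂ * v₁ := by
        calc g * v₂ * g⁻¹ = g * v₂ * g⁻¹ * v₂ * v₂ := by rw [mul_assoc _ v₂ v₂, h.vq2, mul_one]
          _ = v₂ * v₁ := by rw [e, h.vc]
      have h1 : Qg (cz v₁) v₂ (g * v₂ * g⁻¹) = 0 := Qg_conj hg
      rw [e1, o.Qmulc o.r_mem, Qg_self] at h1
      exact absurd h1 (by decide)
  · rw [e]; exact B_zero h h.toBase h.vV2 hu
  · rw [e]
    intro e2
    rcases (mem_zp2 h.vq1).1 e2 with e3 | e3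
    · apply huv
      calc u = v₂ * (v₂ * u) := by rw [← mul_assoc, h.vq2, one_mul]
        _ = v₂ := by rw [e3, mul_one]
    · exact h.v1 (h.inf _ h.vV1 (e3 ▸ mul_mem h.vV2 hu))

section point

variable (o : GOrth (cz v₂) (nc v₂ {v₁}) v₁ v₂)
include o

theorem mem_yr' {y : G} (hy : y ∈ yr (sy_of o) o.r_mem) : y = 1 ∨ y = v₂ ∨ y = v₁ ∨ y = v₁ * v₂ := by
  rcases hy with hy | ⟨hy, hy'⟩
  · rcases (mem_zp2 h.vq2).1 hy with e | e
    · exact Or.inl e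
    · exact Or.inr (Or.inl e)
  · rcases (mem_zp2 h.vq2).1 hy' with e | e
    · right; right; left
      calc y = y * v₁ * v₁ := by rw [mul_assoc, h.vq1, mul_one]
        _ = v₁ := by rw [e, one_mul]
    · right; right; right
      calc y = y * v₁ * v₁ := by rw [mul_assoc, h.vq1, mul_one]
        _ = v₁ * v₂ := by rw [e, h.vc]

theorem v1_yr : v₁ ∈ yr (sy_of o) o.r_mem :=
  Or.inr ⟨o.r_mem, by rw [h.vq1]; exact one_mem _⟩

/-- the point of a `T`-invariant line -/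
theorem pt_mem {V₁' V₂' L₁' L₂' : Subgroup G} (h' : Base T V₁' V₂' L₁' L₂' v₁ v₂ s) {x : G} (hx : x ∈ V₁')
    (hx1 : x ≠ 1) (hxv : x ≠ v₁) : x ∈ (sy_of o).pp o.r_mem ∧ x ∉ yr (sy_of o) o.r_mem := by
  refine ⟨⟨h'.V1_le_N2 hx, B_zero h.symm h'.symm h'.vV1 hx⟩, fun e => ?_⟩
  rcases mem_yr' h o e with e | e | e | e
  · exact hx1 e
  · exact h'.v2 (h'.inf _ (e ▸ hx) h'.vV2)
  · exact hxv e
  · apply h'.v2
    refine h'.inf _ ?_ h'.vV2
    have e2 : v₂ = v₁⁻¹ * x := by rw [e]; group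
    rw [e2]
    exact mul_mem (inv_mem h'.vV1) hx

/-- the points over `yr` have two singular vectors: `y`, `v₁y` -/
theorem sing_of {x y : G} (hx : x ∈ nc v₂ {v₁}) (hxv : Bg (cz v₂) v₁ v₁ x = 0) (hy : y ∈ nc v₂ {v₁})
    (hQx : Qg (cz v₂) v₁ x = 0) (hQy : Qg (cz v₂) v₁ y = 0) (e : y * x ∈ yr (sy_of o) o.r_mem) :
    y = x ∨ y = v₁ * x := by
  have hxx := o.sq x hx
  have hyx : ∀ t, y * x = t → y = t * x := fun t e => by
    rw [← e, mul_assoc, hxx, mul_one]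
  have hQv : Qg (cz v₂) v₁ (v₁ * x) = 0 := by
    rw [GOrth.Q_mul, Qg_self, hQx, hxv]; decide
  have hv1x : v₁ * x ∈ nc v₂ {v₁} := mul_mem o.r_mem hx
  rcases mem_yr' h o e with e | e | e | e
  · left; rw [hyx _ e, one_mul]
  · exfalso
    rw [hyx _ e, (sy_of o).mc o.c_mem hx, o.Qmulc hx, hQx] at hQy
    exact absurd hQy (by decide)
  · exact Or.inr (hyx _ e)
  · exfalso
    have e2 : v₁ * v₂ * x = v₁ * x * v₂ := by
      rw [mul_assoc, (sy_of o).mc o.c_mem hx, mul_assoc]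
    rw [hyx _ e, e2, o.Qmulc hv1x, hQv] at hQy
    exact absurd hQy (by decide)

/-- The stabiliser of the point `x` in `M` is `N_M(V₁)`. -/
theorem stab_iff {x g : G} (hx : x ∈ V₁) (hx1 : x ≠ 1) (hxv : x ≠ v₁) (hg : g ∈ cz v₂ ⊓ cz v₁) :
    g * x * g⁻¹ * x ∈ yr (sy_of o) o.r_mem ↔ g ∈ normalizer (V₁ : Set G) := by
  have hxN := h.V1_le_N2 hx
  have hB := B_zero h.symm h.toBase.symm h.vV1 hx
  have hQ := Q_zero h.symm h.toBase.symm hx
  have hgv : g * v₁ * g⁻¹ = v₁ := by rw [mem_cz.1 hg.2, mul_inv_cancel_right]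
  constructor
  · intro e
    have h1 := sing_of h o hxN hB (o.nor g hg.1 x hxN) hQ (by rw [o.inv g hg.1 x hxN, hQ]) e
    have h2 : g * x * g⁻¹ ∈ V₁ := by
      rcases h1 with h1 | h1
      · rw [h1]; exact hx
      · rw [h1]; exact mul_mem h.vV1 hx
    apply SpSide.mem_normalizer_of_conj
    apply Subgroup.eq_of_le_of_card_ge
    · rintro _ ⟨y, hy, rfl⟩
      show g * y * g⁻¹ ∈ V₁
      rcases h.toBase.mem_V1 hy hx hx1 hxv with rfl | rfl | rfl | rfl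
      · simp
      · rw [hgv]; exact h.vV1
      · exact h2
      · have e3 : g * (v₁ * x) * g⁻¹ = g * v₁ * g⁻¹ * (g * x * g⁻¹) := by group
        rw [e3, hgv]
        exact mul_mem h.vV1 h2
    · exact (SpSide.Side.card_conj g V₁).symm.le
  · intro hn
    have h1 := (mem_normalizer_iff.1 hn x).1 hx
    rcases h.toBase.conj1 hg.2 h1 hx with e | e
    · rw [e, h.q1 x hx]; exact one_mem _
    · rw [e, mul_assoc, h.q1 x hx, mul_one]; exact v1_yr h o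

/-- `F₁` transitive on `V₁^M`: `⟨V₁^{F₁}⟩` is normal in `C₁`. -/
theorem norm_of (o₁ : GOrth (cz v₁) (nc v₁ {v₂}) v₂ v₁)
    (ht : ∀ m ∈ cz v₁ ⊓ cz v₂, ∃ f ∈ cz v₁ ⊓ centralizer (nc v₁ {v₂} : Set G), f⁻¹ * m ∈ normalizer (V₁ : Set G)) :
    ∃ A : Subgroup G, V₁ ≤ A ∧ A ≤ nc v₂ {v₁} ∧ cz v₁ ≤ normalizer (A : Set G) := by
  set F := cz v₁ ⊓ centralizer (nc v₁ {v₂} : Set G) with hF
  set N : Subgroup G := closure {y : G | ∃ f ∈ F, ∃ a ∈ V₁, y = f * a * f⁻¹} with hN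
  have hsub : ∀ f ∈ F, ∀ a ∈ V₁, f * a * f⁻¹ ∈ N := fun f hf a ha => subset_closure ⟨f, hf, a, ha, rfl⟩
  have hV : V₁ ≤ N := fun a ha => by simpa using hsub 1 (one_mem _) a ha
  have hFM : F ≤ cz v₁ ⊓ cz v₂ := h.F1_le
  have hnorm : ∀ g ∈ cz v₁, (∀ f ∈ F, ∀ a ∈ V₁, g * (f * a * f⁻¹) * g⁻¹ ∈ N) → g ∈ normalizer (N : Set G) := by
    intro g hg hga
    apply Cfsg.Agent.MinSimple.VModule.mem_normalizer_of_map_le
    rw [hN, MonoidHom.map_closure, closure_le]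
    rintro _ ⟨y, ⟨f, hf, a, ha, rfl⟩, rfl⟩
    exact hga f hf a ha
  have hM : cz v₁ ⊓ cz v₂ ≤ normalizer (N : Set G) := by
    intro m hm
    refine hnorm m hm.1 fun f hf a ha => ?_
    obtain ⟨f', hf', h1⟩ := ht (m * f) (mul_mem hm (hFM hf))
    have e : m * (f * a * f⁻¹) * m⁻¹ = f' * ((f'⁻¹ * (m * f)) * a * (f'⁻¹ * (m * f))⁻¹) * f'⁻¹ := by group
    rw [e]
    exact hsub f' hf' _ ((mem_normalizer_iff.1 h1 a).1 ha)
  have hL : L₂ ≤ normalizer (N : Set G) := by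
    intro l hl
    refine hnorm l (h.L2_le hl) fun f hf a ha => ?_
    have h1 : l * f * l⁻¹ ∈ F := (mem_normalizer_iff.1 (h.F1_norm (h.L2_le hl)) f).1 hf
    have e : l * (f * a * f⁻¹) * l⁻¹ = (l * f * l⁻¹) * (l * a * l⁻¹) * (l * f * l⁻¹)⁻¹ := by group
    have e2 : l * a * l⁻¹ = a := by rw [h.L21 l hl a ha, mul_inv_cancel_right]
    rw [e, e2]
    exact hsub _ h1 a ha
  refine ⟨N, hV, ?_, (gen h o₁).trans (sup_le hM hL)⟩
  rw [hN, closure_le]
  rintro _ ⟨f, hf, a, ha, rfl⟩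
  exact (mem_normalizer_iff.1 (le_normalizer_nc v₂ {v₁} (hFM hf).2) a).1 (h.V1_le_N2 ha)

/-- **(A)** `F₁ ≤ N_G(V₁)`. -/
theorem F_le (o₁ : GOrth (cz v₁) (nc v₁ {v₂}) v₂ v₁)
    (hI : ∃ x ∈ nc v₁ {v₂}, ∃ y ∈ nc v₂ {v₁}, x * y ≠ y * x) {v' w l : G}
    (S : SpSide.Side V₁ V₂ (nc v₁ {v₂}) v₁ v' w l) :
    cz v₁ ⊓ centralizer (nc v₁ {v₂} : Set G) ≤ normalizer (V₁ : Set G) := by
  intro f hf
  by_contra hfn
  obtain ⟨x, hx, hx1, hxv⟩ := exists_x h
  have hs := sy_perp (sy_of o) o.r_mem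
  set F := cz v₁ ⊓ centralizer (nc v₁ {v₂} : Set G) with hF
  have hFM : F ≤ cz v₂ ⊓ cz v₁ := fun g hg => ⟨(h.F1_le hg).2, (h.F1_le hg).1⟩
  have hFn : ∀ m ∈ cz v₂ ⊓ cz v₁, ∀ k ∈ F, m * k * m⁻¹ ∈ F := fun m hm k hk =>
    (mem_normalizer_iff.1 (h.F1_norm hm.2) k).1 hk
  obtain ⟨hxp, hxy⟩ := pt_mem h o h.toBase hx hx1 hxv
  have htr : ∀ q ∈ (sy_of o).pp o.r_mem, q ∉ yr (sy_of o) o.r_mem → ∃ g ∈ F, g * x * g⁻¹ * q ∈ yr (sy_of o) o.r_mem :=
    fun q hq hqy => hs.norm_trans hFM hFn hxp hxy hf (fun e => hfn ((stab_iff h o hx hx1 hxv (hFM hf)).1 e)) hq hqy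
  have ht : ∀ m ∈ cz v₁ ⊓ cz v₂, ∃ f ∈ F, f⁻¹ * m ∈ normalizer (V₁ : Set G) := by
    intro m hm
    have hm' : m ∈ cz v₂ ⊓ cz v₁ := ⟨hm.2, hm.1⟩
    have h1 : m * x * m⁻¹ ∉ yr (sy_of o) o.r_mem := fun e => hxy (by
      have := hs.norY' hm' e
      have e2 : m⁻¹ * (m * x * m⁻¹) * m = x := by group
      rwa [e2] at this)
    obtain ⟨g, hg, e⟩ := htr _ (hs.nor m hm' x hxp) h1
    refine ⟨g, hg, (stab_iff h o hx hx1 hxv (mul_mem (inv_mem (hFM hg)) hm')).1 ?_⟩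
    have h2 := hs.norY' (hFM hg) (hs.eqv_symm (hs.nor g (hFM hg) x hxp) (hs.nor m hm' x hxp) e)
    have e2 : g⁻¹ * (m * x * m⁻¹ * (g * x * g⁻¹)) * g = g⁻¹ * m * x * (g⁻¹ * m)⁻¹ * x := by group
    rwa [e2] at h2
  obtain ⟨A, hVA, hAN, hnA⟩ := norm_of h o o₁ ht
  -- `D = C_{C₁}(A)`
  set D : Subgroup G := cz v₁ ⊓ centralizer (A : Set G) with hD
  have hDn : ∀ m ∈ cz v₁, ∀ k ∈ D, m * k * m⁻¹ ∈ D := by
    intro m hm k hk
    refine mem_inf.2 ⟨mul_mem (mul_mem hm hk.1) (inv_mem hm), mem_centralizer_iff.2 fun a ha => ?_⟩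
    have h1 := (mem_normalizer_iff.1 (inv_mem (hnA hm)) a).1 ha
    rw [inv_inv] at h1
    have h2 := mem_centralizer_iff.1 hk.2 _ h1
    calc a * (m * k * m⁻¹) = m * (m⁻¹ * a * m * k) * m⁻¹ := by group
      _ = m * (k * (m⁻¹ * a * m)) * m⁻¹ := by rw [h2]
      _ = m * k * m⁻¹ * a := by group
  have hN2D : nc v₂ {v₁} ≤ D := fun y hy => ⟨h.T_le (h.symm.N1_le_T hy), mem_centralizer_iff.2 fun a ha =>
    h.symm.N1_comm (hAN ha) hy⟩
  -- `D` moves a point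
  have hs1 := sy_of o₁
  have v2Y : v₂ ∉ zpowers v₁ := fun e => by
    rcases (mem_zp2 h.vq1).1 e with e | e
    · exact h.v2 e
    · exact h.ne e.symm
  obtain ⟨d, hd, hdv⟩ : ∃ d ∈ D, d * v₂ * d⁻¹ * v₂ ∉ zpowers v₁ := by
    obtain ⟨n, hn, y, hy, hne⟩ := hI
    have hyD := hN2D hy
    -- `y` moves `n`
    obtain ⟨q, hq, hqB⟩ := hs1.sep1 hn fun e => by
      rcases (mem_zp2 h.vq1).1 e with e | e
      · exact hne (by rw [e]; group)
      · exact hne (by rw [e]; exact (mem_cz.1 hyD.1).symm)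
    by_contra hcon
    push Not at hcon
    -- `D` fixes all points
    have hfix : ∀ c ∈ cz v₁, ∀ d ∈ D, d * (c * v₂ * c⁻¹) * d⁻¹ = c * v₂ * c⁻¹ := by
      intro c hc d hd
      have h1 : c⁻¹ * d * c ∈ D := by
        have := hDn c⁻¹ (inv_mem hc) d hd
        rwa [inv_inv] at this
      have h2 := hcon _ h1
      have h3 : c⁻¹ * d * c * v₂ * (c⁻¹ * d * c)⁻¹ = v₂ := by
        rcases (mem_zp2 h.vq1).1 h2 with e | e
        · calc c⁻¹ * d * c * v₂ * (c⁻¹ * d * c)⁻¹ = c⁻¹ * d * c * v₂ * (c⁻¹ * d * c)⁻¹ * v₂ * v₂ := by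
                rw [mul_assoc _ v₂ v₂, h.vq2, mul_one]
            _ = v₂ := by rw [e, one_mul]
        · exfalso
          have e1 : c⁻¹ * d * c * v₂ * (c⁻¹ * d * c)⁻¹ = v₂ * v₁ := by
            calc c⁻¹ * d * c * v₂ * (c⁻¹ * d * c)⁻¹ = c⁻¹ * d * c * v₂ * (c⁻¹ * d * c)⁻¹ * v₂ * v₂ := by
                  rw [mul_assoc _ v₂ v₂, h.vq2, mul_one]
              _ = v₂ * v₁ := by rw [e, h.vc]
          have h1 : Qg (cz v₁) v₂ (c⁻¹ * d * c * v₂ * (c⁻¹ * d * c)⁻¹) = 0 := Qg_conj h1.1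
          rw [e1, o₁.Qmulc o₁.r_mem, Qg_self] at h1
          exact absurd h1 (by decide)
      calc d * (c * v₂ * c⁻¹) * d⁻¹ = c * (c⁻¹ * d * c * v₂ * (c⁻¹ * d * c)⁻¹) * c⁻¹ := by group
        _ = c * v₂ * c⁻¹ := by rw [h3]
    apply hne
    have h4 : nc v₁ {v₂} ≤ cz y := by
      rw [nc, closure_le]
      rintro _ ⟨c, hc, a, ha, rfl⟩
      rw [Set.mem_singleton_iff.1 ha]
      exact mem_cz.2 (mul_inv_eq_iff_eq_mul.1 (hfix c hc y hyD)).symm
    exact mem_cz.1 (h4 hn)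
  -- `D` is transitive on `v₂^{C₁}`
  have hDtr : ∀ c ∈ cz v₁, ∃ d ∈ D, d * v₂ * d⁻¹ = c * v₂ * c⁻¹ := by
    intro c hc
    have hcv := o₁.nor c hc v₂ o₁.r_mem
    obtain ⟨g, hg, e⟩ := hs1.norm_trans (inf_le_left : D ≤ cz v₁) hDn o₁.r_mem v2Y hd hdv hcv fun e => v2Y (by
      have := hs1.norY' hc e
      have e2 : c⁻¹ * (c * v₂ * c⁻¹) * c = v₂ := by group
      rwa [e2] at this)
    refine ⟨g, hg, ?_⟩
    have hcc := o₁.sq _ hcv
    rcases (mem_zp2 h.vq1).1 e with e | e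
    · calc g * v₂ * g⁻¹ = g * v₂ * g⁻¹ * (c * v₂ * c⁻¹) * (c * v₂ * c⁻¹) := by
            rw [mul_assoc _ (c * v₂ * c⁻¹) _, hcc, mul_one]
        _ = c * v₂ * c⁻¹ := by rw [e, one_mul]
    · exfalso
      have e1 : g * v₂ * g⁻¹ = c * v₂ * c⁻¹ * v₁ := by
        calc g * v₂ * g⁻¹ = g * v₂ * g⁻¹ * (c * v₂ * c⁻¹) * (c * v₂ * c⁻¹) := by
              rw [mul_assoc _ (c * v₂ * c⁻¹) _, hcc, mul_one]
          _ = c * v₂ * c⁻¹ * v₁ := by rw [e, hs1.mc o₁.c_mem hcv]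
      have h1 : Qg (cz v₁) v₂ (g * v₂ * g⁻¹) = 0 := Qg_conj hg.1
      rw [e1, o₁.Qmulc hcv, Qg_conj hc] at h1
      exact absurd h1 (by decide)
  -- `N₁ ≤ N₁^l`
  have hv2 : v₂ ∈ MulAut.conj l • nc v₁ {v₂} := S.W_le_N' h.vV2
  have hDV : D ≤ centralizer ({v'} : Set G) := fun d hd => SpSide.mem_centralizer_singleton.2
    (mem_centralizer_iff.1 hd.2 v' (hVA S.v'V)).symm
  have hle : nc v₁ {v₂} ≤ MulAut.conj l • nc v₁ {v₂} := by
    conv_lhs => rw [nc]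
    rw [closure_le]
    rintro _ ⟨c, hc, a, ha, rfl⟩
    rw [Set.mem_singleton_iff.1 ha]
    obtain ⟨d, hd, e⟩ := hDtr c hc
    rw [← e]
    exact (mem_normalizer_iff.1 (S.nor' (hDV hd)) _).1 hv2
  exact S.v_not_mem (hle o₁.c_mem)

end point

end

end Cfsg.Agent.Omega.IId.PlaneF

end

end
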